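import Cfsg.Agent.H701.ZerosCols
import Cfsg.Agent.H621.AltChar
import Cfsg.Agent.H180.KM11Cube
import Cfsg.Agent.H180.KMathieu
import Cfsg.Agent.S3594
import Cfsg.Agent.M23.SylowEleven
import Cfsg.Agent.M23.Sylow23
import Cfsg.Agent.MTwelve.SylowEleven
import Cfsg.Agent.H603.SporElim
import Cfsg.Agent.S0366
import Cfsg.Agent.SporadicA.MathieuRecog
import Cfsg.Agent.H729.PairMathieu
import Cfsg.Agent.FooteOdd.SporMTwelve
import Cfsg.Agent.Prune
set_option linter.all false
prune_inst 0x7f00000000000000000000000000000000000000000000000000000000000000000000000000000000000000000000000000000000000000000000000000000000000000000000000000000000000000003fffffffffffffffffffffffffffbeffbdffffffff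
open scoped Cfsg.Agent.FastGrp

-- part: H701/ZerosFour
section
/-!
# Zeros of the three small characters of a `4`-transitive group (S4895)
-/

set_option autoImplicit false

namespace Cfsg.Agent.H701.ZFour

open Cfsg Cfsg.Agent.H504.Zeros Cfsg.Agent.H621.AltChar

/-- the characters `f - 1`, `(f² - 3 f + u) / 2`, `(f² - 3 f + 2 - u) / 2` of a `4`-transitive group -/
theorem big_of_four {G Ω : Type*} [Group G] [Finite G] [MulAction G Ω] [Finite Ω] (hN : 7 ≤ Nat.card Ω)
    (h4 : MulAction.IsMultiplyPretransitive G Ω 4) (s1 s2 s3 : Finset G) (n1 : NonConj s1) (n2 : NonConj s2)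
    (n3 : NonConj s3) (z1 : ∀ g ∈ s1, nf Ω g = 1) (z2 : ∀ g ∈ s2, nf Ω g * nf Ω g + nu Ω g = 3 * nf Ω g)
    (z3 : ∀ g ∈ s3, nf Ω g * nf Ω g + 2 = 3 * nf Ω g + nu Ω g) (c1 : 1 ≤ s1.card) (c2 : 1 ≤ s2.card)
    (c3 : 1 ≤ s3.card) (h : 8 ≤ (s1.card - 1) + (s2.card - 1) + (s3.card - 1)) : Big G := by
  classical
  have := Fintype.ofFinite G
  obtain ⟨n, hn⟩ : ∃ n, Nat.card Ω = n := ⟨_, rfl⟩
  have i1 := irr_one (G := G) (Ω := Ω) (by omega) h4
  have i2 := irr_a (G := G) (Ω := Ω) (by omega) h4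
  have i3 := irr_b (G := G) (Ω := Ω) (by omega) h4
  let χ1 : IrrCharacter G := ⟨_, i1⟩
  let χ2 : IrrCharacter G := ⟨_, i2⟩
  let χ3 : IrrCharacter G := ⟨_, i3⟩
  have y1 : ∀ g ∈ s1, (χ1 : G → ℂ) g = 0 := by
    intro g hg
    show ((nf Ω g : ℕ) : ℂ) - 1 = 0
    rw [z1 g hg, Nat.cast_one, sub_self]
  have y2 : ∀ g ∈ s2, (χ2 : G → ℂ) g = 0 := by
    intro g hg
    show (((nf Ω g : ℕ) : ℂ) ^ 2 - 3 * ((nf Ω g : ℕ) : ℂ) + ((nu Ω g : ℕ) : ℂ)) / 2 = 0
    have b' : ((nf Ω g : ℕ) : ℂ) * ((nf Ω g : ℕ) : ℂ) + ((nu Ω g : ℕ) : ℂ) = 3 * ((nf Ω g : ℕ) : ℂ) := by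
      exact_mod_cast z2 g hg
    linear_combination b' / 2
  have y3 : ∀ g ∈ s3, (χ3 : G → ℂ) g = 0 := by
    intro g hg
    show (((nf Ω g : ℕ) : ℂ) ^ 2 - 3 * ((nf Ω g : ℕ) : ℂ) + 2 - ((nu Ω g : ℕ) : ℂ)) / 2 = 0
    have b' : ((nf Ω g : ℕ) : ℂ) * ((nf Ω g : ℕ) : ℂ) + 2 = 3 * ((nf Ω g : ℕ) : ℂ) + ((nu Ω g : ℕ) : ℂ) := by
      exact_mod_cast z3 g hg
    linear_combination b' / 2
  have e1 := le_zc (χ := χ1) n1 y1
  have e2 := le_zc (χ := χ2) n2 y2
  have e3 := le_zc (χ := χ3) n3 y3
  have hne : ∀ (s : Finset G) (χ : IrrCharacter G), 1 ≤ s.card → (∀ g ∈ s, (χ : G → ℂ) g = 0) →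
      charDegree (χ : G → ℂ) ≠ 1 := by
    intro s χ hs hz
    obtain ⟨g, hg⟩ := Finset.card_pos.1 (show 0 < s.card by omega)
    exact nonlinear_of_zero (hz _ hg)
  have o1 : (χ1 : G → ℂ) 1 = (n : ℂ) - 1 := by
    show ((nf Ω (1 : G) : ℕ) : ℂ) - 1 = _
    rw [nf_one, hn]
  have o2 : (χ2 : G → ℂ) 1 = ((n : ℂ) ^ 2 - 3 * n) / 2 := by
    show (((nf Ω (1 : G) : ℕ) : ℂ) ^ 2 - 3 * ((nf Ω (1 : G) : ℕ) : ℂ) + ((nu Ω (1 : G) : ℕ) : ℂ)) / 2 = _
    rw [nf_one, nu_one, hn, Nat.cast_zero, add_zero]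
  have o3 : (χ3 : G → ℂ) 1 = ((n : ℂ) ^ 2 - 3 * n + 2) / 2 := by
    show (((nf Ω (1 : G) : ℕ) : ℂ) ^ 2 - 3 * ((nf Ω (1 : G) : ℕ) : ℂ) + 2 - ((nu Ω (1 : G) : ℕ) : ℂ)) / 2 = _
    rw [nf_one, nu_one, hn, Nat.cast_zero, sub_zero]
  have n12 : χ1 ≠ χ2 := by
    intro e
    have h5 : ((n : ℂ) - 1) = ((n : ℂ) ^ 2 - 3 * n) / 2 := by rw [← o1, ← o2, e]
    have h6 : ((n * n + 2 : ℕ) : ℂ) = ((5 * n : ℕ) : ℂ) := by
      push_cast
      linear_combination -2 * h5
    have h7 : n * n + 2 = 5 * n := by exact_mod_cast h6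
    nlinarith only [hN, hn, h7]
  have n13 : χ1 ≠ χ3 := by
    intro e
    have h5 : ((n : ℂ) - 1) = ((n : ℂ) ^ 2 - 3 * n + 2) / 2 := by rw [← o1, ← o3, e]
    have h6 : ((n * n + 4 : ℕ) : ℂ) = ((5 * n : ℕ) : ℂ) := by
      push_cast
      linear_combination -2 * h5
    have h7 : n * n + 4 = 5 * n := by exact_mod_cast h6
    nlinarith only [hN, hn, h7]
  have n23 : χ2 ≠ χ3 := by
    intro e
    have h5 : ((n : ℂ) ^ 2 - 3 * n) / 2 = ((n : ℂ) ^ 2 - 3 * n + 2) / 2 := by rw [← o2, ← o3, e]
    have h6 : (0 : ℂ) = 1 := by linear_combination h5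
    exact zero_ne_one h6
  refine big_of_sum {χ1, χ2, χ3} (fun χ => if χ = χ1 then s1.card else if χ = χ2 then s2.card else s3.card) ?_ ?_ ?_
  · intro χ hχ
    rw [Finset.mem_insert, Finset.mem_insert, Finset.mem_singleton] at hχ
    rcases hχ with rfl | rfl | rfl
    · exact hne s1 _ c1 y1
    · exact hne s2 _ c2 y2
    · exact hne s3 _ c3 y3
  · intro χ hχ
    rw [Finset.mem_insert, Finset.mem_insert, Finset.mem_singleton] at hχ
    rcases hχ with rfl | rfl | rfl
    · rw [if_pos rfl]; exact e1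
    · rw [if_neg n12.symm, if_pos rfl]; exact e2
    · rw [if_neg n13.symm, if_neg n23.symm]; exact e3
  · rw [Finset.sum_insert (by simp [n12, n13]), Finset.sum_insert (by simp [n23]), Finset.sum_singleton,
      if_pos rfl, if_neg n12.symm, if_pos rfl, if_neg n13.symm, if_neg n23.symm]
    omega

end Cfsg.Agent.H701.ZFour
end

-- part: H701/ZerosMathieu
section
/-!
# Zeros of characters of the Mathieu groups (S4895, row Mathieu)
-/

set_option autoImplicit false

namespace Cfsg.Agent.H701.ZMathieu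

open Cfsg Subgroup Cfsg.Agent.H504.Zeros Cfsg.Agent.H504.ZeroTI Cfsg.Agent.SporadicA.GolayBase
open Cfsg.Agent.J4Type.CocodeMask Cfsg.Agent.H92.KTools Cfsg.Agent.H180.KMathieu
open Cfsg.Agent.SporadicA.GolayPerm hiding pcomp papp_pcomp

/-! ### tools -/

/-- a self-centralizing Sylow subgroup of prime order -/
theorem card_cent_of_sylow {G : Type*} [Group G] [Finite G] {r n : ℕ} (hr : r.Prime) (hn : Nat.card G = r * n)
    (hd : ¬ r ∣ n) (h : ∀ P : Sylow r G, centralizer (P : Set G) = (P : Subgroup G)) {x : G} (hx : orderOf x = r) :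
    Nat.card (centralizer ({x} : Set G)) = r := by
  have : Fact r.Prime := ⟨hr⟩
  have hz : Nat.card (zpowers x) = r := by rw [Nat.card_zpowers, hx]
  obtain ⟨P, hP⟩ := (IsPGroup.of_card (n := 1) (by rw [hz, pow_one]) : IsPGroup r (zpowers x)).exists_le_sylow
  have hPc : Nat.card (P : Subgroup G) = r := by
    obtain ⟨m, hm⟩ := IsPGroup.iff_card.1 P.2
    have h1 : r ^ m ∣ r * n := by rw [← hm, ← hn]; exact card_subgroup_dvd_card _
    have h2 : r ∣ r ^ m := by
      have h2' := card_dvd_of_le hP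
      rwa [hz, hm] at h2'
    have h3 : m ≤ 1 := by
      by_contra hm1
      apply hd
      have h4 : r ^ 2 ∣ r * n := (pow_dvd_pow r (by omega)).trans h1
      rw [pow_two] at h4
      exact Nat.dvd_of_mul_dvd_mul_left hr.pos h4
    have h4 : m ≠ 0 := by
      rintro rfl
      rw [pow_zero] at h2
      exact hr.one_lt.ne' (Nat.dvd_one.1 h2)
    rw [hm, show m = 1 by omega, pow_one]
  have hPz : zpowers x = P := eq_of_le_of_card_ge hP (by rw [hPc, hz])
  have h5 : centralizer ({x} : Set G) = centralizer ((zpowers x : Subgroup G) : Set G) := by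
    rw [zpowers_eq_closure, centralizer_closure]
  rw [h5, hPz]
  have h6 : centralizer ((P : Subgroup G) : Set G) = (P : Subgroup G) := h P
  rw [h6, hPc]

/-- further columns given by element orders -/
theorem big_of_prime_orders {G : Type*} [Group G] [Finite G] {x : G} {r n e m k : ℕ} (hr : r.Prime)
    (hx : orderOf x = r) (hc : Nat.card (Subgroup.centralizer ({x} : Set G)) = r) (hn : Nat.card G = r * n)
    (he : n % r = e) (hm : 2 ≤ m) (hem : r = e * m + 1) (s : Finset ℕ) (hs : ∀ n ∈ s, ∃ g : G, orderOf g = n)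
    (hrs : r ∉ s) (b : ℕ → ℕ)
    (hb : ∀ g : G, orderOf g ∈ s → Nat.card (Subgroup.centralizer ({g} : Set G)) ≤ b (orderOf g))
    (hk : k ≤ Nat.card (ConjClasses G))
    (h : 7 + m * (e + m) + ∑ n ∈ s, b n ≤ (m + s.card - 1) * k) : Big G := by
  classical
  choose f hf using hs
  have hinj : Function.Injective fun n : s => f n.1 n.2 := by
    intro a b hab
    have : orderOf (f a.1 a.2) = orderOf (f b.1 b.2) := congrArg orderOf hab
    rw [hf, hf] at this
    exact Subtype.ext this
  set t : Finset G := s.attach.image fun n => f n.1 n.2 with ht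
  have htc : t.card = s.card := by rw [ht, Finset.card_image_of_injective _ hinj, Finset.card_attach]
  have hto : ∀ g ∈ t, orderOf g ∈ s := by
    intro g hg
    obtain ⟨n, -, rfl⟩ := Finset.mem_image.1 hg
    rw [hf]; exact n.2
  refine ZCols.big_of_prime_cols hr hx hc hn he hm hem t ?_ ?_ (fun g => b (orderOf g)) ?_ hk ?_
  · intro g hg g' hg' hc'
    obtain ⟨n, -, rfl⟩ := Finset.mem_image.1 hg
    obtain ⟨n', -, rfl⟩ := Finset.mem_image.1 hg'
    obtain ⟨c, hc''⟩ := isConj_iff.1 hc'
    have h1 : orderOf (f n.1 n.2) = orderOf (f n'.1 n'.2) := by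
      rw [← hc'']
      exact ((MulAut.conj c).orderOf_eq (f n.1 n.2)).symm
    rw [hf, hf] at h1
    have h2 : n = n' := Subtype.ext h1
    rw [h2]
  · intro g hg h1
    exact hrs (h1 ▸ hto g hg)
  · intro g hg
    exact hb g (hto g hg)
  · rw [htc, ht, Finset.sum_image fun a _ b _ hab => hinj hab]
    rw [Finset.sum_congr rfl fun (n : s) _ => by rw [hf], Finset.sum_attach s b]
    exact h

/-- class number bound from two self-centralizing elements of prime orders -/
theorem classes_of_two {G : Type*} [Group G] [Finite G] {x y : G} {r n e m r' n' e' m' : ℕ} (hr : r.Prime)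
    (hx : orderOf x = r) (hc : Nat.card (Subgroup.centralizer ({x} : Set G)) = r) (hn : Nat.card G = r * n)
    (he : n % r = e) (hem : r = e * m + 1) (hr' : r'.Prime)
    (hy : orderOf y = r') (hc' : Nat.card (Subgroup.centralizer ({y} : Set G)) = r') (hn' : Nat.card G = r' * n')
    (he' : n' % r' = e') (hem' : r' = e' * m' + 1) (hrr : r ≠ r') (s : Finset ℕ)
    (hs : ∀ n ∈ s, ∃ g : G, orderOf g = n) (h1 : r ∉ s) (h2 : r' ∉ s) :
    m + (m' + s.card) ≤ Nat.card (ConjClasses G) := by
  classical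
  obtain ⟨t, ht, htc, hto⟩ := exists_of_orders (G := G) s hs
  have hA := cc_of_prime hr' hy hc'
  have cA : Nat.card (Subgroup.zpowers y) = r' := by rw [Nat.card_zpowers, hy]
  have e1 := eIdx_eq_mod hA (by rw [cA]; exact hr'.one_lt) (n := n') (by rw [hn', cA])
  rw [cA, he'] at e1
  obtain ⟨u, hu, huc, huA⟩ := exists_reps (m := m') hA (by rw [e1, cA, hem'])
  have huo : ∀ g ∈ u, orderOf g = r' := by
    intro g hg
    obtain ⟨ha, ha1⟩ := huA g hg
    have h3 : orderOf g ∣ r' := by
      have := orderOf_dvd_natCard (⟨g, ha⟩ : Subgroup.zpowers y)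
      rwa [← Subgroup.orderOf_coe, cA] at this
    rcases (Nat.dvd_prime hr').1 h3 with h4 | h4
    · exact absurd (orderOf_eq_one_iff.1 h4) ha1
    · exact h4
  have hdisj : Disjoint u t := by
    rw [Finset.disjoint_left]
    intro g hg hg'
    exact h2 (huo g hg ▸ hto g hg')
  have hcard : (u ∪ t).card = m' + s.card := by rw [Finset.card_union_of_disjoint hdisj, huc, htc]
  rw [← hcard]
  refine ZCols.classes_of_prime hr hx hc hn he hem (u ∪ t) ?_ ?_
  · have hoc : ∀ g g' : G, IsConj g g' → orderOf g = orderOf g' := by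
      intro g g' hgg
      obtain ⟨c, rfl⟩ := isConj_iff.1 hgg
      exact ((MulAut.conj c).orderOf_eq g).symm
    intro g hg g' hg' hgg
    rcases Finset.mem_union.1 hg with h3 | h3 <;> rcases Finset.mem_union.1 hg' with h4 | h4
    · exact hu g h3 g' h4 hgg
    · exact absurd (hto g' h4) (by rw [← hoc g g' hgg, huo g h3]; exact h2)
    · exact absurd (hto g h3) (by rw [hoc g g' hgg, huo g' h4]; exact h2)
    · exact ht g h3 g' h4 hgg
  · intro g hg h3
    rcases Finset.mem_union.1 hg with h4 | h4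
    · exact hrr (h3.symm.trans (huo g h4))
    · exact h1 (h3 ▸ hto g h4)

theorem exists_order {G : Type*} [Group G] [Finite G] {r n : ℕ} (hr : r.Prime) (hn : Nat.card G = r * n) :
    ∃ x : G, orderOf x = r := by
  have : Fact r.Prime := ⟨hr⟩
  exact exists_prime_orderOf_dvd_card' r ⟨n, hn⟩

/-! ### `M₁₁` -/

theorem m11 {S : Type*} [Group S] (h : Cfsg.Spor.IsoM11 S) : Cfsg.Agent.H504.Zeros.Big S := by
  have := Cfsg.Agent.Cit.Eleven.finite h
  have hG := Cfsg.Agent.Cit.Eleven.isM11 h
  have hcard : Nat.card S = 11 * 720 := hG.2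
  obtain ⟨x, hx⟩ := exists_order (G := S) (by norm_num) hcard
  refine big_of_prime_orders (k := 10) (by norm_num) hx (SporadicA.M11Sylow.card_centralizer_eleven hG hx) hcard
    (e := 5) (m := 2) (by norm_num) (by norm_num) (by norm_num) {5, 6, 8} ?_ (by norm_num) (fun n => n) ?_
    (H180.KM11.isoM11 h).ge (by decide)
  · intro n hn
    simp only [Finset.mem_insert, Finset.mem_singleton] at hn
    rcases hn with rfl | rfl | rfl
    · exact exists_order (n := 1584) (by norm_num) (by rw [hcard])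
    · exact H180.KM11.exists_six h
    · exact H180.KM11.exists_eight h
  · intro g hg
    simp only [Finset.mem_insert, Finset.mem_singleton] at hg
    rcases hg with hg | hg | hg
    · rw [SporadicA.M11Facts.card_centralizer_five hG hg, hg]
    · rw [hg]; exact H180.KM11.card_six h hg
    · rw [hg]; exact H180.KM11.card_eight h hg

/-! ### `M₁₂` -/

/-- orders of the 14 representatives -/
def O12 : List ℕ := [6, 8, 3, 10, 4, 2, 11, 6, 5, 8, 3, 4, 2, 1]

theorem O12_ok : ∀ i : Fin 14, ordOk (T12.getD i 0) (O12.getD i 0) = true := by decide +kernel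

theorem order_rep12 (i : Fin 14) : orderOf (rep12 i) = O12.getD i 0 := by
  rw [← Subgroup.orderOf_coe]
  show orderOf ((mk _ (T12_mk i) : M24) : Equiv.Perm GolayPt) = _
  rw [Subgroup.orderOf_coe]
  exact orderOf_tab (isTab_mk _ (T12_mk i)) (O12_ok i)

theorem rep12_inj {i j : Fin 14} (h : IsConj (rep12 i) (rep12 j)) : i = j :=
  V12_inj i j (by rw [← inv12_rep, ← inv12_rep, inv12_isConj h])

theorem m12 {S : Type*} [Group S] (h : Cfsg.Spor.IsoM12 S) : Cfsg.Agent.H504.Zeros.Big S := by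
  classical
  have hcS : Nat.card S = 95040 := NotCT.Orders.m12 h
  obtain ⟨e⟩ := h
  have := Cfsg.Agent.FooteOdd.SporMTwelve.simple
  have hcard : Nat.card Spor.M12 = 95040 := by rw [← hcS]; exact (Nat.card_congr e.toEquiv).symm
  have : Finite Spor.M12 := Nat.finite_of_card_ne_zero (by rw [hcard]; norm_num)
  refine Big.of_equiv e ?_
  obtain ⟨x, hx⟩ := exists_order (G := Spor.M12) (r := 11) (n := 8640) (by norm_num) (by rw [hcard])
  have c11 := card_cent_of_sylow (r := 11) (n := 8640) (by norm_num) (by rw [hcard]) (by norm_num)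
    (fun P => Cfsg.Agent.MTwelve.SylowEleven.centralizer_sylow11 hcard P) hx
  have hinj : Function.Injective rep12 := fun i j hij => rep12_inj (hij ▸ IsConj.refl _)
  have hk := ZCols.classes_of_prime (r := 11) (n := 8640) (m := 2) (by norm_num) hx c11 (by rw [hcard]) (e := 5)
    (by norm_num) (by norm_num) ((Finset.univ.erase (6 : Fin 14)).image rep12) (by
      intro g hg g' hg' hc
      obtain ⟨i, -, rfl⟩ := Finset.mem_image.1 hg
      obtain ⟨j, -, rfl⟩ := Finset.mem_image.1 hg'
      rw [rep12_inj hc]) (by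
      intro g hg
      obtain ⟨i, hi, rfl⟩ := Finset.mem_image.1 hg
      rw [order_rep12]
      have key : ∀ i ∈ Finset.univ.erase (6 : Fin 14), O12.getD i 0 ≠ 11 := by decide
      exact key i hi)
  rw [Finset.card_image_of_injective _ hinj, show (Finset.univ.erase (6 : Fin 14)).card = 13 by decide] at hk
  exact big_of_isolated (r := 11) (n := 8640) (k := 15) (by norm_num) hx c11 (by rw [hcard]) (e := 5) (m := 2)
    (by norm_num) (by norm_num) (by norm_num) hk (by norm_num)

/-! ### `M₂₂` -/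

theorem m22 {S : Type*} [Group S] (h : Cfsg.Spor.IsoM22 S) : Cfsg.Agent.H504.Zeros.Big S := by
  have hk := H180.KMathieu.m22 h
  obtain ⟨e⟩ := h
  have := Cfsg.Agent.SporadicA.MathieuRecog.simple_M22
  have hcard : Nat.card Spor.M22 = 443520 := Cfsg.Agent.SporadicA.MathieuRecog.card_M22
  have : Finite Spor.M22 := Nat.finite_of_card_ne_zero (by rw [hcard]; norm_num)
  refine Big.of_equiv e ?_
  rw [card_classes_congr e] at hk
  have f11 : Fact (Nat.Prime 11) := ⟨by norm_num⟩
  have f7 : Fact (Nat.Prime 7) := ⟨by norm_num⟩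
  obtain ⟨x, hx⟩ := exists_order (G := Spor.M22) (r := 11) (n := 40320) (by norm_num) (by rw [hcard])
  obtain ⟨y, hy⟩ := exists_order (G := Spor.M22) (r := 7) (n := 63360) (by norm_num) (by rw [hcard])
  have c11 := card_cent_of_sylow (r := 11) (n := 40320) (by norm_num) (by rw [hcard]) (by norm_num)
    (fun P => (Cfsg.Agent.S3594.sylow_facts hcard P default).1.1) hx
  have c7 := card_cent_of_sylow (r := 7) (n := 63360) (by norm_num) (by rw [hcard]) (by norm_num)
    (fun P => (Cfsg.Agent.S3594.sylow_facts hcard default P).2.1) hy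
  exact big_of_isolated2 (k := 12) (by norm_num) hx c11 (n := 40320) (by rw [hcard]) (e := 5) (m := 2)
    (by norm_num) (by norm_num) (by norm_num) (by norm_num) hy c7 (n' := 63360) (by rw [hcard]) (e' := 3) (m' := 2)
    (by norm_num) (by norm_num) (by norm_num) (by norm_num) hk (by norm_num)

/-! ### `M₂₃` -/

theorem m23 {S : Type*} [Group S] (h : Cfsg.Spor.IsoM23 S) : Cfsg.Agent.H504.Zeros.Big S := by
  obtain ⟨e⟩ := h
  have := Cfsg.Agent.H729.PairMathieu.simple_M23
  have hcard : Nat.card Spor.M23 = 10200960 := Cfsg.Agent.SporadicA.MathieuRecog.card_M23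
  have : Finite Spor.M23 := Nat.finite_of_card_ne_zero (by rw [hcard]; norm_num)
  refine Big.of_equiv e ?_
  obtain ⟨x, hx⟩ := exists_order (G := Spor.M23) (r := 23) (n := 443520) (by norm_num) (by rw [hcard])
  obtain ⟨y, hy⟩ := exists_order (G := Spor.M23) (r := 11) (n := 927360) (by norm_num) (by rw [hcard])
  have c23 := card_cent_of_sylow (r := 23) (n := 443520) (by norm_num) (by rw [hcard]) (by norm_num)
    (fun P => Cfsg.Agent.M23.Sylow23.centralizer_eq hcard P) hx
  have c11 := card_cent_of_sylow (r := 11) (n := 927360) (by norm_num) (by rw [hcard]) (by norm_num)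
    (fun P => Cfsg.Agent.M23.SylowEleven.centralizer_eq hcard P) hy
  have hk := classes_of_two (r := 23) (r' := 11) (m := 2) (m' := 2) (by norm_num) hx c23 (n := 443520)
    (by rw [hcard]) (e := 11) (by norm_num) (by norm_num) (by norm_num) hy c11 (n' := 927360) (by rw [hcard]) (e' := 5)
    (by norm_num) (by norm_num) (by norm_num) (ords.erase 11 |>.erase 23)
    (fun n hn => hasOrd_M23 n (Finset.mem_of_mem_erase (Finset.mem_of_mem_erase hn))) (by decide) (by decide)
  exact big_of_isolated2 (k := 14) (by norm_num) hx c23 (n := 443520) (by rw [hcard]) (e := 11) (m := 2)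
    (by norm_num) (by norm_num) (by norm_num) (by norm_num) hy c11 (n' := 927360) (by rw [hcard]) (e' := 5) (m' := 2)
    (by norm_num) (by norm_num) (by norm_num) (by norm_num) (le_trans (by decide) hk) (by norm_num)

/-! ### `M₂₄` -/

/-- number of fixed points of a table -/
def cnt24 (Q : ℕ) : ℕ := ((List.range 24).filter fun i => Nat.beq (papp Q i) i).length

theorem nf_tab {g : M24} {Q : ℕ} (hg : IsTab g Q) : H621.AltChar.nf GolayPt g = cnt24 Q := by
  classical
  rw [H621.AltChar.nf, Nat.card_eq_fintype_card, Fintype.card_subtype]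
  unfold cnt24
  rw [← List.toFinset_card_of_nodup ((List.nodup_range).filter _)]
  apply Finset.card_bij (fun p _ => idx p)
  · intro p hp
    rw [Finset.mem_filter] at hp
    rw [List.mem_toFinset, List.mem_filter]
    refine ⟨List.mem_range.2 (idx_lt p), ?_⟩
    have h1 : (g : Equiv.Perm GolayPt) p = p := hp.2
    rw [← hg p, h1]
    exact Nat.beq_refl _
  · intro p _ q _ h
    exact idx_injective h
  · intro i hi
    rw [List.mem_toFinset, List.mem_filter] at hi
    have hi24 := List.mem_range.1 hi.1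
    refine ⟨pt i, ?_, idx_pt hi24⟩
    rw [Finset.mem_filter]
    refine ⟨Finset.mem_univ _, ?_⟩
    show (g : Equiv.Perm GolayPt) (pt i) = pt i
    apply idx_injective
    rw [hg, idx_pt hi24]
    exact Nat.eq_of_beq_eq_true hi.2

/-- data of an element: table, order, `nf`, `nf` of the square -/
def okM (P n f u : ℕ) : Bool :=
  (isPerm P && isAut P) && (ordOk P n && (Nat.beq (cnt24 P) f && Nat.beq (cnt24 (tpow P 2)) (f + u)))

theorem exists_of_okM {P n f u : ℕ} (h : okM P n f u = true) :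
    ∃ g : M24, orderOf g = n ∧ H621.AltChar.nf GolayPt g = f ∧ H621.AltChar.nu GolayPt g = u := by
  unfold okM at h
  rw [Bool.and_eq_true] at h
  obtain ⟨h1, h⟩ := h
  rw [Bool.and_eq_true] at h
  obtain ⟨h2, h⟩ := h
  rw [Bool.and_eq_true] at h
  obtain ⟨h3, h4⟩ := h
  have ht := isTab_mk P h1
  refine ⟨mk P h1, orderOf_tab ht h2, ?_, ?_⟩
  · rw [nf_tab ht]; exact Nat.eq_of_beq_eq_true h3
  · have h5 := H621.AltChar.nf_mul_self (Ω := GolayPt) (mk P h1)
    have h6 := nf_tab (isTab_pow ht 2)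
    rw [pow_two, h5, nf_tab ht] at h6
    have h7 := Nat.eq_of_beq_eq_true h3
    have h8 := Nat.eq_of_beq_eq_true h4
    omega

/-- lists of elements with different orders -/
theorem exists_finset (Q : ℕ → ℕ → Prop) (s : Finset ℕ)
    (h : ∀ n ∈ s, ∃ g : M24, orderOf g = n ∧ Q (H621.AltChar.nf GolayPt g) (H621.AltChar.nu GolayPt g)) :
    ∃ t : Finset M24, NonConj t ∧ t.card = s.card ∧
      ∀ g ∈ t, Q (H621.AltChar.nf GolayPt g) (H621.AltChar.nu GolayPt g) := by
  classical
  choose f hf hQ using h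
  have hinj : Function.Injective fun n : s => f n.1 n.2 := by
    intro a b hab
    have : orderOf (f a.1 a.2) = orderOf (f b.1 b.2) := congrArg orderOf hab
    rw [hf, hf] at this
    exact Subtype.ext this
  refine ⟨s.attach.image fun n => f n.1 n.2, ?_, by rw [Finset.card_image_of_injective _ hinj, Finset.card_attach], ?_⟩
  · intro g hg g' hg' hc'
    obtain ⟨n, -, rfl⟩ := Finset.mem_image.1 hg
    obtain ⟨n', -, rfl⟩ := Finset.mem_image.1 hg'
    obtain ⟨c, hc''⟩ := isConj_iff.1 hc'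
    have h1 : orderOf (f n.1 n.2) = orderOf (f n'.1 n'.2) := by
      rw [← hc'']
      exact ((MulAut.conj c).orderOf_eq (f n.1 n.2)).symm
    rw [hf, hf] at h1
    have h2 : n = n' := Subtype.ext h1
    rw [h2]
  · intro g hg
    obtain ⟨n, -, rfl⟩ := Finset.mem_image.1 hg
    exact hQ n.1 n.2

theorem m24 {S : Type*} [Group S] (h : Cfsg.Spor.IsoM24 S) : Cfsg.Agent.H504.Zeros.Big S := by
  have hcS : Nat.card S = 244823040 := NotCT.Orders.m24 h
  obtain ⟨e⟩ := h
  have hcard : Nat.card M24 = 244823040 := by rw [← hcS]; exact (Nat.card_congr e.toEquiv).symm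
  have : Finite M24 := Nat.finite_of_card_ne_zero (by rw [hcard]; norm_num)
  refine Big.of_equiv e ?_
  have h5 : MulAction.IsMultiplyPretransitive M24 GolayPt 5 := Cfsg.Agent.S0366.result
  have hN : Nat.card GolayPt = 24 := by rw [Nat.card_eq_fintype_card]; decide
  have h4 : MulAction.IsMultiplyPretransitive M24 GolayPt 4 :=
    MulAction.isMultiplyPretransitive_of_le (n := 5) (by norm_num)
      (by rw [hN]; norm_num)
  obtain ⟨s1, n1, k1, z1⟩ := exists_finset (fun f _ => f = 1) {14, 15, 23} (by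
    intro n hn
    simp only [Finset.mem_insert, Finset.mem_singleton] at hn
    rcases hn with rfl | rfl | rfl
    · obtain ⟨g, h1, h2, h3⟩ := exists_of_okM (P := 254969591285792319056559756932763904) (n := 14) (f := 1) (u := 2)
        (by decide +kernel)
      exact ⟨g, h1, h2⟩
    · obtain ⟨g, h1, h2, h3⟩ := exists_of_okM (P := 266293189472123062608342130360866351) (n := 15) (f := 1) (u := 0)
        (by decide +kernel)
      exact ⟨g, h1, h2⟩
    · obtain ⟨g, h1, h2, h3⟩ := exists_of_okM (P := 45088127633049769179789980976910637) (n := 23) (f := 1) (u := 0)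
        (by decide +kernel)
      exact ⟨g, h1, h2⟩)
  obtain ⟨s2, n2, k2, z2⟩ := exists_finset (fun f u => f * f + u = 3 * f) {3, 4, 6, 8, 12, 14, 21} (by
    intro n hn
    simp only [Finset.mem_insert, Finset.mem_singleton] at hn
    rcases hn with rfl | rfl | rfl | rfl | rfl | rfl | rfl
    · obtain ⟨g, h1, h2, h3⟩ := exists_of_okM (P := 308597420522704550779790991183643121) (n := 3) (f := 0) (u := 0)
        (by decide +kernel)
      exact ⟨g, h1, by rw [h2, h3]⟩
    · obtain ⟨g, h1, h2, h3⟩ := exists_of_okM (P := 44282867639367558109668268157773231) (n := 4) (f := 0) (u := 0)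
        (by decide +kernel)
      exact ⟨g, h1, by rw [h2, h3]⟩
    · obtain ⟨g, h1, h2, h3⟩ := exists_of_okM (P := 209014487648020325459860240323818759) (n := 6) (f := 0) (u := 0)
        (by decide +kernel)
      exact ⟨g, h1, by rw [h2, h3]⟩
    · obtain ⟨g, h1, h2, h3⟩ := exists_of_okM (P := 107110713560811360185600065741116800) (n := 8) (f := 2) (u := 2)
        (by decide +kernel)
      exact ⟨g, h1, by rw [h2, h3]⟩
    · obtain ⟨g, h1, h2, h3⟩ := exists_of_okM (P := 920801961144256463015859915897151555) (n := 12) (f := 0) (u := 0)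
        (by decide +kernel)
      exact ⟨g, h1, by rw [h2, h3]⟩
    · obtain ⟨g, h1, h2, h3⟩ := exists_of_okM (P := 254969591285792319056559756932763904) (n := 14) (f := 1) (u := 2)
        (by decide +kernel)
      exact ⟨g, h1, by rw [h2, h3]⟩
    · obtain ⟨g, h1, h2, h3⟩ := exists_of_okM (P := 432402316300306875856481766676600211) (n := 21) (f := 0) (u := 0)
        (by decide +kernel)
      exact ⟨g, h1, by rw [h2, h3]⟩)
  obtain ⟨s3, n3, k3, z3⟩ := exists_finset (fun f u => f * f + 2 = 3 * f + u) {11, 12} (by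
    intro n hn
    simp only [Finset.mem_insert, Finset.mem_singleton] at hn
    rcases hn with rfl | rfl
    · obtain ⟨g, h1, h2, h3⟩ := exists_of_okM (P := 983435072843990828779021698901151808) (n := 11) (f := 2) (u := 0)
        (by decide +kernel)
      exact ⟨g, h1, by rw [h2, h3]⟩
    · obtain ⟨g, h1, h2, h3⟩ := exists_of_okM (P := 223414867027475510674105264604959246) (n := 12) (f := 0) (u := 2)
        (by decide +kernel)
      exact ⟨g, h1, by rw [h2, h3]⟩)
  refine ZFour.big_of_four (Ω := GolayPt) (by rw [hN]; norm_num) h4 s1 s2 s3 n1 n2 n3 z1 z2 z3 ?_ ?_ ?_ ?_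
  · rw [k1]; decide
  · rw [k2]; decide
  · rw [k3]; decide
  · rw [k1, k2, k3]; decide

end Cfsg.Agent.H701.ZMathieu
end
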