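import Mathlib
import Cfsg.Agent.FastGrp
import Cfsg.Agent.Prune
set_option linter.all false

section
prune_inst 0x7f00000000000000000000000000000000000000000000000000000000000000000000000000000000000000000000000000000000000000000000000000000000000000000000000000000000000000003fffffffffffffffffffffffffffbeffbdffffffff

-- part: H701/Ex
section
set_option linter.all false
open scoped Cfsg.Agent.FastGrp

/-!
# Two coincidences among element orders (S4896)

`Ex2 G` : `G` has three pairwise non-conjugate elements of the same order, or two pairs of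
non-conjugate elements of equal order, the two orders being different.

* `Ex2.card_le` : then `G` has at least two more conjugacy classes than element orders;
* `Ex2.of_commute` : two non-conjugate elements of the same order `m` commuting with elements of
  the same order `l ≠ 1` prime to `m`;
* `Ex2.quot`... : the same for `Q / Z(Q)`, from elements of `Q`.
-/

set_option autoImplicit false

namespace Cfsg.Agent.H701

open Subgroup

/-- two coincidences among the orders of representatives of conjugacy classes -/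
def Ex2 (G : Type*) [Group G] : Prop :=
  (∃ x y z : G, orderOf x = orderOf y ∧ orderOf y = orderOf z ∧
    ¬ IsConj x y ∧ ¬ IsConj x z ∧ ¬ IsConj y z) ∨
  (∃ x y u v : G, orderOf x = orderOf y ∧ orderOf u = orderOf v ∧ orderOf x ≠ orderOf u ∧
    ¬ IsConj x y ∧ ¬ IsConj u v)

variable {G H : Type*} [Group G] [Group H]

theorem isConj_map_iff (e : G ≃* H) (x y : G) : IsConj (e x) (e y) ↔ IsConj x y := by
  constructor
  · intro h
    have := e.symm.toMonoidHom.map_isConj h
    simpa using this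
  · intro h
    exact e.toMonoidHom.map_isConj h

theorem Ex2.congr (e : G ≃* H) (h : Ex2 G) : Ex2 H := by
  rcases h with ⟨x, y, z, h1, h2, h3, h4, h5⟩ | ⟨x, y, u, v, h1, h2, h3, h4, h5⟩
  · refine Or.inl ⟨e x, e y, e z, ?_, ?_, ?_, ?_, ?_⟩
    · simpa [MulEquiv.orderOf_eq] using h1
    · simpa [MulEquiv.orderOf_eq] using h2
    · rwa [isConj_map_iff]
    · rwa [isConj_map_iff]
    · rwa [isConj_map_iff]
  · refine Or.inr ⟨e x, e y, e u, e v, ?_, ?_, ?_, ?_, ?_⟩
    · simpa [MulEquiv.orderOf_eq] using h1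
    · simpa [MulEquiv.orderOf_eq] using h2
    · simpa [MulEquiv.orderOf_eq] using h3
    · rwa [isConj_map_iff]
    · rwa [isConj_map_iff]

theorem orderOf_eq_of_isConj {x y : G} (h : IsConj x y) : orderOf x = orderOf y := by
  obtain ⟨c, hc⟩ := isConj_iff.1 h
  rw [← hc]
  have := MulEquiv.orderOf_eq (MulAut.conj c) x
  simpa using this.symm

theorem Ex2.card_le [Finite G] (h : Ex2 G) :
    Nat.card (Set.range (orderOf : G → ℕ)) + 2 ≤ Nat.card (ConjClasses G) := by
  classical
  -- a section of the order map on classes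
  have hsec : ∀ m : Set.range (orderOf : G → ℕ), ∃ g : G, orderOf g = m := fun m => m.2
  choose s hs using hsec
  let c : Set.range (orderOf : G → ℕ) → ConjClasses G := fun m => ConjClasses.mk (s m)
  have hc : Function.Injective c := by
    intro m m' hmm
    have : IsConj (s m) (s m') := ConjClasses.mk_eq_mk_iff_isConj.1 hmm
    have h2 := orderOf_eq_of_isConj this
    rw [hs, hs] at h2
    exact Subtype.ext h2
  have key : ∃ a b : ConjClasses G, a ≠ b ∧ a ∉ Set.range c ∧ b ∉ Set.range c := by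
    have notin : ∀ x y : G, orderOf x = orderOf y → ¬ IsConj x y →
        ConjClasses.mk x ∉ Set.range c ∨ ConjClasses.mk y ∉ Set.range c := by
      intro x y hxy hn
      by_contra hcon
      push Not at hcon
      obtain ⟨⟨m, hm⟩, ⟨m', hm'⟩⟩ := hcon
      have e1 : orderOf (s m) = orderOf x :=
        orderOf_eq_of_isConj (ConjClasses.mk_eq_mk_iff_isConj.1 hm)
      have e2 : orderOf (s m') = orderOf y :=
        orderOf_eq_of_isConj (ConjClasses.mk_eq_mk_iff_isConj.1 hm')
      have e3 : m = m' := by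
        apply Subtype.ext
        rw [← hs m, ← hs m', e1, e2, hxy]
      subst e3
      exact hn (ConjClasses.mk_eq_mk_iff_isConj.1 (hm.symm.trans hm'))
    rcases h with ⟨x, y, z, h1, h2, h3, h4, h5⟩ | ⟨x, y, u, v, h1, h2, h3, h4, h5⟩
    · have n1 := notin x y h1 h3
      have n2 := notin x z (h1.trans h2) h4
      have n3 := notin y z h2 h5
      have d1 : ConjClasses.mk x ≠ ConjClasses.mk y := fun e =>
        h3 (ConjClasses.mk_eq_mk_iff_isConj.1 e)
      have d2 : ConjClasses.mk x ≠ ConjClasses.mk z := fun e =>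
        h4 (ConjClasses.mk_eq_mk_iff_isConj.1 e)
      have d3 : ConjClasses.mk y ≠ ConjClasses.mk z := fun e =>
        h5 (ConjClasses.mk_eq_mk_iff_isConj.1 e)
      rcases n1 with n1 | n1
      · rcases n3 with n3 | n3
        · exact ⟨_, _, d1, n1, n3⟩
        · exact ⟨_, _, d2, n1, n3⟩
      · rcases n2 with n2 | n2
        · exact ⟨_, _, d1.symm, n1, n2⟩
        · exact ⟨_, _, d3, n1, n2⟩
    · have n1 := notin x y h1 h4
      have n2 := notin u v h2 h5
      have dd : ∀ a b : G, orderOf a = orderOf x → orderOf b = orderOf u →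
          ConjClasses.mk a ≠ ConjClasses.mk b := by
        intro a b ha hb e
        have := orderOf_eq_of_isConj (ConjClasses.mk_eq_mk_iff_isConj.1 e)
        rw [ha, hb] at this
        exact h3 this
      rcases n1 with n1 | n1 <;> rcases n2 with n2 | n2
      · exact ⟨_, _, dd x u rfl rfl, n1, n2⟩
      · exact ⟨_, _, dd x v rfl h2.symm, n1, n2⟩
      · exact ⟨_, _, dd y u h1.symm rfl, n1, n2⟩
      · exact ⟨_, _, dd y v h1.symm h2.symm, n1, n2⟩
  obtain ⟨a, b, hab, ha, hb⟩ := key
  have hcard : Nat.card (Set.range (orderOf : G → ℕ)) + 2 =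
      (insert a (insert b (Set.range c)) : Set (ConjClasses G)).ncard := by
    rw [Set.ncard_insert_of_notMem, Set.ncard_insert_of_notMem hb]
    · have : (Set.range c).ncard = Nat.card (Set.range (orderOf : G → ℕ)) := by
        rw [← Set.image_univ, Set.ncard_image_of_injective _ hc, Set.ncard_univ]
      rw [this]
    · simp only [Set.mem_insert_iff, not_or]
      exact ⟨hab, ha⟩
  rw [hcard]
  rw [← Set.ncard_univ]
  exact Set.ncard_le_ncard (Set.subset_univ _)

theorem Ex2.ne_card [Finite G] (h : Ex2 G) :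
    Nat.card (ConjClasses G) ≠ Nat.card (Set.range (orderOf : G → ℕ)) + 1 := by
  have := h.card_le
  omega

theorem IsConj.pow' {x y : G} (h : IsConj x y) (n : ℕ) : IsConj (x ^ n) (y ^ n) := by
  obtain ⟨c, hc⟩ := isConj_iff.1 h
  refine isConj_iff.2 ⟨c, ?_⟩
  rw [← hc, conj_pow]

/-- the part of `IsConj (y₁ z₁) (y₂ z₂)` at the order of `y` -/
theorem isConj_left_of_mul [Finite G] {y₁ y₂ z₁ z₂ : G} (hy : orderOf y₁ = orderOf y₂)
    (hz : orderOf z₁ = orderOf z₂) (hc : Nat.Coprime (orderOf y₁) (orderOf z₁))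
    (c₁ : Commute y₁ z₁) (c₂ : Commute y₂ z₂) (h : IsConj (y₁ * z₁) (y₂ * z₂)) :
    IsConj y₁ y₂ := by
  obtain ⟨N, hN1, hN2⟩ := Nat.chineseRemainder hc 1 0
  have e : ∀ y z : G, Commute y z → orderOf y = orderOf y₁ → orderOf z = orderOf z₁ →
      (y * z) ^ N = y := by
    intro y z cyz h1 h2
    rw [cyz.mul_pow]
    have hy' : y ^ N = y := by
      conv_rhs => rw [← pow_one y]
      rw [pow_eq_pow_iff_modEq, h1]
      exact hN1
    have hz' : z ^ N = 1 := by
      rw [← pow_zero z, pow_eq_pow_iff_modEq, h2]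
      exact hN2
    rw [hy', hz', mul_one]
  have := IsConj.pow' h N
  rwa [e y₁ z₁ c₁ rfl rfl, e y₂ z₂ c₂ hy.symm hz.symm] at this

/-- coincidences at `m` and at `m l` -/
theorem Ex2.of_commute [Finite G] {y₁ y₂ z₁ z₂ : G} (hy : orderOf y₁ = orderOf y₂)
    (hz : orderOf z₁ = orderOf z₂) (hz1 : orderOf z₁ ≠ 1)
    (hc : Nat.Coprime (orderOf y₁) (orderOf z₁))
    (c₁ : Commute y₁ z₁) (c₂ : Commute y₂ z₂) (hn : ¬ IsConj y₁ y₂) : Ex2 G := by
  have hc' : Nat.Coprime (orderOf y₂) (orderOf z₂) := by rwa [← hy, ← hz]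
  refine Or.inr ⟨y₁, y₂, y₁ * z₁, y₂ * z₂, hy, ?_, ?_, hn, ?_⟩
  · rw [c₁.orderOf_mul_eq_mul_orderOf_of_coprime hc,
      c₂.orderOf_mul_eq_mul_orderOf_of_coprime hc', hy, hz]
  · rw [c₁.orderOf_mul_eq_mul_orderOf_of_coprime hc]
    intro h
    have h0 := orderOf_pos y₁
    have h1 := orderOf_pos z₁
    have : 2 ≤ orderOf z₁ := by omega
    nlinarith
  · intro h
    exact hn (isConj_left_of_mul hy hz hc c₁ c₂ h)

/-- a prime dividing the orders of both centralizers -/
theorem Ex2.of_prime [Finite G] {y₁ y₂ : G} {l : ℕ} (hl : l.Prime) (hy : orderOf y₁ = orderOf y₂)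
    (hc : ¬ l ∣ orderOf y₁)
    (c₁ : l ∣ Nat.card (centralizer ({y₁} : Set G))) (c₂ : l ∣ Nat.card (centralizer ({y₂} : Set G)))
    (hn : ¬ IsConj y₁ y₂) : Ex2 G := by
  haveI := Fact.mk hl
  obtain ⟨z₁, hz₁⟩ := exists_prime_orderOf_dvd_card' (G := centralizer ({y₁} : Set G)) l c₁
  obtain ⟨z₂, hz₂⟩ := exists_prime_orderOf_dvd_card' (G := centralizer ({y₂} : Set G)) l c₂
  have hz₁' : orderOf (z₁ : G) = l := by rw [Subgroup.orderOf_coe, hz₁]
  have hz₂' : orderOf (z₂ : G) = l := by rw [Subgroup.orderOf_coe, hz₂]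
  refine Ex2.of_commute (z₁ := z₁) (z₂ := z₂) hy (hz₁'.trans hz₂'.symm) ?_ ?_ ?_ ?_ hn
  · rw [hz₁']; exact hl.one_lt.ne'
  · rw [hz₁']
    exact ((Nat.Prime.coprime_iff_not_dvd hl).2 hc).symm
  · exact (mem_centralizer_singleton_iff.1 z₁.2).symm
  · exact (mem_centralizer_singleton_iff.1 z₂.2).symm

/-! ### Quotients by the centre -/

variable {Q : Type*} [Group Q]

/-- no element of order `p` in the centre -/
def NoP (p : ℕ) (Q : Type*) [Group Q] : Prop := ∀ z ∈ center Q, z ^ p = 1 → z = 1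

theorem NoP.pow {p : ℕ} (h : NoP p Q) (a : ℕ) {z : Q} (hz : z ∈ center Q) (hp : z ^ p ^ a = 1) :
    z = 1 := by
  induction a with
  | zero => simpa using hp
  | succ a ih =>
    apply ih
    apply h _ (Subgroup.pow_mem _ hz _)
    rw [← pow_mul, ← pow_succ]
    exact hp

theorem isConj_of_mk {p a : ℕ} (hZ : NoP p Q) {x y : Q} (hx : x ^ p ^ a = 1) (hy : y ^ p ^ a = 1)
    (h : IsConj (x : Q ⧸ center Q) (y : Q ⧸ center Q)) : IsConj x y := by
  obtain ⟨c, hc⟩ := isConj_iff.1 h
  obtain ⟨c, rfl⟩ := QuotientGroup.mk_surjective c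
  rw [← QuotientGroup.mk_mul, ← QuotientGroup.mk_inv, ← QuotientGroup.mk_mul] at hc
  have hz : (c * x * c⁻¹)⁻¹ * y ∈ center Q := QuotientGroup.eq.1 hc
  set z := (c * x * c⁻¹)⁻¹ * y with hzdef
  have hyz : y = c * x * c⁻¹ * z := by rw [hzdef]; group
  have hz1 : z = 1 := by
    apply hZ.pow a hz
    have hcomm : Commute (c * x * c⁻¹) z := (mem_center_iff.1 hz _)
    have : (c * x * c⁻¹ * z) ^ p ^ a = 1 := by rw [← hyz]; exact hy
    rw [hcomm.mul_pow, conj_pow, hx] at this
    simpa using this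
  refine isConj_iff.2 ⟨c, ?_⟩
  rw [hyz, hz1, mul_one]

theorem orderOf_mk {p a : ℕ} (hZ : NoP p Q) {x : Q} (hx : x ^ p ^ a = 1) :
    orderOf (x : Q ⧸ center Q) = orderOf x := by
  apply Nat.dvd_antisymm
  · exact orderOf_map_dvd (QuotientGroup.mk' (center Q)) x
  · rw [orderOf_dvd_iff_pow_eq_one]
    have h1 : (x : Q ⧸ center Q) ^ orderOf (x : Q ⧸ center Q) = 1 := pow_orderOf_eq_one _
    rw [← QuotientGroup.mk_pow, QuotientGroup.eq_one_iff] at h1
    apply hZ.pow a h1
    rw [← pow_mul, mul_comm, pow_mul, hx, one_pow]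

/-- three classes of elements of order a power of `p` -/
theorem Ex2.quot_three {p a : ℕ} (hZ : NoP p Q) {x y z : Q} (hx : x ^ p ^ a = 1)
    (hy : y ^ p ^ a = 1) (hz : z ^ p ^ a = 1) (h1 : orderOf x = orderOf y)
    (h2 : orderOf y = orderOf z) (n1 : ¬ IsConj x y) (n2 : ¬ IsConj x z) (n3 : ¬ IsConj y z) :
    Ex2 (Q ⧸ center Q) := by
  refine Or.inl ⟨x, y, z, ?_, ?_, ?_, ?_, ?_⟩
  · rw [orderOf_mk hZ hx, orderOf_mk hZ hy, h1]
  · rw [orderOf_mk hZ hy, orderOf_mk hZ hz, h2]
  · exact fun h => n1 (isConj_of_mk hZ hx hy h)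
  · exact fun h => n2 (isConj_of_mk hZ hx hz h)
  · exact fun h => n3 (isConj_of_mk hZ hy hz h)

/-- two pairs of elements of orders powers of `p` -/
theorem Ex2.quot_two_two {p a : ℕ} (hZ : NoP p Q) {x y u v : Q} (hx : x ^ p ^ a = 1)
    (hy : y ^ p ^ a = 1) (hu : u ^ p ^ a = 1) (hv : v ^ p ^ a = 1) (h1 : orderOf x = orderOf y)
    (h2 : orderOf u = orderOf v) (h3 : orderOf x ≠ orderOf u)
    (n1 : ¬ IsConj x y) (n2 : ¬ IsConj u v) :
    Ex2 (Q ⧸ center Q) := by
  refine Or.inr ⟨x, y, u, v, ?_, ?_, ?_, ?_, ?_⟩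
  · rw [orderOf_mk hZ hx, orderOf_mk hZ hy, h1]
  · rw [orderOf_mk hZ hu, orderOf_mk hZ hv, h2]
  · rw [orderOf_mk hZ hx, orderOf_mk hZ hu]; exact h3
  · exact fun h => n1 (isConj_of_mk hZ hx hy h)
  · exact fun h => n2 (isConj_of_mk hZ hu hv h)

/-- two classes of `p`-elements commuting with a `p'`-element outside the centre -/
theorem Ex2.quot_commute [Finite Q] {p a : ℕ} (hp : p.Prime) (hZ : NoP p Q) {y₁ y₂ z : Q}
    (h1 : y₁ ^ p ^ a = 1) (h2 : y₂ ^ p ^ a = 1)
    (hy : orderOf y₁ = orderOf y₂) (hz : z ∉ center Q) (hzp : ¬ p ∣ orderOf z)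
    (c₁ : Commute y₁ z) (c₂ : Commute y₂ z) (hn : ¬ IsConj y₁ y₂) :
    Ex2 (Q ⧸ center Q) := by
  refine Ex2.of_commute (y₁ := (y₁ : Q ⧸ center Q)) (y₂ := (y₂ : Q ⧸ center Q))
    (z₁ := (z : Q ⧸ center Q)) (z₂ := (z : Q ⧸ center Q)) ?_ rfl ?_ ?_ ?_ ?_ ?_
  · rw [orderOf_mk hZ h1, orderOf_mk hZ h2, hy]
  · rw [Ne, orderOf_eq_one_iff, QuotientGroup.eq_one_iff]
    exact hz
  · rw [orderOf_mk hZ h1]
    have d1 : orderOf y₁ ∣ p ^ a := orderOf_dvd_of_pow_eq_one h1
    have d2 : orderOf (z : Q ⧸ center Q) ∣ orderOf z :=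
      orderOf_map_dvd (QuotientGroup.mk' (center Q)) z
    have : Nat.Coprime (p ^ a) (orderOf z) :=
      Nat.Coprime.pow_left _ ((Nat.Prime.coprime_iff_not_dvd hp).2 hzp)
    exact Nat.Coprime.coprime_dvd_left d1 (Nat.Coprime.coprime_dvd_right d2 this)
  · exact c₁.map (QuotientGroup.mk' (center Q))
  · exact c₂.map (QuotientGroup.mk' (center Q))
  · exact fun h => hn (isConj_of_mk hZ h1 h2 h)

end Cfsg.Agent.H701
end

-- part: H701/Cent
section
set_option linter.all false
open scoped Cfsg.Agent.FastGrp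

-- part: H701/Torus
section
/-!
# Classes of elements of a torus, and values of the totient function
-/

set_option autoImplicit false

namespace Cfsg.Agent.H701

open Subgroup

/-- `φ(m) ≤ 4` only for small `m` -/
theorem le_of_totient {m : ℕ} (hm : 0 < m) (h : m.totient ≤ 4) :
    m ≤ 12 := by
  have hpos : 0 < m.totient := Nat.totient_pos.2 hm
  have key : ∀ d, d ∣ m → d.totient ≤ 4 := fun d hd =>
    (Nat.le_of_dvd hpos (Nat.totient_dvd_of_dvd hd)).trans h
  have hpr : ∀ r : ℕ, r.Prime → r ∣ m → r = 2 ∨ r = 3 ∨ r = 5 := by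
    intro r hr hd
    have h1 := key r hd
    rw [Nat.totient_prime hr] at h1
    have h2 := hr.two_le
    have : r ≤ 5 := by omega
    interval_cases r
    · left; rfl
    · right; left; rfl
    · exact absurd hr (by norm_num)
    · right; right; rfl
  obtain ⟨a, m1, h2, e1⟩ := Nat.exists_eq_pow_mul_and_not_dvd hm.ne' 2 (by norm_num)
  have m1p : m1 ≠ 0 := by rintro rfl; simp at h2
  obtain ⟨b, m2, h3, e2⟩ := Nat.exists_eq_pow_mul_and_not_dvd m1p 3 (by norm_num)
  have m2p : m2 ≠ 0 := by rintro rfl; simp at h3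
  obtain ⟨c, m3, h5, e3⟩ := Nat.exists_eq_pow_mul_and_not_dvd m2p 5 (by norm_num)
  have hm3 : m3 = 1 := by
    by_contra hne
    obtain ⟨r, hr, hd⟩ := Nat.exists_prime_and_dvd hne
    have d2 : r ∣ m2 := by rw [e3]; exact hd.mul_left _
    have d1 : r ∣ m1 := by rw [e2]; exact d2.mul_left _
    have d0 : r ∣ m := by rw [e1]; exact d1.mul_left _
    rcases hpr r hr d0 with rfl | rfl | rfl
    · exact h2 d1
    · exact h3 d2
    · exact h5 hd
  subst hm3
  have ha : a ≤ 3 := by
    by_contra hcon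
    push Not at hcon
    have : 2 ^ 4 ∣ m := by rw [e1]; exact (pow_dvd_pow 2 hcon).mul_right _
    have := key _ this
    rw [Nat.totient_prime_pow Nat.prime_two (by norm_num)] at this
    norm_num at this
  have hb : b ≤ 1 := by
    by_contra hcon
    push Not at hcon
    have : 3 ^ 2 ∣ m := by rw [e1, e2]; exact ((pow_dvd_pow 3 hcon).mul_right _).mul_left _
    have := key _ this
    rw [Nat.totient_prime_pow Nat.prime_three (by norm_num)] at this
    norm_num at this
  have hc : c ≤ 1 := by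
    by_contra hcon
    push Not at hcon
    have : 5 ^ 2 ∣ m := by
      rw [e1, e2, e3]; exact (((pow_dvd_pow 5 hcon).mul_right _).mul_left _).mul_left _
    have := key _ this
    rw [Nat.totient_prime_pow (by norm_num : (5 : ℕ).Prime) (by norm_num)] at this
    norm_num at this
  subst e3 e2 e1
  interval_cases a <;> interval_cases b <;> interval_cases c <;> revert h <;> decide

theorem le_of_totient_two {m : ℕ} (hm : 0 < m) (h : m.totient ≤ 2) : m ≤ 6 ∧ m ≠ 5 := by
  have := le_of_totient hm (h.trans (by norm_num))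
  interval_cases m <;> revert h <;> decide

variable {G : Type*} [Group G]

/-- the classes of `G` meet a torus in at most `|H : C|` elements -/
theorem ncard_conj_le [Finite G] (C H : Subgroup G)
    (hcomm : ∀ x ∈ C, ∀ y ∈ C, x * y = y * x)
    (hTI : ∀ g, g ∉ H → ∀ x ∈ C, g * x * g⁻¹ ∈ C → x = 1) {x : G} (hx : x ∈ C) (hx1 : x ≠ 1) :
    {y | y ∈ C ∧ IsConj x y}.ncard ≤ C.relIndex H := by
  classical
  let f : H ⧸ C.subgroupOf H → G := Quotient.lift (fun h : H => (h : G) * x * (h : G)⁻¹) (by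
    intro a b hab
    have hab' : a⁻¹ * b ∈ C.subgroupOf H := QuotientGroup.leftRel_apply.1 hab
    have h1 : (a : G)⁻¹ * b ∈ C := by
      rw [Subgroup.mem_subgroupOf] at hab'
      simpa only [_root_.Subgroup.coe_mul, _root_.InvMemClass.coe_inv] using hab'
    have h2 := hcomm _ h1 _ hx
    show (a : G) * x * (a : G)⁻¹ = (b : G) * x * (b : G)⁻¹
    have h3 : (a : G)⁻¹ * b * x * ((a : G)⁻¹ * b)⁻¹ = x := by rw [h2]; group
    calc (a : G) * x * (a : G)⁻¹ = a * ((a : G)⁻¹ * b * x * ((a : G)⁻¹ * b)⁻¹) * (a : G)⁻¹ := by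
          rw [h3]
      _ = (b : G) * x * (b : G)⁻¹ := by group)
  have hsub : {y | y ∈ C ∧ IsConj x y} ⊆ Set.range f := by
    rintro y ⟨hy, hc⟩
    obtain ⟨g, hg⟩ := isConj_iff.1 hc
    have hgH : g ∈ H := by
      by_contra hcon
      exact hx1 (hTI g hcon x hx (by rw [hg]; exact hy))
    exact ⟨QuotientGroup.mk ⟨g, hgH⟩, hg⟩
  have h1 : (Set.range f).ncard ≤ Nat.card (H ⧸ C.subgroupOf H) := by
    rw [← Set.image_univ]
    refine (Set.ncard_image_le (Set.toFinite _)).trans ?_
    rw [Set.ncard_univ]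
  calc {y | y ∈ C ∧ IsConj x y}.ncard ≤ (Set.range f).ncard :=
        Set.ncard_le_ncard hsub (Set.toFinite _)
    _ ≤ Nat.card (H ⧸ C.subgroupOf H) := h1
    _ = C.relIndex H := rfl

/-- three classes among more than `2 e` elements meeting each class in at most `e` -/
theorem three_of_ncard [Finite G] {S : Set G} {e : ℕ}
    (hS : ∀ x ∈ S, {y | y ∈ S ∧ IsConj x y}.ncard ≤ e) (h : 2 * e < S.ncard) :
    ∃ x ∈ S, ∃ y ∈ S, ∃ z ∈ S, ¬ IsConj x y ∧ ¬ IsConj x z ∧ ¬ IsConj y z := by
  have hne : S.Nonempty := by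
    rw [Set.nonempty_iff_ne_empty]
    rintro rfl
    simp at h
  obtain ⟨x, hx⟩ := hne
  have h1 : ∃ y ∈ S, ¬ IsConj x y := by
    by_contra hcon
    push Not at hcon
    have : S ⊆ {y | y ∈ S ∧ IsConj x y} := fun y hy => ⟨hy, hcon y hy⟩
    have h2 := Set.ncard_le_ncard this (Set.toFinite _)
    have := hS x hx
    omega
  obtain ⟨y, hy, hxy⟩ := h1
  have h2 : ∃ z ∈ S, ¬ IsConj x z ∧ ¬ IsConj y z := by
    by_contra hcon
    push Not at hcon
    have : S ⊆ {z | z ∈ S ∧ IsConj x z} ∪ {z | z ∈ S ∧ IsConj y z} := by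
      intro z hz
      by_cases hc : IsConj x z
      · exact Or.inl ⟨hz, hc⟩
      · exact Or.inr ⟨hz, hcon z hz hc⟩
    have h3 := Set.ncard_le_ncard this (Set.toFinite _)
    have h4 := Set.ncard_union_le {z | z ∈ S ∧ IsConj x z} {z | z ∈ S ∧ IsConj y z}
    have := hS x hx
    have := hS y hy
    omega
  obtain ⟨z, hz, hxz, hyz⟩ := h2
  exact ⟨x, hx, y, hy, z, hz, hxy, hxz, hyz⟩

theorem two_of_ncard [Finite G] {S : Set G} {e : ℕ}
    (hS : ∀ x ∈ S, {y | y ∈ S ∧ IsConj x y}.ncard ≤ e) (hne : S.Nonempty) (h : e < S.ncard) :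
    ∃ x ∈ S, ∃ y ∈ S, ¬ IsConj x y := by
  obtain ⟨x, hx⟩ := hne
  have h1 : ∃ y ∈ S, ¬ IsConj x y := by
    by_contra hcon
    push Not at hcon
    have : S ⊆ {y | y ∈ S ∧ IsConj x y} := fun y hy => ⟨hy, hcon y hy⟩
    have h2 := Set.ncard_le_ncard this (Set.toFinite _)
    have := hS x hx
    omega
  obtain ⟨y, hy, hxy⟩ := h1
  exact ⟨x, hx, y, hy, hxy⟩

/-- the number of elements of order `m` in a cyclic subgroup -/
theorem ncard_orderOf [Finite G] (C : Subgroup G) (hC : IsCyclic C) {m : ℕ}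
    (hm : m ∣ Nat.card C) : {x | x ∈ C ∧ orderOf x = m}.ncard = m.totient := by
  classical
  haveI : Fintype C := Fintype.ofFinite C
  have h1 := IsCyclic.card_orderOf_eq_totient (α := C) (d := m)
    (by rwa [← Nat.card_eq_fintype_card])
  rw [← h1]
  have : {x | x ∈ C ∧ orderOf x = m} = (fun c : C => (c : G)) ''
      (↑(Finset.univ.filter fun c : C => orderOf c = m) : Set C) := by
    ext x
    simp only [Set.mem_setOf_eq, Finset.coe_filter, Finset.mem_univ, true_and, Set.mem_image]
    constructor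
    · rintro ⟨h, h'⟩
      exact ⟨⟨x, h⟩, by rw [← h', ← Subgroup.orderOf_coe], rfl⟩
    · rintro ⟨c, hc, rfl⟩
      exact ⟨c.2, by rw [Subgroup.orderOf_coe]; exact hc⟩
  rw [this, Set.ncard_image_of_injective _ Subtype.val_injective, Set.ncard_coe_finset]

/-- three classes of elements of order `m` in a cyclic torus -/
theorem Ex2.of_torus_three [Finite G] (C H : Subgroup G) (hC : IsCyclic C)
    (hTI : ∀ g, g ∉ H → ∀ x ∈ C, g * x * g⁻¹ ∈ C → x = 1) {m : ℕ} (hm : m ∣ Nat.card C)
    (hφ : 2 * C.relIndex H < m.totient) (hm1 : m ≠ 1) : Ex2 G := by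
  have hcomm : ∀ x ∈ C, ∀ y ∈ C, x * y = y * x := by
    intro x hx y hy
    letI := hC.commGroup
    have := mul_comm (⟨x, hx⟩ : C) ⟨y, hy⟩
    exact congrArg Subtype.val this
  obtain ⟨x, hx, y, hy, z, hz, h1, h2, h3⟩ := three_of_ncard
    (S := {x | x ∈ C ∧ orderOf x = m}) (e := C.relIndex H) (by
      rintro x ⟨hx, hxm⟩
      refine le_trans (Set.ncard_le_ncard ?_ (Set.toFinite _))
        (ncard_conj_le C H hcomm hTI hx (by
          rintro rfl
          rw [orderOf_one] at hxm
          exact hm1 hxm.symm))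
      rintro y ⟨⟨hy, -⟩, hc⟩
      exact ⟨hy, hc⟩) (by rw [ncard_orderOf C hC hm]; exact hφ)
  exact Or.inl ⟨x, y, z, hx.2.trans hy.2.symm, hy.2.trans hz.2.symm, h1, h2, h3⟩

/-- two classes of elements of order `m` in a cyclic torus -/
theorem exists_torus_two [Finite G] (C H : Subgroup G) (hC : IsCyclic C)
    (hTI : ∀ g, g ∉ H → ∀ x ∈ C, g * x * g⁻¹ ∈ C → x = 1) {m : ℕ} (hm : m ∣ Nat.card C)
    (hφ : C.relIndex H < m.totient) (hm1 : m ≠ 1) :
    ∃ x y : G, x ∈ C ∧ y ∈ C ∧ orderOf x = m ∧ orderOf y = m ∧ ¬ IsConj x y := by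
  have hcomm : ∀ x ∈ C, ∀ y ∈ C, x * y = y * x := by
    intro x hx y hy
    letI := hC.commGroup
    have := mul_comm (⟨x, hx⟩ : C) ⟨y, hy⟩
    exact congrArg Subtype.val this
  have hcard := ncard_orderOf C hC hm
  obtain ⟨x, hx, y, hy, h1⟩ := two_of_ncard
    (S := {x | x ∈ C ∧ orderOf x = m}) (e := C.relIndex H) (by
      rintro x ⟨hx, hxm⟩
      refine le_trans (Set.ncard_le_ncard ?_ (Set.toFinite _))
        (ncard_conj_le C H hcomm hTI hx (by
          rintro rfl
          rw [orderOf_one] at hxm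
          exact hm1 hxm.symm))
      rintro y ⟨⟨hy, -⟩, hc⟩
      exact ⟨hy, hc⟩) (by
        rw [Set.nonempty_iff_ne_empty]
        intro h0
        rw [h0, Set.ncard_empty] at hcard
        omega) (by rw [hcard]; exact hφ)
  exact ⟨x, y, hx.1, hy.1, hx.2, hy.2, h1⟩

end Cfsg.Agent.H701
end

-- part: H701/Cent
section
set_option autoImplicit false

/-!
Pairs and triples of nonconjugate elements of the same order: from a centralizer, from a
quotient, and from Sylow's theorem for a prime dividing the group order once.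
-/

namespace Cfsg.Agent.H701

open Subgroup

/-- two nonconjugate elements of order `n` -/
def Pair (G : Type*) [Group G] (n : ℕ) : Prop :=
  ∃ x y : G, orderOf x = n ∧ orderOf y = n ∧ ¬ IsConj x y

/-- three pairwise nonconjugate elements of order `n` -/
def Triple (G : Type*) [Group G] (n : ℕ) : Prop :=
  ∃ x y z : G, orderOf x = n ∧ orderOf y = n ∧ orderOf z = n ∧ ¬ IsConj x y ∧ ¬ IsConj x z ∧
    ¬ IsConj y z

variable {G H : Type*} [Group G] [Group H]

theorem Ex2.of_pairs {n m : ℕ} (h : Pair G n) (h' : Pair G m) (hne : n ≠ m) : Ex2 G := by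
  obtain ⟨x, y, hx, hy, h1⟩ := h
  obtain ⟨u, v, hu, hv, h2⟩ := h'
  exact Or.inr ⟨x, y, u, v, hx.trans hy.symm, hu.trans hv.symm, by rwa [hx, hu], h1, h2⟩

theorem Ex2.of_triple {n : ℕ} (h : Triple G n) : Ex2 G := by
  obtain ⟨x, y, z, hx, hy, hz, h1, h2, h3⟩ := h
  exact Or.inl ⟨x, y, z, hx.trans hy.symm, hy.trans hz.symm, h1, h2, h3⟩

theorem Triple.pair {n : ℕ} (h : Triple G n) : Pair G n := by
  obtain ⟨x, y, z, hx, hy, hz, h1, h2, h3⟩ := h
  exact ⟨x, y, hx, hy, h1⟩

theorem Pair.congr {n : ℕ} (e : G ≃* H) (h : Pair G n) : Pair H n := by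
  obtain ⟨x, y, hx, hy, h1⟩ := h
  exact ⟨e x, e y, by simpa using hx, by simpa using hy, by rwa [isConj_map_iff]⟩

theorem Triple.congr {n : ℕ} (e : G ≃* H) (h : Triple G n) : Triple H n := by
  obtain ⟨x, y, z, hx, hy, hz, h1, h2, h3⟩ := h
  exact ⟨e x, e y, e z, by simpa using hx, by simpa using hy, by simpa using hz,
    by rwa [isConj_map_iff], by rwa [isConj_map_iff], by rwa [isConj_map_iff]⟩

/-- if `t` has order prime to those of `x` and `y`, and both commute with `t`, conjugacy of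
`t x` and `t y` gives conjugacy of `x` and `y` in the centralizer of `t` -/
theorem exists_conj_centralizer {t x y : G} {m n : ℕ} (ht : t ^ m = 1) (hx : x ^ n = 1)
    (hy : y ^ n = 1) (hmn : m.Coprime n) (htx : Commute t x) (hty : Commute t y)
    (h : IsConj (t * x) (t * y)) : ∃ g, Commute g t ∧ g * x * g⁻¹ = y := by
  obtain ⟨g, hg⟩ := isConj_iff.1 h
  obtain ⟨k, hk1, hk2⟩ := Nat.chineseRemainder hmn 1 0
  have hpow : ∀ z : G, z ^ n = 1 → Commute t z → (t * z) ^ k = t := by
    intro z hz hc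
    rw [hc.mul_pow]
    have h1 : t ^ k = t := by
      conv_rhs => rw [← pow_one t]
      exact pow_eq_pow_iff_modEq.2 (hk1.of_dvd (orderOf_dvd_of_pow_eq_one ht))
    have h2 : z ^ k = 1 := by
      have h3 : n ∣ k := (Nat.modEq_zero_iff_dvd).1 hk2
      obtain ⟨r, rfl⟩ := h3
      rw [pow_mul, hz, one_pow]
    rw [h1, h2, mul_one]
  have h4 : g * t * g⁻¹ = t := by
    have := congrArg (· ^ k) hg
    simp only [conj_pow, hpow x hx htx, hpow y hy hty] at this
    exact this
  refine ⟨g, ?_, ?_⟩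
  · show g * t = t * g
    calc g * t = (g * t * g⁻¹) * g := by group
      _ = t * g := by rw [h4]
  · have h5 : (g * t * g⁻¹) * (g * x * g⁻¹) = t * y := by rw [← hg]; group
    rw [h4] at h5
    exact mul_left_cancel h5

theorem Pair.of_centralizer {t : G} {m n : ℕ} (ht : orderOf t = m) (hmn : m.Coprime n)
    (h : Pair (centralizer ({t} : Set G)) n) : Pair G (m * n) := by
  obtain ⟨x, y, hx, hy, h1⟩ := h
  have hc : ∀ z : centralizer ({t} : Set G), Commute t (z : G) := fun z =>
    (mem_centralizer_singleton_iff.1 z.2).symm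
  have hord : ∀ z : centralizer ({t} : Set G), orderOf z = n → orderOf (t * (z : G)) = m * n := by
    intro z hz
    rw [(hc z).orderOf_mul_eq_mul_orderOf_of_coprime] <;> rw [ht, orderOf_coe, hz]
    exact hmn
  refine ⟨t * x, t * y, hord x hx, hord y hy, fun hcon => h1 ?_⟩
  obtain ⟨g, hg, hg'⟩ := exists_conj_centralizer (m := m) (n := n) (by rw [← ht, pow_orderOf_eq_one])
    (by rw [← hx, ← orderOf_coe x, pow_orderOf_eq_one])
    (by rw [← hy, ← orderOf_coe y, pow_orderOf_eq_one]) hmn (hc x) (hc y) hcon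
  exact isConj_iff.2 ⟨⟨g, mem_centralizer_singleton_iff.2 hg⟩, Subtype.ext hg'⟩

theorem Triple.of_centralizer {t : G} {m n : ℕ} (ht : orderOf t = m) (hmn : m.Coprime n)
    (h : Triple (centralizer ({t} : Set G)) n) : Triple G (m * n) := by
  obtain ⟨x, y, z, hx, hy, hz, h1, h2, h3⟩ := h
  have hc : ∀ z : centralizer ({t} : Set G), Commute t (z : G) := fun z =>
    (mem_centralizer_singleton_iff.1 z.2).symm
  have hord : ∀ z : centralizer ({t} : Set G), orderOf z = n → orderOf (t * (z : G)) = m * n := by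
    intro z hz
    rw [(hc z).orderOf_mul_eq_mul_orderOf_of_coprime] <;> rw [ht, orderOf_coe, hz]
    exact hmn
  have key : ∀ x y : centralizer ({t} : Set G), orderOf x = n → orderOf y = n → ¬ IsConj x y →
      ¬ IsConj (t * (x : G)) (t * (y : G)) := by
    intro x y hx hy h1 hcon
    obtain ⟨g, hg, hg'⟩ := exists_conj_centralizer (m := m) (n := n)
      (by rw [← ht, pow_orderOf_eq_one])
      (by rw [← hx, ← orderOf_coe x, pow_orderOf_eq_one])
      (by rw [← hy, ← orderOf_coe y, pow_orderOf_eq_one]) hmn (hc x) (hc y) hcon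
    exact h1 (isConj_iff.2 ⟨⟨g, mem_centralizer_singleton_iff.2 hg⟩, Subtype.ext hg'⟩)
  exact ⟨t * x, t * y, t * z, hord x hx, hord y hy, hord z hz, key _ _ hx hy h1, key _ _ hx hz h2,
    key _ _ hy hz h3⟩

/-- lift an element of order prime to the kernel -/
theorem exists_lift (π : G →* H) (hπ : Function.Surjective π) {k n : ℕ}
    (hk : ∀ x ∈ π.ker, x ^ k = 1) (hkn : n.Coprime k) {a : H} (ha : orderOf a = n) :
    ∃ x, π x = a ∧ orderOf x = n := by
  obtain ⟨x₀, rfl⟩ := hπ a
  obtain ⟨r, hr1, hr2⟩ := Nat.chineseRemainder hkn 1 0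
  have h3 : k ∣ r := (Nat.modEq_zero_iff_dvd).1 hr2
  have h1 : x₀ ^ n ∈ π.ker := by
    rw [MonoidHom.mem_ker, map_pow, ← ha, pow_orderOf_eq_one]
  have h4 : π (x₀ ^ r) = π x₀ := by
    rw [map_pow]
    conv_rhs => rw [← pow_one (π x₀)]
    exact pow_eq_pow_iff_modEq.2 (by rw [ha]; exact hr1)
  refine ⟨x₀ ^ r, h4, Nat.dvd_antisymm ?_ ?_⟩
  · apply orderOf_dvd_of_pow_eq_one
    obtain ⟨s, rfl⟩ := h3
    rw [← pow_mul, show k * s * n = n * k * s by ring, pow_mul, pow_mul, hk _ h1, one_pow]
  · have := orderOf_map_dvd π (x₀ ^ r)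
    rwa [h4, ha] at this

theorem Pair.lift (π : G →* H) (hπ : Function.Surjective π) {k n : ℕ}
    (hk : ∀ x ∈ π.ker, x ^ k = 1) (hkn : n.Coprime k) (h : Pair H n) : Pair G n := by
  obtain ⟨a, b, ha, hb, h1⟩ := h
  obtain ⟨x, hx, hx'⟩ := exists_lift π hπ hk hkn ha
  obtain ⟨y, hy, hy'⟩ := exists_lift π hπ hk hkn hb
  refine ⟨x, y, hx', hy', fun hcon => h1 ?_⟩
  have := π.map_isConj hcon
  rwa [hx, hy] at this

theorem Triple.lift (π : G →* H) (hπ : Function.Surjective π) {k n : ℕ}
    (hk : ∀ x ∈ π.ker, x ^ k = 1) (hkn : n.Coprime k) (h : Triple H n) : Triple G n := by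
  obtain ⟨a, b, c, ha, hb, hc, h1, h2, h3⟩ := h
  obtain ⟨x, hx, hx'⟩ := exists_lift π hπ hk hkn ha
  obtain ⟨y, hy, hy'⟩ := exists_lift π hπ hk hkn hb
  obtain ⟨z, hz, hz'⟩ := exists_lift π hπ hk hkn hc
  refine ⟨x, y, z, hx', hy', hz', fun hcon => h1 ?_, fun hcon => h2 ?_, fun hcon => h3 ?_⟩
  · have := π.map_isConj hcon; rwa [hx, hy] at this
  · have := π.map_isConj hcon; rwa [hx, hz] at this
  · have := π.map_isConj hcon; rwa [hy, hz] at this

/-- the conjugates of `x` in `⟨x⟩` -/
theorem ncard_conj_le' [Finite G] {p : ℕ} {x y : G} (hx : orderOf x = p)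
    (hy : y ∈ zpowers x) (hyo : orderOf y = p) :
    {z | z ∈ zpowers x ∧ IsConj y z}.ncard ≤
      (centralizer ({x} : Set G)).relIndex (normalizer (zpowers x : Set G)) := by
  classical
  set N := normalizer (zpowers x : Set G) with hN
  set C := centralizer ({x} : Set G) with hC
  have hzy : zpowers y = zpowers x :=
    Subgroup.eq_of_le_of_card_ge (zpowers_le.2 hy)
      (by rw [Nat.card_zpowers, Nat.card_zpowers, hx, hyo])
  have hxy : ∀ g : G, g ∈ C → g * y * g⁻¹ = y := by
    intro g hg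
    obtain ⟨i, rfl⟩ := mem_zpowers_iff.1 hy
    have h1 : Commute g x := mem_centralizer_singleton_iff.1 hg
    have := (h1.zpow_right i).eq
    rw [this, mul_inv_cancel_right]
  let f : N ⧸ C.subgroupOf N → G := Quotient.lift (fun h : N => (h : G) * y * (h : G)⁻¹) (by
    intro a b hab
    have hab' : a⁻¹ * b ∈ C.subgroupOf N := QuotientGroup.leftRel_apply.1 hab
    have h1 : (a : G)⁻¹ * b ∈ C := by
      rw [Subgroup.mem_subgroupOf] at hab'
      simpa only [_root_.Subgroup.coe_mul, _root_.InvMemClass.coe_inv] using hab'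
    have h2 := hxy _ h1
    show (a : G) * y * (a : G)⁻¹ = (b : G) * y * (b : G)⁻¹
    calc (a : G) * y * (a : G)⁻¹ = a * (((a : G)⁻¹ * b) * y * ((a : G)⁻¹ * b)⁻¹) * (a : G)⁻¹ := by
          rw [h2]
      _ = (b : G) * y * (b : G)⁻¹ := by group)
  have hsub : {z | z ∈ zpowers x ∧ IsConj y z} ⊆ Set.range f := by
    rintro z ⟨hz, hz'⟩
    obtain ⟨g, hg⟩ := isConj_iff.1 hz'
    have hzo : orderOf z = p := by rw [← orderOf_eq_of_isConj hz', hyo]
    have hzz : zpowers z = zpowers x :=
      Subgroup.eq_of_le_of_card_ge (zpowers_le.2 hz)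
        (by rw [Nat.card_zpowers, Nat.card_zpowers, hx, hzo])
    have hgN : g ∈ N := by
      rw [hN, mem_normalizer_iff]
      intro h
      constructor
      · intro hh
        rw [← hzy] at hh
        obtain ⟨i, rfl⟩ := mem_zpowers_iff.1 hh
        rw [← conj_zpow, hg]
        exact zpow_mem hz i
      · intro hh
        rw [← hzz] at hh
        obtain ⟨i, hi⟩ := mem_zpowers_iff.1 hh
        rw [← hg, conj_zpow] at hi
        have : h = y ^ i := by
          exact (mul_left_cancel (mul_right_cancel hi)).symm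
        rw [this]
        exact zpow_mem hy i
    exact ⟨Quotient.mk'' ⟨g, hgN⟩, hg⟩
  calc _ ≤ (Set.range f).ncard := Set.ncard_le_ncard hsub (Set.finite_range f)
    _ ≤ Nat.card (N ⧸ C.subgroupOf N) := by
        rw [← Set.image_univ]
        exact (Set.ncard_image_le Set.finite_univ).trans (by rw [Set.ncard_univ])
    _ = _ := rfl

theorem card_mul_relIndex {A B : Subgroup G} (h : A ≤ B) :
    Nat.card A * A.relIndex B = Nat.card B := by
  have := relIndex_mul_relIndex (⊥ : Subgroup G) A B bot_le h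
  rwa [relIndex_bot_left, relIndex_bot_left] at this

theorem centralizer_le_normalizer_zpowers (x : G) :
    centralizer ({x} : Set G) ≤ normalizer (zpowers x : Set G) := by
  intro g hg
  have h1 : Commute g x := mem_centralizer_singleton_iff.1 hg
  rw [mem_normalizer_iff]
  intro h
  constructor
  · intro hh
    obtain ⟨i, rfl⟩ := mem_zpowers_iff.1 hh
    rw [(h1.zpow_right i).eq, mul_inv_cancel_right]
    exact hh
  · intro hh
    obtain ⟨i, hi⟩ := mem_zpowers_iff.1 hh
    have h2 : h = g⁻¹ * x ^ i * g := by rw [hi]; group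
    rw [h2, mul_assoc, ← ((h1.zpow_right i).eq), ← mul_assoc, inv_mul_cancel, one_mul]
    exact zpow_mem (mem_zpowers x) i

/-- a Sylow subgroup of prime order `p`: with `c = |C(x) : ⟨x⟩|` and `d = |N(⟨x⟩) : C(x)|`, the
product `c d` divides `|G|/p` and is congruent to it modulo `p` -/
theorem sylow_cd [Finite G] {p m : ℕ} (hp : p.Prime) (hG : Nat.card G = p * m) (hm : ¬ p ∣ m)
    {x : G} (hx : orderOf x = p) :
    ∃ c d, Nat.card (centralizer ({x} : Set G)) = p * c ∧ d ∣ p - 1 ∧ c * d ∣ m ∧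
      m % p = c * d % p ∧ (d < p - 1 → Pair G p) ∧ (2 * d < p - 1 → Triple G p) := by
  classical
  have : Fact p.Prime := ⟨hp⟩
  set N := normalizer (zpowers x : Set G) with hN
  set C := centralizer ({x} : Set G) with hC
  have hle : C ≤ N := centralizer_le_normalizer_zpowers x
  have hxC : x ∈ C := mem_centralizer_singleton_iff.2 rfl
  obtain ⟨c, hc⟩ : p ∣ Nat.card C := by
    have := _root_.orderOf_dvd_natCard (⟨x, hxC⟩ : C)
    rwa [← orderOf_coe, hx] at this
  refine ⟨c, C.relIndex N, hc, ?_, ?_, ?_, ?_, ?_⟩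
  · have h1 : (normalizerMonoidHom (zpowers x)).ker = C.subgroupOf N := by
      rw [normalizerMonoidHom_ker]
      congr 1
      ext g
      rw [hC, mem_centralizer_iff, mem_centralizer_singleton_iff]
      constructor
      · intro h
        exact (h x (mem_zpowers x)).symm
      · intro h y hy
        obtain ⟨i, rfl⟩ := mem_zpowers_iff.1 hy
        have h1 : Commute g x := h
        exact (h1.zpow_right i).eq.symm
    have h2 : C.relIndex N = Nat.card (normalizerMonoidHom (zpowers x)).range := by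
      rw [relIndex, ← h1, index_ker]
    rw [h2]
    have h3 := card_subgroup_dvd_card (normalizerMonoidHom (zpowers x)).range
    rwa [IsCyclic.card_mulAut, Nat.card_zpowers, hx, Nat.totient_prime hp] at h3
  · -- `|G| = |N| · n_p`
    have h1 := card_mul_relIndex hle
    have h2 : Nat.card N ∣ Nat.card G := card_subgroup_dvd_card N
    rw [← h1, hc, hG, mul_assoc] at h2
    exact Nat.dvd_of_mul_dvd_mul_left hp.pos h2
  · have hf : (Nat.card G).factorization p = 1 := by
      rw [hG, Nat.factorization_mul hp.ne_zero (by rintro rfl; exact hm (dvd_zero p))]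
      simp [hp.factorization, Nat.factorization_eq_zero_of_not_dvd hm]
    let P : Sylow p G := Sylow.ofCard (zpowers x) (by rw [Nat.card_zpowers, hx, hf, pow_one])
    have h1 := card_mul_relIndex hle
    have h2 : Nat.card (Sylow p G) * Nat.card N = Nat.card G := by
      rw [P.card_eq_index_normalizer]
      exact index_mul_card _
    have h3 : Nat.card (Sylow p G) % p = 1 % p := card_sylow_modEq_one p G
    rw [← h1, hc, hG] at h2
    have h4 : Nat.card (Sylow p G) * (c * C.relIndex N) = m := by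
      apply Nat.eq_of_mul_eq_mul_left hp.pos
      rw [← h2]; ring
    rw [← h4, Nat.mul_mod, h3, ← Nat.mul_mod, one_mul]
  all_goals
    have hcyc : IsCyclic (zpowers x) := inferInstance
    have hcard : {y | y ∈ zpowers x ∧ orderOf y = p}.ncard = p - 1 := by
      rw [ncard_orderOf _ hcyc (by rw [Nat.card_zpowers, hx]), Nat.totient_prime hp]
    have hle' : ∀ y ∈ {y | y ∈ zpowers x ∧ orderOf y = p},
        {z | z ∈ {y | y ∈ zpowers x ∧ orderOf y = p} ∧ IsConj y z}.ncard ≤ C.relIndex N := by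
      rintro y ⟨hy, hyo⟩
      refine (Set.ncard_le_ncard ?_ (Set.toFinite _)).trans (ncard_conj_le' hx hy hyo)
      rintro z ⟨⟨hz, -⟩, hz'⟩
      exact ⟨hz, hz'⟩
  · intro hd
    obtain ⟨y, hy, z, hz, h1⟩ := two_of_ncard hle' ⟨x, mem_zpowers x, hx⟩ (by rw [hcard]; exact hd)
    exact ⟨y, z, hy.2, hz.2, h1⟩
  · intro hd
    obtain ⟨y, hy, z, hz, w, hw, h1, h2, h3⟩ := three_of_ncard hle' (by rw [hcard]; exact hd)
    exact ⟨y, z, w, hy.2, hz.2, hw.2, h1, h2, h3⟩

theorem exists_orderOf_eq [Finite G] {p m : ℕ} (hp : p.Prime) (hG : Nat.card G = p * m) :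
    ∃ x : G, orderOf x = p := by
  have : Fact p.Prime := ⟨hp⟩
  exact exists_prime_orderOf_dvd_card' p ⟨m, hG⟩

theorem pair_of_sylow [Finite G] {p m : ℕ} (hp : p.Prime) (hG : Nat.card G = p * m)
    (hm : ¬ p ∣ m)
    (hbad : ∀ x : G, orderOf x = p → ∀ c, Nat.card (centralizer ({x} : Set G)) = p * c →
      c * (p - 1) ∣ m → m % p = c * (p - 1) % p → False) : Pair G p := by
  obtain ⟨x, hx⟩ := exists_orderOf_eq hp hG
  obtain ⟨c, d, h1, h2, h3, h4, h5, -⟩ := sylow_cd hp hG hm hx
  apply h5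
  have hpos : 0 < p - 1 := by have := hp.two_le; omega
  rcases lt_or_eq_of_le (Nat.le_of_dvd hpos h2) with h | rfl
  · exact h
  · exact (hbad x hx c h1 h3 h4).elim

theorem triple_of_sylow [Finite G] {p m : ℕ} (hp : p.Prime) (hG : Nat.card G = p * m)
    (hm : ¬ p ∣ m)
    (hbad : ∀ x : G, orderOf x = p → ∀ c, Nat.card (centralizer ({x} : Set G)) = p * c →
      c * (p - 1) ∣ m → m % p = c * (p - 1) % p → False)
    (hbad2 : ∀ x : G, orderOf x = p → ∀ c, Nat.card (centralizer ({x} : Set G)) = p * c →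
      c * ((p - 1) / 2) ∣ m → m % p = c * ((p - 1) / 2) % p → False) : Triple G p := by
  obtain ⟨x, hx⟩ := exists_orderOf_eq hp hG
  obtain ⟨c, d, h1, h2, h3, h4, -, h5⟩ := sylow_cd hp hG hm hx
  apply h5
  have hpos : 0 < p - 1 := by have := hp.two_le; omega
  obtain ⟨k, hk⟩ := h2
  have hk0 : k ≠ 0 := by rintro rfl; omega
  have hk1 : k ≠ 1 := by
    rintro rfl
    rw [mul_one] at hk
    rw [← hk] at h3 h4
    exact hbad x hx c h1 h3 h4
  have hk2 : k ≠ 2 := by
    rintro rfl
    have : d = (p - 1) / 2 := by omega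
    rw [this] at h3 h4
    exact hbad2 x hx c h1 h3 h4
  have hd : d ≠ 0 := by rintro rfl; omega
  have : 3 ≤ k := by omega
  nlinarith only [hk, this, Nat.pos_of_ne_zero hd]

theorem card_centralizer_eq_of_isConj {x y : G} (h : IsConj x y) :
    Nat.card (centralizer ({x} : Set G)) = Nat.card (centralizer ({y} : Set G)) := by
  obtain ⟨c, rfl⟩ := isConj_iff.1 h
  have e : (centralizer ({x} : Set G)).map (MulAut.conj c).toMonoidHom =
      centralizer ({c * x * c⁻¹} : Set G) := by
    ext g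
    constructor
    · rintro ⟨y, hy, rfl⟩
      have hy' : y * x = x * y := mem_centralizer_singleton_iff.1 hy
      rw [mem_centralizer_singleton_iff]
      change c * y * c⁻¹ * (c * x * c⁻¹) = c * x * c⁻¹ * (c * y * c⁻¹)
      calc c * y * c⁻¹ * (c * x * c⁻¹) = c * (y * x) * c⁻¹ := by group
        _ = c * (x * y) * c⁻¹ := by rw [hy']
        _ = _ := by group
    · intro hg
      have hg' : g * (c * x * c⁻¹) = c * x * c⁻¹ * g := mem_centralizer_singleton_iff.1 hg
      refine ⟨c⁻¹ * g * c, ?_, ?_⟩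
      · show c⁻¹ * g * c ∈ centralizer ({x} : Set G)
        rw [mem_centralizer_singleton_iff]
        calc c⁻¹ * g * c * x = c⁻¹ * (g * (c * x * c⁻¹)) * c := by group
          _ = c⁻¹ * (c * x * c⁻¹ * g) * c := by rw [hg']
          _ = _ := by group
      · show c * (c⁻¹ * g * c) * c⁻¹ = g
        group
  rw [← e]
  exact Nat.card_congr ((centralizer ({x} : Set G)).equivMapOfInjective _
    (MulAut.conj c).injective).toEquiv

theorem dvd_card_centralizer {G : Type*} [Group G] [Finite G] {y z : G} {l : ℕ}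
    (h : y * z = z * y) (hl : l ∣ orderOf z) : l ∣ Nat.card (centralizer ({y} : Set G)) := by
  have hz : z ∈ centralizer ({y} : Set G) := mem_centralizer_singleton_iff.2 h.symm
  have h1 := _root_.orderOf_dvd_natCard (⟨z, hz⟩ : centralizer ({y} : Set G))
  rw [← orderOf_coe] at h1
  exact hl.trans h1

theorem Ex2.of_inv [Finite G] {x y : G} {l : ℕ} (hx : x * x = 1) (hx1 : x ≠ 1) (hy : y * y = 1)
    (hy1 : y ≠ 1) (hl : l.Prime) (hl2 : l ≠ 2) (hxy : ¬ IsConj x y)
    (hla : l ∣ Nat.card (centralizer ({x} : Set G)))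
    (hlb : l ∣ Nat.card (centralizer ({y} : Set G))) : Ex2 G := by
  have hx2 : orderOf x = 2 := orderOf_eq_prime (by rw [pow_two, hx]) hx1
  have hy2 : orderOf y = 2 := orderOf_eq_prime (by rw [pow_two, hy]) hy1
  refine Ex2.of_prime hl (hx2.trans hy2.symm) ?_ hla hlb hxy
  rw [hx2]
  intro h
  exact hl2 ((Nat.prime_dvd_prime_iff_eq hl Nat.prime_two).1 h)

theorem Ex2.of_cards [Finite G] {x y : G} {n l a b : ℕ} (hx : orderOf x = n) (hy : orderOf y = n)
    (hl : l.Prime) (hln : ¬ l ∣ n) (ha : Nat.card (centralizer ({x} : Set G)) = a)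
    (hb : Nat.card (centralizer ({y} : Set G)) = b) (hab : a ≠ b) (hla : l ∣ a) (hlb : l ∣ b) :
    Ex2 G := by
  refine Ex2.of_prime hl (hx.trans hy.symm) (by rwa [hx]) (by rwa [ha]) (by rwa [hb]) fun h => ?_
  apply hab
  rw [← ha, ← hb]
  exact card_centralizer_eq_of_isConj h

end Cfsg.Agent.H701
end
end

-- part: H701/CycPair
section
set_option linter.all false
open scoped Cfsg.Agent.FastGrp

set_option autoImplicit false

/-!
Pairs of nonconjugate generators of a cyclic subgroup.
-/

namespace Cfsg.Agent.H701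

open Subgroup

variable {G : Type*} [Group G] [Finite G]

theorem relIndex_dvd_totient {n : ℕ} {x : G} (hx : orderOf x = n) :
    (centralizer ({x} : Set G)).relIndex (normalizer (zpowers x : Set G)) ∣ n.totient := by
  set N := normalizer (zpowers x : Set G) with hN
  set C := centralizer ({x} : Set G) with hC
  have h1 : (normalizerMonoidHom (zpowers x)).ker = C.subgroupOf N := by
    rw [normalizerMonoidHom_ker]
    congr 1
    ext g
    rw [hC, mem_centralizer_iff, mem_centralizer_singleton_iff]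
    constructor
    · intro h
      exact (h x (mem_zpowers x)).symm
    · intro h y hy
      obtain ⟨i, rfl⟩ := mem_zpowers_iff.1 hy
      have h1 : Commute g x := h
      exact (h1.zpow_right i).eq.symm
  have h2 : C.relIndex N = Nat.card (normalizerMonoidHom (zpowers x)).range := by
    rw [relIndex, ← h1, index_ker]
  rw [h2]
  have h3 := card_subgroup_dvd_card (normalizerMonoidHom (zpowers x)).range
  rwa [IsCyclic.card_mulAut, Nat.card_zpowers, hx] at h3

theorem pair_of_relIndex {n : ℕ} {x : G} (hx : orderOf x = n)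
    (h : (centralizer ({x} : Set G)).relIndex (normalizer (zpowers x : Set G)) < n.totient) :
    Pair G n := by
  have hcyc : IsCyclic (zpowers x) := inferInstance
  have hcard : {y | y ∈ zpowers x ∧ orderOf y = n}.ncard = n.totient :=
    ncard_orderOf _ hcyc (by rw [Nat.card_zpowers, hx])
  have hle' : ∀ y ∈ {y | y ∈ zpowers x ∧ orderOf y = n},
      {z | z ∈ {y | y ∈ zpowers x ∧ orderOf y = n} ∧ IsConj y z}.ncard ≤
        (centralizer ({x} : Set G)).relIndex (normalizer (zpowers x : Set G)) := by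
    rintro y ⟨hy, hyo⟩
    refine (Set.ncard_le_ncard ?_ (Set.toFinite _)).trans (ncard_conj_le' hx hy hyo)
    rintro z ⟨⟨hz, -⟩, hz'⟩
    exact ⟨hz, hz'⟩
  obtain ⟨y, hy, z, hz, h1⟩ := two_of_ncard hle' ⟨x, mem_zpowers x, hx⟩ (by rw [hcard]; exact h)
  exact ⟨y, z, hy.2, hz.2, h1⟩

/-- two nonconjugate elements of order `n` when `n φ(n)` does not divide the group order -/
theorem pair_of_not_dvd {n : ℕ} {x : G} (hx : orderOf x = n)
    (h : ¬ n * n.totient ∣ Nat.card G) : Pair G n := by
  apply pair_of_relIndex hx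
  have h1 := relIndex_dvd_totient hx
  have hn : 0 < n := by rw [← hx]; exact orderOf_pos x
  refine lt_of_le_of_ne (Nat.le_of_dvd (Nat.totient_pos.2 hn) h1) fun h2 => h ?_
  have h3 := card_mul_relIndex (centralizer_le_normalizer_zpowers x)
  rw [h2] at h3
  have h4 : n ∣ Nat.card (centralizer ({x} : Set G)) :=
    dvd_card_centralizer (z := x) rfl (by rw [hx])
  have h5 := Nat.mul_dvd_mul_right h4 n.totient
  rw [h3] at h5
  exact h5.trans (card_subgroup_dvd_card _)

theorem triple_of_relIndex {n : ℕ} {x : G} (hx : orderOf x = n)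
    (h : 2 * (centralizer ({x} : Set G)).relIndex (normalizer (zpowers x : Set G)) < n.totient) :
    Triple G n := by
  have hcyc : IsCyclic (zpowers x) := inferInstance
  have hcard : {y | y ∈ zpowers x ∧ orderOf y = n}.ncard = n.totient :=
    ncard_orderOf _ hcyc (by rw [Nat.card_zpowers, hx])
  have hle' : ∀ y ∈ {y | y ∈ zpowers x ∧ orderOf y = n},
      {z | z ∈ {y | y ∈ zpowers x ∧ orderOf y = n} ∧ IsConj y z}.ncard ≤
        (centralizer ({x} : Set G)).relIndex (normalizer (zpowers x : Set G)) := by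
    rintro y ⟨hy, hyo⟩
    refine (Set.ncard_le_ncard ?_ (Set.toFinite _)).trans (ncard_conj_le' hx hy hyo)
    rintro z ⟨⟨hz, -⟩, hz'⟩
    exact ⟨hz, hz'⟩
  obtain ⟨y, hy, z, hz, w, hw, h1, h2, h3⟩ := three_of_ncard hle' (by rw [hcard]; exact h)
  exact ⟨y, z, w, hy.2, hz.2, hw.2, h1, h2, h3⟩

omit [Finite G] in
/-- the quotient `N(⟨x⟩)/C(x)` is cyclic for an element of prime order -/
theorem exists_relIndex_dvd_orderOf {p : ℕ} (hp : p.Prime) {x : G} (hx : orderOf x = p) :
    ∃ g : G, (centralizer ({x} : Set G)).relIndex (normalizer (zpowers x : Set G)) ∣ orderOf g := by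
  set N := normalizer (zpowers x : Set G) with hN
  set C := centralizer ({x} : Set G) with hC
  have h1 : (normalizerMonoidHom (zpowers x)).ker = C.subgroupOf N := by
    rw [normalizerMonoidHom_ker]
    congr 1
    ext g
    rw [hC, mem_centralizer_iff, mem_centralizer_singleton_iff]
    constructor
    · intro h
      exact (h x (mem_zpowers x)).symm
    · intro h y hy
      obtain ⟨i, rfl⟩ := mem_zpowers_iff.1 hy
      have h1 : Commute g x := h
      exact (h1.zpow_right i).eq.symm
  have h2 : C.relIndex N = Nat.card (normalizerMonoidHom (zpowers x)).range := by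
    rw [relIndex, ← h1, index_ker]
  have : Fact (Nat.card (zpowers x)).Prime := ⟨by rw [Nat.card_zpowers, hx]; exact hp⟩
  have h3 : IsCyclic (MulAut (zpowers x)) :=
    isCyclic_of_injective (IsCyclic.mulAutMulEquiv (zpowers x)).toMonoidHom
      (IsCyclic.mulAutMulEquiv (zpowers x)).injective
  obtain ⟨⟨_, g, rfl⟩, hg⟩ :=
    IsCyclic.exists_ofOrder_eq_natCard (α := (normalizerMonoidHom (zpowers x)).range)
  refine ⟨g, ?_⟩
  rw [h2, ← hg, ← orderOf_coe, orderOf_coe g]
  exact orderOf_map_dvd _ _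

omit [Finite G] in
/-- a pair of mutually inverse nonconjugate elements -/
theorem pair_of_inv {n : ℕ} {x : G} (hx : orderOf x = n) (h : ¬ IsConj x x⁻¹) : Pair G n :=
  ⟨x, x⁻¹, hx, by rw [orderOf_inv, hx], h⟩

end Cfsg.Agent.H701
end

-- part: H701/AltPair
section
set_option linter.all false
open scoped Cfsg.Agent.FastGrp

-- part: H701/Alt
section
/-!
# `Ex2` for the alternating groups of degree at least 6
-/

set_option autoImplicit false

namespace Cfsg.Agent.H701

open Equiv Equiv.Perm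

/-- even permutations with different cycle types are not conjugate in the alternating group -/
theorem not_isConj_alt {n : ℕ} {x y : alternatingGroup (Fin n)}
    (h : (x : Perm (Fin n)).cycleType ≠ (y : Perm (Fin n)).cycleType) : ¬ IsConj x y := by
  intro hc
  apply h
  have : IsConj (x : Perm (Fin n)) (y : Perm (Fin n)) :=
    (alternatingGroup (Fin n)).subtype.map_isConj hc
  exact isConj_iff_cycleType_eq.1 this

theorem exists_alt {n : ℕ} (m : Multiset ℕ) (hsum : m.sum ≤ n) (h2 : ∀ a ∈ m, 2 ≤ a)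
    (hsgn : Even (m.sum + Multiset.card m)) :
    ∃ x : alternatingGroup (Fin n), (x : Perm (Fin n)).cycleType = m := by
  obtain ⟨g, hg⟩ := (Equiv.Perm.exists_with_cycleType_iff (Fin n) (m := m)).2
    ⟨by simpa using hsum, h2⟩
  refine ⟨⟨g, ?_⟩, hg⟩
  rw [mem_alternatingGroup, sign_of_cycleType, hg]
  exact hsgn.neg_one_pow

theorem orderOf_alt {n : ℕ} (x : alternatingGroup (Fin n)) :
    orderOf x = (x : Perm (Fin n)).cycleType.lcm := by
  rw [lcm_cycleType, Subgroup.orderOf_coe]

theorem ex2_alt_ge_eight {n : ℕ} (hn : 8 ≤ n) : Ex2 (alternatingGroup (Fin n)) := by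
  obtain ⟨a, ha⟩ := exists_alt (n := n) {2, 2} (by simp; omega) (by simp) (by decide)
  obtain ⟨b, hb⟩ := exists_alt (n := n) {2, 2, 2, 2} (by simp; omega) (by simp) (by decide)
  obtain ⟨c, hc⟩ := exists_alt (n := n) {3} (by simp; omega) (by simp) (by decide)
  obtain ⟨d, hd⟩ := exists_alt (n := n) {3, 3} (by simp; omega) (by simp) (by decide)
  refine Or.inr ⟨a, b, c, d, ?_, ?_, ?_, ?_, ?_⟩
  · rw [orderOf_alt, orderOf_alt, ha, hb]; decide
  · rw [orderOf_alt, orderOf_alt, hc, hd]; decide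
  · rw [orderOf_alt, orderOf_alt, ha, hc]; decide
  · apply not_isConj_alt; rw [ha, hb]; decide
  · apply not_isConj_alt; rw [hc, hd]; decide

/-- a set of elements whose cardinality does not divide the order is not a single class -/
theorem exists_not_isConj_of_card {G : Type*} [Group G] [Finite G] (a : G) (S : Set G)
    (ha : a ∈ S) (hS : ∀ x ∈ S, ∀ g : G, g * x * g⁻¹ ∈ S)
    (hd : ¬ Nat.card S ∣ Nat.card G) : ∃ b ∈ S, ¬ IsConj a b := by
  by_contra hcon
  push Not at hcon
  apply hd
  have : S = (ConjClasses.mk a).carrier := by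
    ext b
    rw [ConjClasses.mem_carrier_iff_mk_eq, ConjClasses.mk_eq_mk_iff_isConj]
    constructor
    · intro hb
      exact (hcon b hb).symm
    · intro h
      obtain ⟨c, hc⟩ := isConj_iff.1 h.symm
      rw [← hc]
      exact hS a ha c
  rw [this, ← ConjAct.orbit_eq_carrier_conjClasses]
  have h : Nat.card (MulAction.orbit (ConjAct G) a) =
      (MulAction.stabilizer (ConjAct G) a).index := by
    rw [Subgroup.index]
    exact Nat.card_congr (MulAction.orbitEquivQuotientStabilizer (ConjAct G) a)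
  rw [h]
  have h2 := (MulAction.stabilizer (ConjAct G) a).index_dvd_card
  rwa [show Nat.card (ConjAct G) = Nat.card G from Nat.card_congr ConjAct.ofConjAct.toEquiv] at h2

theorem ex2_alt_of_cycle {n m : ℕ} (hn : 6 ≤ n) (hm : 4 ≤ m) (hmn : m ≤ n) (hodd : Odd m)
    (hd : ¬ (m - 1).factorial * n.choose m ∣ Nat.card (alternatingGroup (Fin n))) :
    Ex2 (alternatingGroup (Fin n)) := by
  classical
  obtain ⟨c, hc⟩ := exists_alt (n := n) {3} (by simp; omega) (by simp) (by decide)
  obtain ⟨d, hd'⟩ := exists_alt (n := n) {3, 3} (by simp; omega) (by simp) (by decide)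
  obtain ⟨a, ha⟩ := exists_alt (n := n) {m} (by simp; omega) (by simp; omega)
    (by simp; exact hodd.add_one)
  let S : Set (alternatingGroup (Fin n)) := {g | (g : Perm (Fin n)).cycleType = {m}}
  have hcard : Nat.card S = (m - 1).factorial * n.choose m := by
    have := AlternatingGroup.card_of_cycleType_singleton (α := Fin n) (n := m) (by omega)
      (by simpa using hmn)
    rw [if_pos hodd, Fintype.card_fin] at this
    rw [← this, Nat.card_eq_fintype_card, Fintype.card_subtype]
    rfl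
  obtain ⟨b, hb, hab⟩ := exists_not_isConj_of_card a S ha (by
    intro x hx g
    show ((g * x * g⁻¹ : alternatingGroup (Fin n)) : Perm (Fin n)).cycleType = {m}
    rw [Subgroup.coe_mul, Subgroup.coe_mul, Subgroup.coe_inv, cycleType_conj]
    exact hx) (by rw [hcard]; exact hd)
  refine Or.inr ⟨a, b, c, d, ?_, ?_, ?_, hab, ?_⟩
  · rw [orderOf_alt, orderOf_alt, ha, show (b : Perm (Fin n)).cycleType = {m} from hb]
  · rw [orderOf_alt, orderOf_alt, hc, hd']; decide
  · rw [orderOf_alt, orderOf_alt, ha, hc]; simp; omega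
  · apply not_isConj_alt; rw [hc, hd']; decide

theorem ex2_alt {n : ℕ} (hn : 6 ≤ n) : Ex2 (alternatingGroup (Fin n)) := by
  rcases Nat.lt_or_ge n 8 with h | h
  · have hcard : ∀ k : ℕ, 2 ≤ k → 2 * Nat.card (alternatingGroup (Fin k)) = k.factorial := by
      intro k hk
      haveI : Nontrivial (Fin k) := Fin.nontrivial_iff_two_le.2 hk
      rw [Nat.card_eq_fintype_card, two_mul_card_alternatingGroup, Fintype.card_perm,
        Fintype.card_fin]
    have := hcard n (by omega)
    interval_cases n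
    · apply ex2_alt_of_cycle (m := 5) (by norm_num) (by norm_num) (by norm_num) (by decide)
      rw [show (6 : ℕ).factorial = 720 from rfl] at this
      rw [show Nat.card (alternatingGroup (Fin 6)) = 360 by omega]
      decide
    · apply ex2_alt_of_cycle (m := 7) (by norm_num) (by norm_num) (by norm_num) (by decide)
      rw [show (7 : ℕ).factorial = 5040 from rfl] at this
      rw [show Nat.card (alternatingGroup (Fin 7)) = 2520 by omega]
      decide
  · exact ex2_alt_ge_eight h

end Cfsg.Agent.H701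
end

-- part: H701/AltThree
section
set_option autoImplicit false

/-!
Three classes of elements of order three in the alternating groups of degree at least nine.
-/

namespace Cfsg.Agent.H701

open Equiv Equiv.Perm

theorem triple_alt {n : ℕ} (hn : 9 ≤ n) : Triple (alternatingGroup (Fin n)) 3 := by
  obtain ⟨a, ha⟩ := exists_alt (n := n) {3} (by simp; omega) (by simp) (by decide)
  obtain ⟨b, hb⟩ := exists_alt (n := n) {3, 3} (by simp; omega) (by simp) (by decide)
  obtain ⟨c, hc⟩ := exists_alt (n := n) {3, 3, 3} (by simp; omega) (by simp) (by decide)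
  refine ⟨a, b, c, ?_, ?_, ?_, ?_, ?_, ?_⟩
  · rw [orderOf_alt, ha]; decide
  · rw [orderOf_alt, hb]; decide
  · rw [orderOf_alt, hc]; decide
  · apply not_isConj_alt; rw [ha, hb]; decide
  · apply not_isConj_alt; rw [ha, hc]; decide
  · apply not_isConj_alt; rw [hb, hc]; decide

end Cfsg.Agent.H701
end

-- part: H701/AltPair
section
set_option autoImplicit false

/-!
Two classes of cycles of odd length in some alternating groups.
-/

namespace Cfsg.Agent.H701

open Equiv Equiv.Perm

theorem pair_alt_three {n : ℕ} (hn : 6 ≤ n) : Pair (alternatingGroup (Fin n)) 3 := by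
  obtain ⟨a, ha⟩ := exists_alt (n := n) {3} (by simp; omega) (by simp) (by decide)
  obtain ⟨b, hb⟩ := exists_alt (n := n) {3, 3} (by simp; omega) (by simp) (by decide)
  refine ⟨a, b, ?_, ?_, ?_⟩
  · rw [orderOf_alt, ha]; decide
  · rw [orderOf_alt, hb]; decide
  · apply not_isConj_alt; rw [ha, hb]; decide

theorem pair_alt_cycle {n m : ℕ} (hm : 4 ≤ m) (hmn : m ≤ n) (hodd : Odd m)
    (hd : ¬ (m - 1).factorial * n.choose m ∣ Nat.card (alternatingGroup (Fin n))) :
    Pair (alternatingGroup (Fin n)) m := by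
  classical
  obtain ⟨a, ha⟩ := exists_alt (n := n) {m} (by simp; omega) (by simp; omega)
    (by simp; exact hodd.add_one)
  let S : Set (alternatingGroup (Fin n)) := {g | (g : Perm (Fin n)).cycleType = {m}}
  have hcard : Nat.card S = (m - 1).factorial * n.choose m := by
    have := AlternatingGroup.card_of_cycleType_singleton (α := Fin n) (n := m) (by omega)
      (by simpa using hmn)
    rw [if_pos hodd, Fintype.card_fin] at this
    rw [← this, Nat.card_eq_fintype_card, Fintype.card_subtype]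
    rfl
  obtain ⟨b, hb, hab⟩ := exists_not_isConj_of_card a S ha (by
    intro x hx g
    show ((g * x * g⁻¹ : alternatingGroup (Fin n)) : Perm (Fin n)).cycleType = {m}
    rw [Subgroup.coe_mul, Subgroup.coe_mul, Subgroup.coe_inv, cycleType_conj]
    exact hx) (by rw [hcard]; exact hd)
  refine ⟨a, b, ?_, ?_, hab⟩
  · rw [orderOf_alt, ha]; simp
  · rw [orderOf_alt, show (b : Perm (Fin n)).cycleType = {m} from hb]; simp

theorem card_alt {k : ℕ} (hk : 2 ≤ k) : 2 * Nat.card (alternatingGroup (Fin k)) = k.factorial := by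
  haveI : Nontrivial (Fin k) := Fin.nontrivial_iff_two_le.2 hk
  rw [Nat.card_eq_fintype_card, two_mul_card_alternatingGroup, Fintype.card_perm,
    Fintype.card_fin]

theorem pair_alt_five : Pair (alternatingGroup (Fin 5)) 5 := by
  apply pair_alt_cycle (by norm_num) (by norm_num) (by decide)
  have := card_alt (k := 5) (by norm_num)
  rw [show (5 : ℕ).factorial = 120 from rfl] at this
  rw [show Nat.card (alternatingGroup (Fin 5)) = 60 by omega]
  decide

theorem pair_alt_seven : Pair (alternatingGroup (Fin 8)) 7 := by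
  apply pair_alt_cycle (by norm_num) (by norm_num) (by decide)
  have := card_alt (k := 8) (by norm_num)
  rw [show (8 : ℕ).factorial = 40320 from rfl] at this
  rw [show Nat.card (alternatingGroup (Fin 8)) = 20160 by omega]
  decide

end Cfsg.Agent.H701
end
end
end
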