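import Cfsg.Agent.H701.CycPair_m3
import Cfsg.Agent.CpQuot.ONThree
import Cfsg.Agent.S1699
import Cfsg.Agent.FastGrp
import Cfsg.Agent.Prune
set_option linter.all false
prune_inst 0x7f00000000000000000000000000000000000000000000000000000000000000000000000000000000000000000000000000000000000000000000000000000000000000000000000000000000000000003fffffffffffffffffffffffffffbeffbdffffffff
open scoped Cfsg.Agent.FastGrp

set_option autoImplicit false

/-!
The O'Nan group: three classes of elements of order 19. There is no element of order nine, so that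
the index of the centralizer of an element of order 19 in the normalizer of the cyclic subgroup
divides six.
-/

namespace Cfsg.Agent.H701

open Subgroup
open Cfsg.Spor (ON)
open Cfsg.Agent.CpQuot.ONThree Cfsg.Agent.KFacts.MulSpor.ON

theorem cube_P (hs : IsSimpleGroup ON) : ∀ x ∈ P, x ^ 3 = 1 := by
  have a1 := x1s hs
  have a2 := x2s hs
  have b1 := x1t1 hs
  have b2 := x2t1 hs
  have c1 := x1t2 hs
  have c2 := x2t2 hs
  have hk1 := k1 hs
  have hk2 := k2 hs
  have h12 := x12 hs
  have q1 := cube1 hs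
  have q2 := cube2 hs
  have hyy := yy hs
  have d1 : (w s * w t₁) ^ 3 = 1 := by
    have h1 : w s * w t₁ = (w k)⁻¹ * w x₁ * w k := by rw [← hk1]; group
    have h2 := conj_pow (i := 3) (a := (w k)⁻¹) (b := w x₁)
    rw [inv_inv] at h2
    rw [h1, h2, q1]; group
  have d2 : (w s * w t₂) ^ 3 = 1 := by
    have h1 : w s * w t₂ = (w k)⁻¹ * (w x₁ * w x₂) * w k := by rw [← hk2]; group
    have h2 := conj_pow (i := 3) (a := (w k)⁻¹) (b := w x₁ * w x₂)
    rw [inv_inv] at h2
    rw [h1, h2, (show Commute (w x₁) (w x₂) from h12).mul_pow, q1, q2]; group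
  have e11 : w x₁ * (w s * w t₁) = (w s * w t₁) * w x₁ := by
    rw [← mul_assoc, a1, mul_assoc, b1, mul_assoc]
  have e12 : w x₁ * (w s * w t₂) = (w s * w t₂) * w x₁ := by
    rw [← mul_assoc, a1, mul_assoc, c1, mul_assoc]
  have e21 : w x₂ * (w s * w t₁) = (w s * w t₁) * w x₂ := by
    rw [← mul_assoc, a2, mul_assoc, b2, mul_assoc]
  have e22 : w x₂ * (w s * w t₂) = (w s * w t₂) * w x₂ := by
    rw [← mul_assoc, a2, mul_assoc, c2, mul_assoc]
  have hcomm : ∀ x ∈ ({w x₁, w x₂, w s * w t₁, w s * w t₂} : Set ON),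
      ∀ y ∈ ({w x₁, w x₂, w s * w t₁, w s * w t₂} : Set ON), x * y = y * x := by
    rintro x (rfl | rfl | rfl | rfl) y (rfl | rfl | rfl | rfl)
    all_goals first
      | rfl
      | exact h12 | exact h12.symm | exact e11 | exact e11.symm | exact e12 | exact e12.symm
      | exact e21 | exact e21.symm | exact e22 | exact e22.symm | exact hyy | exact hyy.symm
  have hcommP : ∀ x ∈ P, ∀ y ∈ P, x * y = y * x := by
    have h1 : P ≤ centralizer ({w x₁, w x₂, w s * w t₁, w s * w t₂} : Set ON) := by
      rw [P, closure_le]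
      intro x hx y hy
      exact hcomm y hy x hx
    have h2 : P ≤ centralizer (P : Set ON) := by
      rw [P, closure_le]
      intro x hx
      rw [SetLike.mem_coe, mem_centralizer_iff]
      intro y hy
      exact (mem_centralizer_iff.1 (h1 hy) x hx).symm
    intro x hx y hy
    exact (mem_centralizer_iff.1 (h2 hx) y hy).symm
  intro x hx
  induction hx using closure_induction with
  | mem x hx =>
    rcases hx with rfl | rfl | rfl | rfl
    · exact q1
    · exact q2
    · exact d1
    · exact d2
  | one => exact one_pow 3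
  | mul x y hx hy h1 h2 =>
    rw [(show Commute x y from hcommP x hx y hy).mul_pow, h1, h2, one_mul]
  | inv x hx h1 => rw [inv_pow, h1, inv_one]

theorem no_nine (hON : Cfsg.IsON ON) [Finite ON] (g : ON) : orderOf g ≠ 9 := by
  intro hg
  have : Fact (Nat.Prime 3) := ⟨Nat.prime_three⟩
  have hP : IsPGroup 3 P := by
    intro x
    refine ⟨1, Subtype.ext ?_⟩
    rw [pow_one]
    exact cube_P hON.1 x x.2
  let S : Sylow 3 ON := hP.toSylow (not_dvd_index hON)
  have hz : IsPGroup 3 (zpowers g) := IsPGroup.of_card (n := 2) (by rw [Nat.card_zpowers, hg]; norm_num)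
  obtain ⟨Q, hQ⟩ := hz.exists_le_sylow
  obtain ⟨c, hc⟩ := MulAction.exists_smul_eq ON Q S
  have h1 : c * g * c⁻¹ ∈ (S : Subgroup ON) := by
    rw [← hc]
    exact smul_mem_pointwise_smul g (MulAut.conj c) (Q : Subgroup ON) (hQ (mem_zpowers g))
  have h2 : (c * g * c⁻¹) ^ 3 = 1 := cube_P hON.1 _ h1
  rw [conj_pow, conj_eq_one_iff] at h2
  have h3 := orderOf_dvd_of_pow_eq_one h2
  rw [hg] at h3
  norm_num at h3

theorem ex2_on {K : Type*} [Group K] [Finite K] (h : Cfsg.Spor.IsoON K) : Ex2 K := by
  obtain ⟨e⟩ := h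
  have : Finite ON := Finite.of_equiv K e.toEquiv
  have hON := Cfsg.Agent.S1699.result
  have : Fact (Nat.Prime 19) := ⟨by norm_num⟩
  obtain ⟨x, hx⟩ := exists_prime_orderOf_dvd_card' (G := ON) 19 (by rw [hON.2]; norm_num)
  have h1 := relIndex_dvd_totient hx
  obtain ⟨g, hg⟩ := exists_relIndex_dvd_orderOf (by norm_num) hx
  rw [Nat.totient_prime (by norm_num)] at h1
  have h9 : ¬ 9 ∣ (centralizer ({x} : Set ON)).relIndex (normalizer (zpowers x : Set ON)) := by
    intro h
    obtain ⟨k, hk⟩ := h.trans hg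
    have hk0 : k ≠ 0 := by
      rintro rfl
      exact (orderOf_pos g).ne' hk
    refine no_nine hON (g ^ k) ?_
    rw [orderOf_pow' g hk0, hk, Nat.gcd_eq_right (Dvd.intro_left 9 rfl),
      Nat.mul_div_cancel _ (Nat.pos_of_ne_zero hk0)]
  refine Ex2.congr e.symm (Ex2.of_triple (triple_of_relIndex hx ?_))
  rw [Nat.totient_prime (by norm_num)]
  have h2 := Nat.le_of_dvd (by norm_num) h1
  generalize (centralizer ({x} : Set ON)).relIndex (normalizer (zpowers x : Set ON)) = d at *
  interval_cases d <;> omega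

end Cfsg.Agent.H701

private theorem dce_d039ceb7e555 : _root_.True := by
  try have : _root_.True := by simp only [_root_.Cfsg.Agent.CpQuot.ONThree.P.eq_1]
  exact _root_.True.intro
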