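import Cfsg.Agent.H701.CycPair_m3
import Cfsg.Agent.S0246
import Cfsg.Prelude.Def_Classical
import Cfsg.Agent.S0279
import Cfsg.Agent.ClassicalGeometry.UnitTransv
import Cfsg.Agent.SporadicA.M24Trans
import Cfsg.Agent.OddHalf.Small.Mathieu
import Cfsg.Agent.H660.M24Index
import Cfsg.Agent.H565.Fix
import Cfsg.Agent.Walter.LastCase_mg_m3
import Cfsg.Agent.LieClassical.OmegaCenter
import Cfsg.Agent.LieClassical.OmegaReindex
import Cfsg.Agent.OddCyclic.ClaimC.SzIso
import Cfsg.Agent.S0333
import Cfsg.Agent.S1158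
import Cfsg.Agent.Classification.FlavellU
import Cfsg.Agent.H701.TwChev
import Cfsg.Agent.KFacts.TwF4.Torus
import Cfsg.Agent.EvenType.ChevTwoTits
import Cfsg.Agent.CTwoTab.Co1
import Cfsg.Agent.KFacts.Co1.Perf
import Cfsg.Agent.KFacts.Co1.YBig
import Cfsg.Agent.CoOneType.CentOctad
import Cfsg.Agent.CoOneType.ClosingCo1
import Cfsg.Agent.OddHalf.D4.Spor.HN_m3
import Cfsg.Agent.SporadicStructure.M24El
import Cfsg.Agent.H603.SporElim
import Cfsg.Agent.ChevFast.F4
import Cfsg.Agent.ChevFast.Lin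
import Cfsg.Agent.BabyU.ModelInst
import Cfsg.Agent.CTwoTab.Fi22
import Cfsg.Agent.CTwoTab.Fi23Fin
import Cfsg.Agent.CTwoTab.He
import Cfsg.Agent.S2135
import Cfsg.Agent.H850.MonSub
import Cfsg.Agent.MonsterN.LitFin
import Cfsg.Agent.SylowLFive.MElevenFacts
import Cfsg.Agent.Cit.Eleven
import Cfsg.Agent.SporadicA.M11Sylow
import Cfsg.Agent.CTwoTab.Ru
import Cfsg.Agent.RuD.IdxPermG_m3
import Cfsg.Agent.RuD.IdxNetW_m3
import Cfsg.Agent.Lib.DivFast
import Cfsg.Agent.KFacts.HN.Classes
import Cfsg.Agent.KFacts.HN.PCard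
import Cfsg.Agent.HN.TwoClasses
import Cfsg.Agent.KFacts.HS.Sheet2_m3
import Cfsg.Agent.H393.Iso.J23
import Cfsg.Agent.R10.Close
import Cfsg.Agent.CoThreeStd.AutInv
import Cfsg.Agent.KFacts.M24Two.Orders
import Cfsg.Prelude.Def_Spor_Mathieu
import Cfsg.Agent.S2132
import Cfsg.Agent.KFacts.SuzTwoB
import Cfsg.Agent.KFacts.SuzLarge
import Cfsg.Agent.Th.Main475
import Cfsg.Prelude.Def_Classification2
import Cfsg.Agent.H701.SporCo2
import Cfsg.Agent.H701.SporCo3
import Cfsg.Agent.H701.SporFi24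
import Cfsg.Agent.H701.SporON
import Cfsg.Agent.S0252
import Cfsg.Agent.S0253
import Cfsg.Agent.S0255
import Cfsg.Agent.S0495
import Cfsg.Agent.SmallSimple.S1000.PSLFacts
import Cfsg.Agent.FastGrp
import Cfsg.Agent.Prune
set_option linter.all false

section
prune_inst 0x7ffcbcf9ebbc2ddfdfff7e77fedddffc39905fffefdff94bffe061ff0fdf03800945fbad0de010ff0ed6e01c10b87853fb7eeeffe26fdc7ffffd5ff45ffbee0ff5f7bd08719688340f340fff63f07f8e7f3fffffffffffffffffffffffffffbeffffffffffff

-- part: H701/PslThreeEven_mg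
section
prune_inst 0x30104140152200000000000002001c62b200000000080000002002020780ac4000000020a8100000000800040030004000000080000000000a000000011c00800000000000000000020000000000000000000000000000000000000000000000000000000
set_option linter.all false
open scoped Cfsg.Agent.FastGrp

-- part: H701/MatInv
section
/-!
# Conjugacy invariants of unipotent matrices
-/

set_option autoImplicit false
set_option linter.all false

namespace Cfsg.Agent.H701

open Matrix

variable {ι F : Type*} [Fintype ι] [DecidableEq ι] [Field F]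

/-- rank at most one -/
def Rk1 (N : Matrix ι ι F) : Prop := ∃ u v : ι → F, N = Matrix.vecMulVec u v

theorem Rk1.conj {x y N M : Matrix ι ι F} (h : x * N * y = M) (hN : Rk1 N) : Rk1 M := by
  obtain ⟨u, v, rfl⟩ := hN
  refine ⟨x *ᵥ u, v ᵥ* y, ?_⟩
  rw [← h, Matrix.mul_vecMulVec, Matrix.vecMulVec_mul]

theorem Rk1.minor {N : Matrix ι ι F} (hN : Rk1 N) (i j k l : ι) :
    N i j * N k l = N i l * N k j := by
  obtain ⟨u, v, rfl⟩ := hN
  simp only [Matrix.vecMulVec_apply]
  ring

theorem rk1_single (i j : ι) (a : F) : Rk1 (Matrix.single i j a) := by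
  refine ⟨Pi.single i a, Pi.single j 1, ?_⟩
  ext k l
  rw [Matrix.vecMulVec_apply, Matrix.single_apply, Pi.single_apply, Pi.single_apply]
  by_cases hk : k = i
  · by_cases hl : l = j
    · simp [hk, hl]
    · simp [hk, hl, Ne.symm hl]
  · simp [hk, Ne.symm hk]

theorem not_rk1_add {i j k l : ι} (hik : i ≠ k) (hjl : j ≠ l) {a b : F} (ha : a ≠ 0) (hb : b ≠ 0) :
    ¬ Rk1 (Matrix.single i j a + Matrix.single k l b) := by
  intro h
  have := h.minor i j k l
  simp [hik, hik.symm, hjl, hjl.symm, ha, hb] at this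

/-- conjugate elements of a group of matrices, the matrices minus one -/
theorem conj_sub_one {Q : Type*} [Group Q] (f : Q →* Matrix ι ι F) {g h : Q} (hc : IsConj g h) :
    ∃ x y : Matrix ι ι F, x * y = 1 ∧ y * x = 1 ∧ x * (f g - 1) * y = f h - 1 := by
  obtain ⟨c, hc⟩ := isConj_iff.1 hc
  have h1 : f c * f c⁻¹ = 1 := by rw [← map_mul, mul_inv_cancel, map_one]
  have h2 : f c⁻¹ * f c = 1 := by rw [← map_mul, inv_mul_cancel, map_one]
  refine ⟨f c, f c⁻¹, h1, h2, ?_⟩
  rw [mul_sub, sub_mul, mul_one, h1, ← map_mul, ← map_mul, hc]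

theorem conj_pow_mat {x y N M : Matrix ι ι F} (hyx : y * x = 1) (h : x * N * y = M) :
    ∀ n : ℕ, n ≠ 0 → x * N ^ n * y = M ^ n := by
  intro n hn
  induction n with
  | zero => exact absurd rfl hn
  | succ n ih =>
    rcases Nat.eq_zero_or_pos n with rfl | hpos
    · simpa using h
    · rw [pow_succ, pow_succ, ← ih hpos.ne', ← h]
      calc x * (N ^ n * N) * y = x * N ^ n * 1 * N * y := by
            rw [mul_one]; simp only [Matrix.mul_assoc]
        _ = x * N ^ n * y * (x * N * y) := by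
            rw [← hyx]; simp only [Matrix.mul_assoc]

theorem rk1_iff_of_isConj {Q : Type*} [Group Q] (f : Q →* Matrix ι ι F) {g h : Q}
    (hc : IsConj g h) : Rk1 (f g - 1) → Rk1 (f h - 1) := by
  obtain ⟨x, y, -, -, e⟩ := conj_sub_one f hc
  exact Rk1.conj e

theorem pow_eq_zero_of_isConj {Q : Type*} [Group Q] (f : Q →* Matrix ι ι F) {g h : Q}
    (hc : IsConj g h) {n : ℕ} (hn : n ≠ 0) (h0 : (f g - 1) ^ n = 0) : (f h - 1) ^ n = 0 := by
  obtain ⟨x, y, -, hyx, e⟩ := conj_sub_one f hc
  rw [← conj_pow_mat hyx e n hn, h0, mul_zero, zero_mul]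

/-- in characteristic `p` an element `g` with `(g - 1)^n = 0`, `n ≤ p^a`, has `g^(p^a) = 1` -/
theorem pow_char_eq_one {Q : Type*} [Group Q] (f : Q →* Matrix ι ι F)
    (hf : Function.Injective f) {p : ℕ} [Fact p.Prime] [CharP F p] {g : Q} {n a : ℕ}
    (h0 : (f g - 1) ^ n = 0) (hn : n ≤ p ^ a) : g ^ p ^ a = 1 := by
  apply hf
  rw [map_one, map_pow]
  haveI : Nonempty ι ∨ IsEmpty ι := by
    rcases isEmpty_or_nonempty ι with h | h
    · exact Or.inr h
    · exact Or.inl h
  rcases this with hne | hem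
  · haveI : CharP (Matrix ι ι F) p := Matrix.charP p
    have e : f g = (f g - 1) + 1 := by abel
    rw [e, add_pow_char_pow_of_commute (R := Matrix ι ι F) (p := p) (n := a) (Commute.one_right _),
      one_pow, pow_eq_zero_of_le hn h0, zero_add]
  · exact Subsingleton.elim _ _

/-- `g` has order `p` if `(g-1)^n = 0`, `n ≤ p`, `g ≠ 1` -/
theorem orderOf_eq_char {Q : Type*} [Group Q] (f : Q →* Matrix ι ι F)
    (hf : Function.Injective f) {p : ℕ} [Fact p.Prime] [CharP F p] {g : Q} {n : ℕ}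
    (h0 : (f g - 1) ^ n = 0) (hn : n ≤ p) (hg : f g - 1 ≠ 0) : orderOf g = p := by
  apply orderOf_eq_prime
  · have := pow_char_eq_one f hf (a := 1) h0 (by simpa using hn)
    simpa using this
  · rintro rfl
    apply hg
    rw [map_one, sub_self]

end Cfsg.Agent.H701
end

-- part: H701/PslFour
section
/-!
# `Ex2` for `PSL_n(q)`, `n ≥ 4`
-/

set_option autoImplicit false
set_option linter.all false

namespace Cfsg.Agent.H701

open Matrix

variable {ι F : Type*} [Fintype ι] [DecidableEq ι] [Field F]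

/-- the inclusion of `SL` in the matrices -/
def slMat (ι F : Type*) [Fintype ι] [DecidableEq ι] [Field F] :
    _root_.Matrix.SpecialLinearGroup ι F →* Matrix ι ι F :=
  { toFun := fun g => (g : Matrix ι ι F)
    map_one' := rfl
    map_mul' := fun _ _ => rfl }

theorem single_one_ne {i j : ι} : Matrix.single i j (1 : F) ≠ 0 := by
  intro h0
  have := congrFun (congrFun h0 i) j
  simp at this

theorem slMat_injective : Function.Injective (slMat ι F) := fun _ _ h => Subtype.ext h

theorem noP_sl {p : ℕ} [Fact p.Prime] [CharP F p] : NoP p (_root_.Matrix.SpecialLinearGroup ι F) := by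
  intro z hz hp
  obtain ⟨r, hr, hz⟩ := Matrix.SpecialLinearGroup.mem_center_iff.1 hz
  apply Subtype.ext
  rcases isEmpty_or_nonempty ι with h | ⟨⟨i⟩⟩
  · exact Subsingleton.elim _ _
  · have h0 : (slMat ι F z) ^ p = 1 := by rw [← map_pow, hp, map_one]
    have hz' : slMat ι F z = Matrix.scalar ι r := hz.symm
    rw [hz', ← map_pow] at h0
    have h2 : r ^ p = 1 := by
      have h1 := congrFun (congrFun h0 i) i
      simpa [Matrix.scalar_apply] using h1
    have h3 : r = 1 := by
      have : (r - 1) ^ p = 0 := by rw [sub_pow_char, one_pow, h2, sub_self]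
      exact sub_eq_zero.1 (pow_eq_zero_iff (Fact.out : p.Prime).ne_zero |>.1 this)
    rw [← hz, h3]
    simp

/-- a transvection in `SL` -/
def tv (i j : ι) (h : i ≠ j) (a : F) : _root_.Matrix.SpecialLinearGroup ι F :=
  ⟨Matrix.transvection i j a, Matrix.det_transvection_of_ne i j h a⟩

theorem slMat_tv {i j : ι} (h : i ≠ j) (a : F) :
    slMat ι F (tv i j h a) = 1 + Matrix.single i j a := rfl

/-- four different indices -/
structure Four (i j k l : ι) : Prop where
  ij : i ≠ j
  ik : i ≠ k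
  il : i ≠ l
  jk : j ≠ k
  jl : j ≠ l
  kl : k ≠ l

variable {i j k l : ι}

/-- `1 + E_ij + E_kl` -/
def y2 (h : Four i j k l) : _root_.Matrix.SpecialLinearGroup ι F := tv i j h.ij 1 * tv k l h.kl 1

theorem y2_sub (h : Four i j k l) :
    slMat ι F (y2 h) - 1 = Matrix.single i j 1 + Matrix.single k l 1 := by
  rw [y2, map_mul, slMat_tv, slMat_tv, mul_add, mul_one, add_mul, one_mul,
    Matrix.single_mul_single_of_ne _ _ _ _ h.jk]
  abel

/-- `1 + E_ij + E_jk` -/
def y3 (hij : i ≠ j) (hjk : j ≠ k) : _root_.Matrix.SpecialLinearGroup ι F := tv j k hjk 1 * tv i j hij 1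

theorem y3_sub (hij : i ≠ j) (hjk : j ≠ k) (hik : i ≠ k) :
    slMat ι F (y3 hij hjk) - 1 = Matrix.single i j 1 + Matrix.single j k 1 := by
  rw [y3, map_mul, slMat_tv, slMat_tv, mul_add, mul_one, add_mul, one_mul,
    Matrix.single_mul_single_of_ne _ _ _ _ hik.symm]
  abel

/-- `1 + E_ij + E_jk + E_kl` -/
def y4 (h : Four i j k l) : _root_.Matrix.SpecialLinearGroup ι F := tv k l h.kl 1 * y3 h.ij h.jk

theorem y4_sub (h : Four i j k l) :
    slMat ι F (y4 h) - 1 = Matrix.single i j 1 + Matrix.single j k 1 + Matrix.single k l 1 := by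
  have e : slMat ι F (y3 h.ij h.jk) = 1 + (Matrix.single i j 1 + Matrix.single j k 1) := by
    rw [← y3_sub h.ij h.jk h.ik]; abel
  rw [y4, map_mul, slMat_tv, e, mul_add, mul_one, add_mul, one_mul, mul_add,
    Matrix.single_mul_single_of_ne _ _ _ _ h.il.symm,
    Matrix.single_mul_single_of_ne _ _ _ _ h.jl.symm]
  abel

theorem ex2_psl_four [Finite F] (h : Four i j k l) :
    Ex2 (_root_.Matrix.SpecialLinearGroup ι F ⧸ Subgroup.center (_root_.Matrix.SpecialLinearGroup ι F)) := by
  obtain ⟨p, hp⟩ := CharP.exists F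
  haveI : Fact p.Prime := ⟨CharP.char_is_prime F p⟩
  have hp2 : 2 ≤ p := (Fact.out : p.Prime).two_le
  set f := slMat ι F with hf
  have hinj : Function.Injective f := slMat_injective
  -- the four unipotent elements
  have n1 : f (tv i j h.ij 1) - 1 = Matrix.single i j 1 := by rw [slMat_tv]; abel
  have n2 := y2_sub (F := F) h
  have n3 := y3_sub (F := F) h.ij h.jk h.ik
  have n4 := y4_sub (F := F) h
  rw [← hf] at n2 n3 n4
  have s1 : (f (tv i j h.ij 1) - 1) ^ 2 = 0 := by
    rw [n1, pow_two, Matrix.single_mul_single_of_ne _ _ _ _ h.ij.symm]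
  have s2 : (f (y2 h) - 1) ^ 2 = 0 := by
    rw [n2, pow_two, mul_add, add_mul, add_mul, Matrix.single_mul_single_of_ne _ _ _ _ h.ij.symm,
      Matrix.single_mul_single_of_ne _ _ _ _ h.il.symm,
      Matrix.single_mul_single_of_ne _ _ _ _ h.jk, Matrix.single_mul_single_of_ne _ _ _ _ h.kl.symm]
    simp
  have s3 : (f (y3 h.ij h.jk) - 1) ^ 2 = Matrix.single i k 1 := by
    rw [n3, pow_two, mul_add, add_mul, add_mul, Matrix.single_mul_single_of_ne _ _ _ _ h.ij.symm,
      Matrix.single_mul_single_same,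
      Matrix.single_mul_single_of_ne _ _ _ _ h.ik.symm, Matrix.single_mul_single_of_ne _ _ _ _ h.jk.symm]
    simp
  have s3' : (f (y3 h.ij h.jk) - 1) ^ 3 = 0 := by
    rw [pow_succ, s3, n3, mul_add, Matrix.single_mul_single_of_ne _ _ _ _ h.ik.symm,
      Matrix.single_mul_single_of_ne _ _ _ _ h.jk.symm]
    simp
  have s4 : (f (y4 h) - 1) ^ 2 = Matrix.single i k 1 + Matrix.single j l 1 := by
    rw [n4, pow_two, mul_add, mul_add, add_mul, add_mul, add_mul, add_mul, add_mul, add_mul,
      Matrix.single_mul_single_of_ne _ _ _ _ h.ij.symm,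
      Matrix.single_mul_single_same, Matrix.single_mul_single_same,
      Matrix.single_mul_single_of_ne _ _ _ _ h.ik.symm, Matrix.single_mul_single_of_ne _ _ _ _ h.jk.symm,
      Matrix.single_mul_single_of_ne _ _ _ _ h.il.symm, Matrix.single_mul_single_of_ne _ _ _ _ h.jl.symm,
      Matrix.single_mul_single_of_ne _ _ _ _ h.jk, Matrix.single_mul_single_of_ne _ _ _ _ h.kl.symm]
    simp
  have s4' : (f (y4 h) - 1) ^ 3 = Matrix.single i l 1 := by
    rw [pow_succ, s4, n4, mul_add, mul_add, add_mul, add_mul, add_mul,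
      Matrix.single_mul_single_same,
      Matrix.single_mul_single_of_ne _ _ _ _ h.ik.symm, Matrix.single_mul_single_of_ne _ _ _ _ h.jk.symm,
      Matrix.single_mul_single_of_ne _ _ _ _ h.il.symm, Matrix.single_mul_single_of_ne _ _ _ _ h.jl.symm,
      Matrix.single_mul_single_of_ne _ _ _ _ h.kl.symm]
    simp
  have s4'' : (f (y4 h) - 1) ^ 4 = 0 := by
    rw [pow_succ, s4', n4, mul_add, mul_add,
      Matrix.single_mul_single_of_ne _ _ _ _ h.il.symm, Matrix.single_mul_single_of_ne _ _ _ _ h.jl.symm,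
      Matrix.single_mul_single_of_ne _ _ _ _ h.kl.symm]
    simp
  have o1 : orderOf (tv i j h.ij (1 : F)) = p :=
    orderOf_eq_char f hinj s1 hp2 (by rw [n1]; exact single_one_ne)
  have o2 : orderOf (y2 (F := F) h) = p :=
    orderOf_eq_char f hinj s2 hp2 (by
      rw [n2]; intro h0
      have := congrFun (congrFun h0 i) j
      simp [Matrix.single_apply, h.ik.symm] at this)
  have c12 : ¬ IsConj (tv i j h.ij (1 : F)) (y2 h) := by
    intro hc
    have := rk1_iff_of_isConj f hc (by rw [n1]; exact rk1_single _ _ _)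
    rw [n2] at this
    exact not_rk1_add h.ik h.jl one_ne_zero one_ne_zero this
  have sq3 : (f (y3 h.ij h.jk) - 1) ^ 2 ≠ 0 := by
    rw [s3]; exact single_one_ne
  have hnoP : NoP p (_root_.Matrix.SpecialLinearGroup ι F) := noP_sl
  rcases eq_or_ne p 2 with rfl | hne
  · -- characteristic two: orders 2 and 4
    have q1 : (tv i j h.ij (1 : F)) ^ 2 ^ 2 = 1 := pow_char_eq_one f hinj s1 (by norm_num)
    have q2 : (y2 (F := F) h) ^ 2 ^ 2 = 1 := pow_char_eq_one f hinj s2 (by norm_num)
    have q3 : (y3 (F := F) h.ij h.jk) ^ 2 ^ 2 = 1 := pow_char_eq_one f hinj s3' (by norm_num)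
    have q4 : (y4 (F := F) h) ^ 2 ^ 2 = 1 := pow_char_eq_one f hinj s4'' (by norm_num)
    have hord : ∀ g : _root_.Matrix.SpecialLinearGroup ι F, g ^ 2 ^ 2 = 1 → (f g - 1) ^ 2 ≠ 0 →
        orderOf g = 4 := by
      intro g hg hg2
      have : orderOf g = 2 ^ (1 + 1) := by
        apply orderOf_eq_prime_pow
        · intro hcon
          apply hg2
          have h2 : f g ^ 2 = 1 := by
            rw [← map_pow, show g ^ 2 = 1 by simpa only [_root_.pow_one] using hcon, map_one]
          haveI : Nonempty ι := ⟨i⟩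
          haveI : CharP (Matrix ι ι F) 2 := Matrix.charP 2
          have h3 := sub_pow_char_of_commute (R := Matrix ι ι F) (p := 2)
            (Commute.one_right (f g))
          rw [h3, h2, one_pow, sub_self]
        · exact hg
      simpa using this
    have o3 := hord _ q3 sq3
    have o4 := hord _ q4 (by
      rw [s4]; intro h0
      have := congrFun (congrFun h0 i) k
      simp [Matrix.single_apply, h.ij.symm] at this)
    refine Ex2.quot_two_two hnoP q1 q2 q3 q4 (o1.trans o2.symm) (o3.trans o4.symm)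
      (by rw [o1, o3]; norm_num) c12 ?_
    intro hc
    have := pow_eq_zero_of_isConj f hc (n := 3) (by norm_num) s3'
    rw [s4'] at this
    exact single_one_ne this
  · -- odd characteristic: three classes of elements of order `p`
    have hp3 : 3 ≤ p := by omega
    have q1 : (tv i j h.ij (1 : F)) ^ p ^ 1 = 1 :=
      pow_char_eq_one f hinj s1 (by simpa using hp2)
    have q2 : (y2 (F := F) h) ^ p ^ 1 = 1 := pow_char_eq_one f hinj s2 (by simpa using hp2)
    have q3 : (y3 (F := F) h.ij h.jk) ^ p ^ 1 = 1 :=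
      pow_char_eq_one f hinj s3' (by simpa using hp3)
    have o3 : orderOf (y3 (F := F) h.ij h.jk) = p :=
      orderOf_eq_char f hinj s3' hp3 (fun h0 => sq3 (by rw [h0]; simp))
    refine Ex2.quot_three hnoP q1 q2 q3 (o1.trans o2.symm) (o2.trans o3.symm) c12 ?_ ?_
    · intro hc
      exact sq3 (pow_eq_zero_of_isConj f hc (n := 2) (by norm_num) s1)
    · intro hc
      exact sq3 (pow_eq_zero_of_isConj f hc (n := 2) (by norm_num) s2)

end Cfsg.Agent.H701
end

-- part: H701/Psp
section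
/-!
# `Ex2` for `PSp_2m(q)`, `m ≥ 2`
-/

set_option autoImplicit false
set_option linter.all false

namespace Cfsg.Agent.H701

open Matrix

theorem noP_of_coprime {Q : Type*} [Group Q] {p : ℕ}
    (h : Nat.Coprime p (Nat.card (Subgroup.center Q))) : NoP p Q := by
  intro z hz hp
  have h1 : orderOf z ∣ p := orderOf_dvd_of_pow_eq_one hp
  have h2 : orderOf z ∣ Nat.card (Subgroup.center Q) := by
    have := orderOf_dvd_natCard (⟨z, hz⟩ : Subgroup.center Q)
    rwa [Subgroup.orderOf_mk] at this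
  have : orderOf z ∣ 1 := by
    rw [← h]
    exact Nat.dvd_gcd h1 h2
  rwa [Nat.dvd_one, orderOf_eq_one_iff] at this

namespace Sp

variable {l F : Type*} [Fintype l] [DecidableEq l] [Field F]

/-- the element `(1 B; 0 1)` -/
def up (B : Matrix l l F) (hB : Bᵀ = B) : symplecticGroup l F :=
  ⟨fromBlocks 1 B 0 1, by
    rw [SymplecticGroup.mem_iff, Matrix.J, fromBlocks_transpose, fromBlocks_multiply,
      fromBlocks_multiply]
    simp [hB]⟩

/-- the matrices of the symplectic group -/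
def sm (l F : Type*) [Fintype l] [DecidableEq l] [Field F] :
    symplecticGroup l F →* Matrix (l ⊕ l) (l ⊕ l) F := (symplecticGroup l F).subtype

theorem sm_injective : Function.Injective (sm l F) := fun _ _ h => Subtype.ext h

theorem sm_up (B : Matrix l l F) (hB : Bᵀ = B) : sm l F (up B hB) = fromBlocks 1 B 0 1 := rfl

theorem sm_up_sub (B : Matrix l l F) (hB : Bᵀ = B) :
    sm l F (up B hB) - 1 = fromBlocks 0 B 0 0 := by
  rw [sm_up, ← fromBlocks_one, sub_eq_add_neg, fromBlocks_neg, fromBlocks_add]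
  simp

theorem sm_up_sq (B : Matrix l l F) (hB : Bᵀ = B) : (sm l F (up B hB) - 1) ^ 2 = 0 := by
  rw [sm_up_sub, pow_two, fromBlocks_multiply]
  simp

theorem fromBlocks_single (i j : l) (a : F) :
    fromBlocks (0 : Matrix l l F) (Matrix.single i j a) 0 0 =
      Matrix.single (Sum.inl i : l ⊕ l) (Sum.inr j : l ⊕ l) a := by
  ext (x | x) (y | y) <;> simp [Matrix.single_apply]

/-- the element is alternating -/
def AltP (g : symplecticGroup l F) : Prop :=
  ∀ v : l ⊕ l → F, v ⬝ᵥ ((sm l F g * J l F) *ᵥ v) = 0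

theorem AltP.conj {g h : symplecticGroup l F} (hc : IsConj g h) (hg : AltP g) : AltP h := by
  obtain ⟨c, rfl⟩ := isConj_iff.1 hc
  intro v
  have h1 : sm l F c * J l F * (sm l F c)ᵀ = J l F := SymplecticGroup.mem_iff.1 c.2
  have h2 : sm l F c⁻¹ * sm l F c = 1 := by rw [← map_mul, inv_mul_cancel, map_one]
  have h3 : sm l F c⁻¹ * J l F = J l F * (sm l F c)ᵀ := by
    calc sm l F c⁻¹ * J l F = sm l F c⁻¹ * (sm l F c * J l F * (sm l F c)ᵀ) := by rw [h1]
      _ = (sm l F c⁻¹ * sm l F c) * (J l F * (sm l F c)ᵀ) := by simp only [Matrix.mul_assoc]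
      _ = J l F * (sm l F c)ᵀ := by rw [h2, one_mul]
  have h4 : sm l F (c * g * c⁻¹) * J l F = sm l F c * (sm l F g * J l F) * (sm l F c)ᵀ := by
    rw [map_mul, map_mul, Matrix.mul_assoc, h3]
    simp only [Matrix.mul_assoc]
  rw [h4, ← Matrix.mulVec_mulVec, ← Matrix.mulVec_mulVec, Matrix.dotProduct_mulVec]
  have := hg ((sm l F c)ᵀ *ᵥ v)
  rwa [Matrix.mulVec_transpose] at this ⊢

theorem altP_up_iff (B : Matrix l l F) (hB : Bᵀ = B) :
    AltP (up B hB) ↔ ∀ a : l → F, a ⬝ᵥ (B *ᵥ a) = 0 := by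
  have e : ∀ a b : l → F, Sum.elim a b ⬝ᵥ ((sm l F (up B hB) * J l F) *ᵥ Sum.elim a b) =
      a ⬝ᵥ (B *ᵥ a) := by
    intro a b
    rw [sm_up, Matrix.J, fromBlocks_multiply, fromBlocks_mulVec]
    simp only [Matrix.one_mul, Matrix.mul_zero, Matrix.mul_one, zero_add, Matrix.mul_neg, add_zero,
      neg_zero, Matrix.zero_mul, Sum.elim_comp_inl, Sum.elim_comp_inr]
    rw [sumElim_dotProduct_sumElim]
    simp only [Matrix.neg_mulVec, Matrix.one_mulVec, Matrix.zero_mulVec, add_zero,
      dotProduct_add, dotProduct_neg]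
    rw [dotProduct_comm b a]
    ring
  constructor
  · intro h a
    rw [← e a 0]
    exact h _
  · intro h v
    rw [← Sum.elim_comp_inl_inr v, e]
    exact h _

theorem noP {p : ℕ} [Fact p.Prime] [CharP F p] [Finite F] {m : ℕ} (hm : 1 ≤ m) :
    NoP p (symplecticGroup (Fin m) F) := by
  haveI := Fintype.ofFinite F
  apply noP_of_coprime
  rw [Cfsg.Agent.S0246.result rfl m hm]
  obtain ⟨n, hp, hn⟩ := FiniteField.card F p
  rw [hn]
  have hpos : 0 < (n : ℕ) := n.pos
  have hdvd : p ∣ p ^ (n : ℕ) := dvd_pow_self p hpos.ne'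
  have hge : 1 ≤ p ^ (n : ℕ) := Nat.one_le_pow _ _ hp.pos
  have : Nat.Coprime p (p ^ (n : ℕ) - 1) := by
    rw [Nat.Prime.coprime_iff_not_dvd hp]
    intro h
    have := (Nat.dvd_sub hdvd h)
    rw [Nat.sub_sub_self hge] at this
    exact hp.one_lt.ne' (Nat.dvd_one.1 this)
  exact Nat.Coprime.coprime_dvd_right (Nat.gcd_dvd_right _ _) this

theorem ex2 [Finite F] {m : ℕ} {i j : Fin m} (hij : i ≠ j) : Ex2 (Cfsg.PSp m F) := by
  haveI : Fintype F := Fintype.ofFinite F
  obtain ⟨p, hp⟩ := CharP.exists F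
  haveI : Fact p.Prime := ⟨CharP.char_is_prime F p⟩
  have hp2 : 2 ≤ p := (Fact.out : p.Prime).two_le
  have hm : 1 ≤ m := by
    have := i.2
    omega
  have hZ : NoP p (symplecticGroup (Fin m) F) := noP hm
  have hB1 : (Matrix.single i i (1 : F))ᵀ = Matrix.single i i 1 := by simp
  have hB2 : (Matrix.single i i (1 : F) + Matrix.single j j 1)ᵀ =
      Matrix.single i i 1 + Matrix.single j j 1 := by simp
  have hB3 : (Matrix.single i j (1 : F) + Matrix.single j i 1)ᵀ =
      Matrix.single i j 1 + Matrix.single j i 1 := by simp [add_comm]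
  have ord : ∀ (B : Matrix (Fin m) (Fin m) F) (hB : Bᵀ = B), B ≠ 0 →
      orderOf (up B hB) = p := by
    intro B hB h0
    apply orderOf_eq_char (sm (Fin m) F) sm_injective (sm_up_sq B hB) hp2
    rw [sm_up_sub]
    intro h
    apply h0
    ext a b
    have := congrFun (congrFun h (Sum.inl a)) (Sum.inr b)
    simpa using this
  have pw : ∀ (B : Matrix (Fin m) (Fin m) F) (hB : Bᵀ = B), (up B hB) ^ p ^ 1 = 1 := by
    intro B hB
    exact pow_char_eq_one (sm (Fin m) F) sm_injective (sm_up_sq B hB) (by simpa using hp2)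
  have z1 : Matrix.single i i (1 : F) ≠ 0 := single_one_ne
  have z2 : Matrix.single i i (1 : F) + Matrix.single j j 1 ≠ 0 := by
    intro h
    have := congrFun (congrFun h i) i
    simp [hij.symm] at this
  have z3 : Matrix.single i j (1 : F) + Matrix.single j i 1 ≠ 0 := by
    intro h
    have := congrFun (congrFun h i) j
    simp [hij.symm] at this
  have c12 : ¬ IsConj (up _ hB1) (up _ hB2) := by
    intro hc
    have := rk1_iff_of_isConj (sm (Fin m) F) hc (by
      rw [sm_up_sub, fromBlocks_single]; exact rk1_single _ _ _)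
    rw [sm_up_sub] at this
    have e : fromBlocks (0 : Matrix (Fin m) (Fin m) F)
        (Matrix.single i i (1 : F) + Matrix.single j j 1) 0 0 =
        Matrix.single (Sum.inl i : Fin m ⊕ Fin m) (Sum.inr i : Fin m ⊕ Fin m) 1 +
          Matrix.single (Sum.inl j : Fin m ⊕ Fin m) (Sum.inr j : Fin m ⊕ Fin m) 1 := by
      rw [← fromBlocks_single, ← fromBlocks_single, fromBlocks_add]
      simp
    rw [e] at this
    exact not_rk1_add (by simpa using hij) (by simpa using hij) one_ne_zero one_ne_zero this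
  rcases eq_or_ne p 2 with rfl | hne
  · have a1 : ¬ AltP (up _ hB1) := by
      rw [altP_up_iff]
      intro h
      have := h (Pi.single i 1)
      simp only [_root_.Matrix.mulVec_single, _root_.MulOpposite.op_one, _root_.one_smul, _root_.single_dotProduct, _root_.Matrix.col_apply, _root_.Matrix.single_apply_same, _root_.mul_one, _root_.one_ne_zero] at this
    have a2 : ¬ AltP (up _ hB2) := by
      rw [altP_up_iff]
      intro h
      have := h (Pi.single i 1)
      simp only [Matrix.add_mulVec, hij, hij.symm, _root_.Matrix.mulVec_single, _root_.MulOpposite.op_one, _root_.one_smul, _root_.single_dotProduct, _root_.Matrix.col_apply, _root_.Matrix.add_apply, _root_.Matrix.single_apply_same, _root_.and_self, _root_.not_false_eq_true, _root_.Matrix.single_apply_of_ne, _root_.add_zero, _root_.mul_one, _root_.one_ne_zero] at this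
    have a3 : AltP (up _ hB3) := by
      rw [altP_up_iff]
      intro a
      have h2 : (2 : F) = 0 := by
        have := CharP.cast_eq_zero F 2
        simpa using this
      have : a ⬝ᵥ ((Matrix.single i j (1 : F) + Matrix.single j i 1) *ᵥ a) = 2 * (a i * a j) := by
        rw [Matrix.add_mulVec, dotProduct_add]
        have e : ∀ x y : Fin m, a ⬝ᵥ (Matrix.single x y (1 : F) *ᵥ a) = a x * a y := by
          intro x y
          rw [Matrix.single_mulVec, one_mul]
          exact dotProduct_single _ _ _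
        rw [e, e]
        ring
      rw [this, h2, zero_mul]
    exact Ex2.quot_three hZ (pw _ hB1) (pw _ hB2) (pw _ hB3)
      ((ord _ hB1 z1).trans (ord _ hB2 z2).symm) ((ord _ hB2 z2).trans (ord _ hB3 z3).symm) c12
      (fun h => a1 (a3.conj h.symm)) (fun h => a2 (a3.conj h.symm))
  · -- the involution acting on one hyperbolic plane
    have h2F : (2 : F) ≠ 0 := by
      intro h
      have : ((2 : ℕ) : F) = 0 := by simpa using h
      rw [CharP.cast_eq_zero_iff F p] at this
      exact hne ((Nat.prime_dvd_prime_iff_eq (Fact.out : p.Prime) Nat.prime_two).1 this)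
    let d : Fin m → F := fun k => if k = i then -1 else 1
    have hd' : ∀ k, d k * d k = 1 := by
      intro k
      by_cases hk : k = i <;> simp [d, hk]
    have hd : Matrix.diagonal d * Matrix.diagonal d = 1 := by
      rw [Matrix.diagonal_mul_diagonal, ← Matrix.diagonal_one]
      congr 1
      ext k
      exact hd' k
    let z : symplecticGroup (Fin m) F := ⟨fromBlocks (Matrix.diagonal d) 0 0 (Matrix.diagonal d), by
      rw [SymplecticGroup.mem_iff, Matrix.J, fromBlocks_transpose, fromBlocks_multiply,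
        fromBlocks_multiply]
      simp only [Matrix.mul_zero, Matrix.mul_one, Matrix.zero_mul, Matrix.mul_neg, add_zero,
        zero_add, neg_zero, Matrix.transpose_zero, Matrix.diagonal_transpose, Matrix.neg_mul, hd]⟩
    have hzm : sm (Fin m) F z = fromBlocks (Matrix.diagonal d) 0 0 (Matrix.diagonal d) := rfl
    have hzz : z * z = 1 := by
      apply sm_injective
      rw [map_mul, hzm, fromBlocks_multiply, hd, map_one, ← fromBlocks_one]
      simp
    have comm : ∀ (B : Matrix (Fin m) (Fin m) F) (hB : Bᵀ = B),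
        B * Matrix.diagonal d = Matrix.diagonal d * B → Commute (up B hB) z := by
      intro B hB h
      apply sm_injective
      rw [map_mul, map_mul, hzm, sm_up, fromBlocks_multiply, fromBlocks_multiply]
      simp [h]
    have hs : ∀ k, Matrix.single k k (1 : F) * Matrix.diagonal d =
        Matrix.diagonal d * Matrix.single k k (1 : F) := by
      intro k
      have e : Matrix.single k k (1 : F) = Matrix.diagonal (Pi.single k 1) := by
        ext a b
        rw [Matrix.single_apply, Matrix.diagonal_apply, Pi.single_apply]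
        by_cases hab : a = b
        · subst hab
          by_cases hk : k = a
          · simp [hk]
          · simp [hk, Ne.symm hk]
        · have : ¬ (k = a ∧ k = b) := by
            rintro ⟨h1, h2⟩
            exact hab (h1.symm.trans h2)
          simp [hab, this]
      rw [e, Matrix.diagonal_mul_diagonal, Matrix.diagonal_mul_diagonal]
      congr 1
      ext a
      ring
    have hzc : z ∉ Subgroup.center (symplecticGroup (Fin m) F) := by
      intro h
      have := Subgroup.mem_center_iff.1 h (up _ hB3)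
      have e := congrArg (sm (Fin m) F) this
      rw [map_mul, map_mul, hzm, sm_up, fromBlocks_multiply, fromBlocks_multiply] at e
      have e' := congrArg Matrix.toBlocks₁₂ e
      simp only [Matrix.toBlocks_fromBlocks₁₂, Matrix.mul_zero, Matrix.one_mul, add_zero, zero_add,
        Matrix.mul_one] at e'
      have e'' := congrFun (congrFun e' i) j
      simp [Matrix.mul_diagonal, Matrix.diagonal_mul, d, hij, hij.symm] at e''
      apply h2F
      have : (1 : F) + 1 = 0 := by
        nth_rewrite 1 [e'']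
        ring
      rwa [one_add_one_eq_two] at this
    have hzo : orderOf z = 2 := by
      apply orderOf_eq_prime
      · rw [pow_two, hzz]
      · rintro h
        apply hzc
        rw [h]
        exact Subgroup.one_mem _
    refine Ex2.quot_commute (Fact.out : p.Prime) hZ (pw _ hB1) (pw _ hB2)
      ((ord _ hB1 z1).trans (ord _ hB2 z2).symm) hzc ?_ (comm _ hB1 (hs i)) (comm _ hB2 ?_) c12
    · rw [hzo]
      intro h
      exact hne ((Nat.prime_dvd_prime_iff_eq (Fact.out : p.Prime) Nat.prime_two).1 h)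
    · rw [add_mul, mul_add, hs, hs]

end Sp

/-- `Ex2` for the family `PSp` -/
theorem ex2_of_isPSp {G : Type*} [Group G] (h : Cfsg.IsPSp G) : Ex2 G := by
  obtain ⟨F, _, _, m, hm, -, ⟨e⟩⟩ := h
  refine Ex2.congr e.symm ?_
  exact Sp.ex2 (i := ⟨0, by omega⟩) (j := ⟨1, by omega⟩) (by simp)

end Cfsg.Agent.H701
end

-- part: H701/PsuFour
section
/-!
# `Ex2` for `PSU_n(q)`, `n ≥ 4`
-/

set_option autoImplicit false
set_option linter.all false

namespace Cfsg.Agent.H701

open Matrix Cfsg Cfsg.Agent.LieClassical.HermBasic Cfsg.Agent.ClassicalGeometry.UnitTransv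
open Cfsg.Agent.LieClassical.SUBasic (suDiag coe_suDiag mem_center_SU_iff)

namespace Su

variable {F : Type*} [Field F] [Fintype F] {n q : ℕ}

/-- the matrices of `SU` -/
def um (n : ℕ) (F : Type*) [Field F] (q : ℕ) : SU n F q →* Matrix (Fin n) (Fin n) F :=
  (slMat (Fin n) F).comp (SU n F q).subtype

theorem um_injective : Function.Injective (um n F q) :=
  fun _ _ h => Subtype.ext (slMat_injective h)

theorem noP {p : ℕ} [hp : Fact p.Prime] [CharP F p] (hF : Fintype.card F = q ^ 2) (hn : 3 ≤ n) :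
    NoP p (SU n F q) := by
  apply noP_of_coprime
  rw [Cfsg.Agent.S0279.result hF n hn]
  obtain ⟨m, hp', hm⟩ := FiniteField.card F p
  have hdvd : p ∣ q := by
    have : p ∣ q ^ 2 := by
      rw [← hF, hm]
      exact dvd_pow_self p m.pos.ne'
    exact hp'.dvd_of_dvd_pow this
  have : Nat.Coprime p (q + 1) := by
    rw [Nat.Prime.coprime_iff_not_dvd hp']
    intro h
    have := (Nat.dvd_add_right hdvd).1 h
    exact hp'.one_lt.ne' (Nat.dvd_one.1 this)
  exact Nat.Coprime.coprime_dvd_right (Nat.gcd_dvd_right _ _) this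

theorem um_utv_sub (hF : Fintype.card F = q ^ 2) {v : Fin n → F} {c : F}
    (hv : hermForm n F q v v = 0) (hc : c + c ^ q = 0) :
    um n F q (utv hF v c hv hc) - 1 = c • vecMulVec v (fun j => v j ^ q) := by
  have : um n F q (utv hF v c hv hc) = unitaryTransvection n q v c := rfl
  rw [this, unitaryTransvection]
  abel

theorem commute_utv (hF : Fintype.card F = q ^ 2) {v : Fin n → F} {c : F}
    (hv : hermForm n F q v v = 0) (hc : c + c ^ q = 0) (z : SU n F q) (w : F)
    (hw : w ^ (q + 1) = 1) (hz : act z v = w • v) : Commute (utv hF v c hv hc) z := by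
  apply ext_act
  intro x
  rw [act_mul, act_mul, act_utv, act_utv, act_add, act_smul, hz, smul_smul]
  congr 2
  have h1 : hermForm n F q (act z x) (act z v) = hermForm n F q x v := herm_act z x v
  rw [hz, herm_smul_right] at h1
  have h2 : w * w ^ q = 1 := by rw [← pow_succ']; exact hw
  rw [← h1]
  linear_combination (-(c * hermForm n F q (act z x) v)) * h2

theorem commute_utv_utv (hF : Fintype.card F = q ^ 2) {v w : Fin n → F} {c d : F}
    (hv : hermForm n F q v v = 0) (hc : c + c ^ q = 0)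
    (hw : hermForm n F q w w = 0) (hd : d + d ^ q = 0) (hvw : hermForm n F q v w = 0) :
    Commute (utv hF v c hv hc) (utv hF w d hw hd) := by
  have hwv := herm_eq_zero_swap hF hvw
  apply ext_act
  intro x
  rw [act_mul, act_mul]
  simp only [act_utv, herm_add_left, herm_smul_left, hvw, hwv, mul_zero, add_zero]
  abel

theorem herm_eq_dot (u v : Fin n → F) :
    hermForm n F q u v = (fun j => v j ^ q) ⬝ᵥ u := by
  rw [herm_def]
  exact Finset.sum_congr rfl fun i _ => mul_comm _ _

theorem um_utv_sq (hF : Fintype.card F = q ^ 2) {v : Fin n → F} {c : F}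
    (hv : hermForm n F q v v = 0) (hc : c + c ^ q = 0) :
    (um n F q (utv hF v c hv hc) - 1) ^ 2 = 0 := by
  rw [um_utv_sub, pow_two, Matrix.smul_mul, Matrix.mul_smul, Matrix.vecMulVec_mul_vecMulVec,
    ← herm_eq_dot, hv]
  simp

theorem ord_prime {p : ℕ} (hp : p.Prime) {Q : Type*} [Group Q] {g : Q} (h1 : g ^ p = 1)
    (h2 : g ≠ 1) : orderOf g = p := by
  haveI := Fact.mk hp
  exact orderOf_eq_prime h1 h2

theorem ex2_four (hF : Fintype.card F = q ^ 2) (hn : 4 ≤ n) : Ex2 (PSU n F q) := by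
  obtain ⟨p, hp⟩ := CharP.exists F
  haveI hpf : Fact p.Prime := ⟨CharP.char_is_prime F p⟩
  have hp2 : 2 ≤ p := (Fact.out : p.Prime).two_le
  have hZ : NoP p (SU n F q) := noP hF (by omega)
  have hq2 := two_le hF
  -- `s` of norm `-1`, `c` of trace zero
  obtain ⟨s, hs⟩ := _root_.Cfsg.Agent.LieClassical.HermBasic.exists_norm_eq hF (c := (-1 : F)) (by rw [neg_pow_q hF, one_pow])
  obtain ⟨c, hc0, hc⟩ := exists_trace_zero_ne hF
  let i0 : Fin n := ⟨0, by omega⟩
  let i1 : Fin n := ⟨1, by omega⟩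
  let i2 : Fin n := ⟨2, by omega⟩
  let i3 : Fin n := ⟨3, by omega⟩
  have h01 : i0 ≠ i1 := by simp [i0, i1]
  have h02 : i0 ≠ i2 := by simp [i0, i2]
  have h03 : i0 ≠ i3 := by simp [i0, i3]
  have h12 : i1 ≠ i2 := by simp [i1, i2]
  have h13 : i1 ≠ i3 := by simp [i1, i3]
  have h23 : i2 ≠ i3 := by simp [i2, i3]
  let a : Fin n → F := Pi.single i0 1 + Pi.single i1 s
  let b : Fin n → F := Pi.single i2 1 + Pi.single i3 s
  have ha : hermForm n F q a a = 0 := by
    simp only [a, herm_add_left, herm_single_left, Pi.add_apply, Pi.single_eq_same,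
      Pi.single_eq_of_ne h01, Pi.single_eq_of_ne h01.symm, add_zero, zero_add, one_pow, one_mul, hs]
    ring
  have hb : hermForm n F q b b = 0 := by
    simp only [b, herm_add_left, herm_single_left, Pi.add_apply, Pi.single_eq_same,
      Pi.single_eq_of_ne h23, Pi.single_eq_of_ne h23.symm, add_zero, zero_add, one_pow, one_mul, hs]
    ring
  have hab : hermForm n F q a b = 0 := by
    simp only [a, b, herm_add_left, herm_single_left, Pi.add_apply,
      Pi.single_eq_of_ne h02, Pi.single_eq_of_ne h03, Pi.single_eq_of_ne h12,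
      Pi.single_eq_of_ne h13, add_zero, zero_pow_q hF, mul_zero]
  set y1 := utv hF a c ha hc with hy1
  set y1' := utv hF b c hb hc with hy1'
  have cab : Commute y1 y1' := commute_utv_utv hF ha hc hb hc hab
  have n1 : um n F q y1 - 1 = c • vecMulVec a (fun j => a j ^ q) := um_utv_sub hF ha hc
  have n1' : um n F q y1' - 1 = c • vecMulVec b (fun j => b j ^ q) := um_utv_sub hF hb hc
  have pw : ∀ {v : Fin n → F} (hv : hermForm n F q v v = 0), utv hF v c hv hc ^ p = 1 := by
    intro v hv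
    have := pow_char_eq_one (um n F q) um_injective (a := 1) (um_utv_sq hF hv hc)
      (by simpa using hp2)
    simpa only [_root_.pow_one] using this
  have p1 : y1 ^ p = 1 := pw ha
  have p1' : y1' ^ p = 1 := pw hb
  have p2 : (y1 * y1') ^ p = 1 := by rw [cab.mul_pow, p1, p1', one_mul]
  have aa : ∀ j, a j = (Pi.single i0 1 : Fin n → F) j + (Pi.single i1 s : Fin n → F) j :=
    fun j => rfl
  have bb : ∀ j, b j = (Pi.single i2 1 : Fin n → F) j + (Pi.single i3 s : Fin n → F) j :=
    fun j => rfl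
  have a0 : a i0 = 1 := by rw [aa, Pi.single_eq_same, Pi.single_eq_of_ne h01, add_zero]
  have a2 : a i2 = 0 := by
    rw [aa, Pi.single_eq_of_ne h02.symm, Pi.single_eq_of_ne h12.symm, add_zero]
  have b0 : b i0 = 0 := by rw [bb, Pi.single_eq_of_ne h02, Pi.single_eq_of_ne h03, add_zero]
  have b2 : b i2 = 1 := by rw [bb, Pi.single_eq_same, Pi.single_eq_of_ne h23, add_zero]
  have n2 : um n F q (y1 * y1') - 1 =
      c • vecMulVec a (fun j => a j ^ q) + c • vecMulVec b (fun j => b j ^ q) := by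
    have e1 : um n F q y1 = 1 + c • vecMulVec a (fun j => a j ^ q) := by rw [← n1]; abel
    have e2 : um n F q y1' = 1 + c • vecMulVec b (fun j => b j ^ q) := by rw [← n1']; abel
    have e3 : (c • vecMulVec a (fun j => a j ^ q)) * (c • vecMulVec b (fun j => b j ^ q)) = 0 := by
      rw [Matrix.smul_mul, Matrix.mul_smul, Matrix.vecMulVec_mul_vecMulVec, ← herm_eq_dot,
        herm_eq_zero_swap hF hab]
      simp
    rw [map_mul, e1, e2, mul_add, add_mul, add_mul, e3]
    simp only [mul_one, one_mul, add_zero]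
    abel
  have c12 : ¬ IsConj y1 (y1 * y1') := by
    intro hcj
    have hr := rk1_iff_of_isConj (um n F q) hcj (by
      rw [n1]
      exact ⟨c • a, fun j => a j ^ q, by rw [Matrix.smul_vecMulVec]⟩)
    rw [n2] at hr
    have := hr.minor i0 i0 i2 i2
    simp [Matrix.vecMulVec_apply, a0, a2, b0, b2, zero_pow_q hF] at this
    exact hc0 this
  have y1ne : y1 ≠ 1 := by
    intro h
    have h0 : um n F q y1 - 1 = 0 := by rw [h, map_one, sub_self]
    rw [n1] at h0
    have := congrFun (congrFun h0 i0) i0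
    simp [Matrix.vecMulVec_apply, a0] at this
    exact hc0 this
  have y2ne : y1 * y1' ≠ 1 := by
    intro h
    have h0 : um n F q (y1 * y1') - 1 = 0 := by rw [h, map_one, sub_self]
    rw [n2] at h0
    have := congrFun (congrFun h0 i0) i0
    simp [Matrix.vecMulVec_apply, a0, b0, zero_pow_q hF] at this
    exact hc0 this
  -- the diagonal element
  obtain ⟨w, hw1, hw2⟩ : ∃ w : F, w ^ (q + 1) = 1 ∧ w ^ 2 ≠ 1 := by
    haveI : IsCyclic Fˣ := inferInstance
    obtain ⟨g, hg⟩ := IsCyclic.exists_generator (α := Fˣ)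
    have hcard : orderOf g = (q + 1) * (q - 1) := by
      rw [orderOf_eq_card_of_forall_mem_zpowers hg, card_units_eq hF]
    have hqm : 0 < q - 1 := by omega
    refine ⟨((g ^ (q - 1) : Fˣ) : F), ?_, ?_⟩
    · rw [← Units.val_pow_eq_pow_val, ← pow_mul, mul_comm (q - 1) (q + 1), ← hcard,
        pow_orderOf_eq_one, Units.val_one]
    · intro h
      rw [← Units.val_pow_eq_pow_val, ← pow_mul, Units.val_eq_one] at h
      have := orderOf_dvd_of_pow_eq_one h
      rw [hcard, mul_comm (q - 1) 2] at this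
      have := Nat.le_of_dvd (by (clear * - hqm; positivity)) this
      have h3 : q + 1 ≤ 2 := Nat.le_of_mul_le_mul_right this hqm
      omega
  have hw0 : w ≠ 0 := by
    rintro rfl
    rw [zero_pow (Nat.succ_ne_zero q)] at hw1
    exact zero_ne_one hw1
  have hwi : (w⁻¹) ^ (q + 1) = 1 := by rw [inv_pow, hw1, inv_one]
  let d : Fin n → F := fun j => if (j : ℕ) < 2 then w else if (j : ℕ) < 4 then w⁻¹ else 1
  have hd1 : ∏ j, d j = 1 := by
    have e1 : ∏ j, d j = ∏ j ∈ ({i0, i1, i2, i3} : Finset (Fin n)), d j := by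
      symm
      apply Finset.prod_subset (Finset.subset_univ _)
      intro x _ hx
      simp only [Finset.mem_insert, Finset.mem_singleton, not_or] at hx
      have hx4 : ¬ (x : ℕ) < 4 := by
        intro h4
        obtain ⟨h0, h1, h2, h3⟩ := hx
        have : (x : ℕ) = 0 ∨ (x : ℕ) = 1 ∨ (x : ℕ) = 2 ∨ (x : ℕ) = 3 := by omega
        rcases this with h | h | h | h
        · exact h0 (Fin.ext h)
        · exact h1 (Fin.ext h)
        · exact h2 (Fin.ext h)
        · exact h3 (Fin.ext h)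
      have hx2 : ¬ (x : ℕ) < 2 := by omega
      simp only [d, if_neg hx4, if_neg hx2]
    rw [e1, Finset.prod_insert (by simp [h01, h02, h03]), Finset.prod_insert (by simp [h12, h13]),
      Finset.prod_insert (by simp [h23]), Finset.prod_singleton]
    simp only [d, i0, i1, i2, i3]
    norm_num only [_root_.ite_true, _root_.ite_false]
    field_simp
  have hd2 : ∀ j, d j ^ (q + 1) = 1 := by
    intro j
    simp only [d]
    split_ifs
    · exact hw1
    · exact hwi
    · exact one_pow _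
  set z : SU n F q := suDiag q d hd1 hd2 with hz
  have zact : ∀ v : Fin n → F, act z v = fun j => d j * v j := by
    intro v
    rw [act_def, hz, coe_suDiag]
    ext j
    rw [Matrix.mulVec_diagonal]
  have za : act z a = w • a := by
    rw [zact]
    ext j
    rw [Pi.smul_apply, smul_eq_mul, aa]
    by_cases j0 : j = i0
    · subst j0; simp only [d, i0, _root_.Order.lt_two_iff, _root_.zero_le, ↓ _root_.reduceIte, _root_.Pi.single_eq_same]
    · by_cases j1 : j = i1
      · subst j1; simp [d, i1]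
      · simp [Pi.single_eq_of_ne j0, Pi.single_eq_of_ne j1]
  have zb : act z b = w⁻¹ • b := by
    rw [zact]
    ext j
    rw [Pi.smul_apply, smul_eq_mul, bb]
    by_cases j0 : j = i2
    · subst j0; simp only [d, i2, _root_.Order.lt_two_iff, _root_.Nat.not_ofNat_le_one, ↓ _root_.reduceIte, _root_.Nat.reduceLT, _root_.Pi.single_eq_same]
    · by_cases j1 : j = i3
      · subst j1; simp only [d, i3, _root_.Order.lt_two_iff, _root_.Nat.not_ofNat_le_one, ↓ _root_.reduceIte, _root_.Nat.lt_add_one, _root_.Pi.single_eq_same]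
      · simp [Pi.single_eq_of_ne j0, Pi.single_eq_of_ne j1]
  have c1 : Commute y1 z := commute_utv hF ha hc z w hw1 za
  have c1' : Commute y1' z := commute_utv hF hb hc z w⁻¹ hwi zb
  have hzc : z ∉ Subgroup.center (SU n F q) := by
    intro h
    obtain ⟨r, _, _, hr⟩ := (mem_center_SU_iff hF (by omega) z).1 h
    have e : ∀ j, d j = r := by
      intro j
      have h1 := congrArg (fun g => act g (Pi.single j 1 : Fin n → F) j) hr
      simp only [zact] at h1
      rw [act_def, Cfsg.Agent.LieClassical.SUBasic.coe_suScalar, Matrix.mulVec_diagonal] at h1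
      simpa using h1
    have e0 := e i0
    have e2 := e i2
    simp only [d, i0, i2] at e0 e2
    norm_num at e0 e2
    apply hw2
    rw [pow_two]
    nth_rewrite 1 [e0, ← e2]
    exact inv_mul_cancel₀ hw0
  have hzo : orderOf z ∣ q + 1 := by
    apply orderOf_dvd_of_pow_eq_one
    apply um_injective
    rw [map_pow, map_one]
    have : um n F q z = Matrix.diagonal d := coe_suDiag q d hd1 hd2
    rw [this, Matrix.diagonal_pow, ← Matrix.diagonal_one]
    congr 1
    ext j
    exact hd2 j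
  have hpz : ¬ p ∣ orderOf z := by
    intro h
    obtain ⟨m, hp', hm⟩ := FiniteField.card F p
    have hdvd : p ∣ q := by
      have : p ∣ q ^ 2 := by
        rw [← hF, hm]
        exact dvd_pow_self p m.pos.ne'
      exact hp'.dvd_of_dvd_pow this
    have := (Nat.dvd_add_right hdvd).1 (h.trans hzo)
    exact hp'.one_lt.ne' (Nat.dvd_one.1 this)
  exact Ex2.quot_commute (a := 1) (Fact.out : p.Prime) hZ (by simpa only [_root_.pow_one] using p1) (by simpa using p2)
    ((ord_prime hpf.out p1 y1ne).trans (ord_prime hpf.out p2 y2ne).symm) hzc hpz c1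
    (c1.mul_left c1') c12

end Su

end Cfsg.Agent.H701
end

-- part: H701/DimThree
section
/-!
# Dimension three: diagonal elements modulo scalars
-/

set_option autoImplicit false
set_option linter.all false

namespace Cfsg.Agent.H701

open Matrix

namespace Three

variable {F Q : Type*} [Field F] [Group Q]

/-- a group of `3 × 3` matrices with scalar centre -/
structure Rep (Q F : Type*) [Group Q] [Field F] where
  f : Q →* Matrix (Fin 3) (Fin 3) F
  inj : Function.Injective f
  cen : ∀ z ∈ Subgroup.center Q, ∃ c : F, c ^ 3 = 1 ∧ f z = c • (1 : Matrix (Fin 3) (Fin 3) F)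

theorem det_conj (x y N : Matrix (Fin 3) (Fin 3) F) (hxy : x * y = 1) (t : F) :
    (x * N * y - t • (1 : Matrix (Fin 3) (Fin 3) F)).det = (N - t • 1).det := by
  have e : x * N * y - t • (1 : Matrix (Fin 3) (Fin 3) F) = x * (N - t • 1) * y := by
    rw [mul_sub, sub_mul, Matrix.mul_smul, Matrix.smul_mul, mul_one, hxy]
  have h1 : x.det * y.det = 1 := by rw [← det_mul, hxy, det_one]
  rw [e, det_mul, det_mul]
  linear_combination (N - t • 1).det * h1

theorem det_of_isConj (R : Rep Q F) {g h : Q}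
    (hc : IsConj (g : Q ⧸ Subgroup.center Q) (h : Q ⧸ Subgroup.center Q)) :
    ∃ c : F, c ^ 3 = 1 ∧ ∀ t : F, (R.f g - t • (1 : Matrix (Fin 3) (Fin 3) F)).det =
      (c • R.f h - t • (1 : Matrix (Fin 3) (Fin 3) F)).det := by
  obtain ⟨x, hx⟩ := isConj_iff.1 hc
  obtain ⟨x, rfl⟩ := QuotientGroup.mk_surjective x
  rw [← QuotientGroup.mk_mul, ← QuotientGroup.mk_inv, ← QuotientGroup.mk_mul] at hx
  have hz : h⁻¹ * (x * g * x⁻¹) ∈ Subgroup.center Q := QuotientGroup.eq.1 hx.symm
  obtain ⟨c, hc3, hcf⟩ := R.cen _ hz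
  refine ⟨c, hc3, fun t => ?_⟩
  have e : R.f (x * g * x⁻¹) = c • R.f h := by
    have : x * g * x⁻¹ = h * (h⁻¹ * (x * g * x⁻¹)) := by group
    rw [this, map_mul, hcf, Matrix.mul_smul, mul_one]
  have h1 : R.f x * R.f x⁻¹ = 1 := by rw [← map_mul, mul_inv_cancel, map_one]
  rw [← e, map_mul, map_mul, det_conj _ _ _ h1]

theorem det_diag_sub (a : Fin 3 → F) (c t : F) :
    (c • Matrix.diagonal a - t • (1 : Matrix (Fin 3) (Fin 3) F)).det =
      (c * a 0 - t) * (c * a 1 - t) * (c * a 2 - t) := by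
  have : c • Matrix.diagonal a - t • (1 : Matrix (Fin 3) (Fin 3) F) =
      Matrix.diagonal (fun i => c * a i - t) := by
    rw [← Matrix.diagonal_one, ← Matrix.diagonal_smul, ← Matrix.diagonal_smul,
      Matrix.diagonal_sub]
    congr 1
    ext i
    simp
  rw [this, Matrix.det_diagonal, Fin.prod_univ_three]

/-- `diag(1, u, u⁻¹)` and `diag(1, v, v⁻¹)` conjugate modulo scalars -/
theorem eq_of_isConj (R : Rep Q F) {g h : Q} {u v : F} (hu0 : u ≠ 0) (hv0 : v ≠ 0)
    (hu3 : v ^ 3 ≠ 1) (hu1 : u ≠ 1)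
    (hg : R.f g = Matrix.diagonal ![1, u, u⁻¹]) (hh : R.f h = Matrix.diagonal ![1, v, v⁻¹])
    (hc : IsConj (g : Q ⧸ Subgroup.center Q) (h : Q ⧸ Subgroup.center Q)) :
    u = v ∨ u * v = 1 := by
  obtain ⟨c, hc3, hd⟩ := det_of_isConj R hc
  rw [hg, hh] at hd
  have h1 := hd 1
  have e1 : ∀ (t : F), (Matrix.diagonal ![1, u, u⁻¹] - t • (1 : Matrix (Fin 3) (Fin 3) F)).det =
      (1 - t) * (u - t) * (u⁻¹ - t) := by
    intro t
    have := det_diag_sub ![1, u, u⁻¹] 1 t
    simpa only [_root_.Nat.succ_eq_add_one, _root_.Nat.reduceAdd, _root_.one_smul, _root_.Fin.isValue, _root_.Matrix.cons_val_zero, _root_.mul_one, _root_.Matrix.cons_val_one, _root_.one_mul, _root_.Matrix.cons_val] using this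
  rw [e1, det_diag_sub] at h1
  simp only [sub_self, zero_mul, Matrix.cons_val_zero, Matrix.cons_val_one, Matrix.cons_val,
    mul_one] at h1
  have hc1 : c = 1 := by
    rcases mul_eq_zero.1 h1.symm with h2 | h2
    · rcases mul_eq_zero.1 h2 with h3 | h3
      · exact sub_eq_zero.1 h3
      · exfalso
        apply hu3
        have h4 : c * v = 1 := sub_eq_zero.1 h3
        have : (c * v) ^ 3 = 1 := by rw [h4, one_pow]
        rwa [mul_pow, hc3, one_mul] at this
    · exfalso
      apply hu3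
      have h4 : c * v⁻¹ = 1 := sub_eq_zero.1 h2
      have : (c * v⁻¹) ^ 3 = 1 := by rw [h4, one_pow]
      rw [mul_pow, hc3, one_mul, inv_pow, inv_eq_one] at this
      exact this
  have h2 := hd u
  rw [e1, det_diag_sub, hc1] at h2
  simp only [sub_self, mul_zero, zero_mul, Matrix.cons_val_zero, Matrix.cons_val_one,
    Matrix.cons_val, mul_one, one_mul] at h2
  rcases mul_eq_zero.1 h2.symm with h3 | h3
  · rcases mul_eq_zero.1 h3 with h4 | h4
    · exact absurd (sub_eq_zero.1 h4).symm hu1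
    · exact Or.inl (sub_eq_zero.1 h4).symm
  · right
    have : v⁻¹ = u := sub_eq_zero.1 h3
    rw [← this]
    exact inv_mul_cancel₀ hv0

/-- `diag(1, w, w⁻¹)`, `w` of odd order at least 7 -/
theorem ex2_diag [Finite Q] (R : Rep Q F) {g : Q} {w : F} (hodd : Odd (orderOf w))
    (h7 : 7 ≤ orderOf w) (hg : R.f g = Matrix.diagonal ![1, w, w⁻¹]) :
    Ex2 (Q ⧸ Subgroup.center Q) := by
  have hw0 : w ≠ 0 := by
    rintro rfl
    rw [orderOf_zero] at h7
    omega
  have hpow : ∀ n : ℕ, R.f (g ^ n) = Matrix.diagonal ![1, w ^ n, (w ^ n)⁻¹] := by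
    intro n
    rw [map_pow, hg, Matrix.diagonal_pow]
    congr 1
    ext i
    fin_cases i <;> simp
  have hne : ∀ n : ℕ, 0 < n → n < orderOf w → w ^ n ≠ 1 := by
    intro n h0 h1 h2
    have := orderOf_dvd_of_pow_eq_one h2
    have := Nat.le_of_dvd h0 this
    omega
  have hsix : w ^ 6 ≠ 1 := hne 6 (by norm_num) (by omega)
  have h12 : w ^ 12 ≠ 1 := by
    intro h
    have h1 := orderOf_dvd_of_pow_eq_one h
    -- odd divisors of 12 are at most 3
    have h2 : Nat.Coprime (orderOf w) 4 := by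
      have : Nat.Coprime (orderOf w) 2 := (Nat.coprime_two_right).2 hodd
      exact Nat.Coprime.pow_right 2 this
    have h3 : orderOf w ∣ 3 := by
      have : orderOf w ∣ 4 * 3 := by simpa using h1
      exact h2.dvd_of_dvd_mul_left this
    have := Nat.le_of_dvd (by norm_num) h3
    omega
  set x : Q ⧸ Subgroup.center Q := (g : Q ⧸ Subgroup.center Q) with hx
  have hxo : Odd (orderOf x) := by
    have h1 : g ^ orderOf w = 1 := by
      apply R.inj
      rw [hpow, pow_orderOf_eq_one, map_one, inv_one, ← Matrix.diagonal_one]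
      congr 1
      ext i
      fin_cases i <;> rfl
    have h2 : orderOf x ∣ orderOf w := by
      apply orderOf_dvd_of_pow_eq_one
      rw [hx, ← QuotientGroup.mk_pow, h1, QuotientGroup.mk_one]
    exact Odd.of_dvd_nat hodd h2
  have hx2 : orderOf (x ^ 2) = orderOf x :=
    Nat.Coprime.orderOf_pow ((Nat.coprime_two_right).2 hxo)
  have hx4 : orderOf (x ^ 4) = orderOf x :=
    Nat.Coprime.orderOf_pow (Nat.Coprime.pow_right 2 ((Nat.coprime_two_right).2 hxo))
  have key : ∀ j k : ℕ, w ^ j ≠ 1 → w ^ (3 * k) ≠ 1 → w ^ j ≠ w ^ k → w ^ (j + k) ≠ 1 →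
      ¬ IsConj (x ^ j) (x ^ k) := by
    intro j k hj hk h1 h2 hc
    rw [hx, ← QuotientGroup.mk_pow, ← QuotientGroup.mk_pow] at hc
    rcases eq_of_isConj R (pow_ne_zero j hw0) (pow_ne_zero k hw0)
      (by rw [← pow_mul, mul_comm]; exact hk) hj (hpow j) (hpow k) hc with h | h
    · exact h1 h
    · exact h2 (by rw [pow_add]; exact h)
  have hcan : ∀ a b : ℕ, w ^ (b - a) ≠ 1 → a ≤ b → w ^ a ≠ w ^ b := by
    intro a b h1 hab h2
    apply h1
    have : w ^ a * w ^ (b - a) = w ^ a * 1 := by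
      rw [← pow_add, Nat.add_sub_cancel' hab, mul_one, h2]
    exact mul_left_cancel₀ (pow_ne_zero a hw0) this
  refine Or.inl ⟨x, x ^ 2, x ^ 4, hx2.symm, hx2.trans hx4.symm, ?_, ?_, ?_⟩
  · have := key 1 2 (hne 1 (by norm_num) (by omega)) hsix
      (hcan 1 2 (hne 1 (by norm_num) (by omega)) (by norm_num)) (hne 3 (by norm_num) (by omega))
    rwa [pow_one] at this
  · have := key 1 4 (hne 1 (by norm_num) (by omega)) h12
      (hcan 1 4 (hne 3 (by norm_num) (by omega)) (by norm_num)) (hne 5 (by norm_num) (by omega))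
    rwa [pow_one] at this
  · exact key 2 4 (hne 2 (by norm_num) (by omega)) h12
      (hcan 2 4 (hne 2 (by norm_num) (by omega)) (by norm_num)) hsix

/-- `diag(1, w, w⁻¹)` and `diag(w, w, w⁻²)`, `w` of order 5 -/
theorem ex2_five [Finite Q] (R : Rep Q F) {g h : Q} {w : F} (h5 : orderOf w = 5)
    (hg : R.f g = Matrix.diagonal ![1, w, w⁻¹]) (hh : R.f h = Matrix.diagonal ![w, w, w ^ 3]) :
    Ex2 (Q ⧸ Subgroup.center Q) := by
  haveI : Fact (Nat.Prime 5) := ⟨by norm_num⟩
  have hw0 : w ≠ 0 := by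
    rintro rfl
    rw [orderOf_zero] at h5
    omega
  have hw5 : w ^ 5 = 1 := by rw [← h5]; exact pow_orderOf_eq_one w
  have hne : ∀ n : ℕ, ¬ 5 ∣ n → w ^ n ≠ 1 := by
    intro n h0 h2
    have := orderOf_dvd_of_pow_eq_one h2
    rw [h5] at this
    exact h0 this
  have hpow : ∀ n : ℕ, R.f (g ^ n) = Matrix.diagonal ![1, w ^ n, (w ^ n)⁻¹] := by
    intro n
    rw [map_pow, hg, Matrix.diagonal_pow]
    congr 1
    ext i
    fin_cases i <;> simp
  have hpowh : ∀ n : ℕ, R.f (h ^ n) = Matrix.diagonal ![w ^ n, w ^ n, w ^ (3 * n)] := by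
    intro n
    rw [map_pow, hh, Matrix.diagonal_pow]
    congr 1
    ext i
    fin_cases i <;> simp [pow_mul]
  have hg5 : g ^ 5 = 1 := by
    apply R.inj
    rw [hpow, hw5, map_one, inv_one, ← Matrix.diagonal_one]
    congr 1
    ext i
    fin_cases i <;> rfl
  have hh5 : h ^ 5 = 1 := by
    apply R.inj
    rw [hpowh, pow_mul', hw5, one_pow, map_one, ← Matrix.diagonal_one]
    congr 1
    ext i
    fin_cases i <;> rfl
  set x : Q ⧸ Subgroup.center Q := (g : Q ⧸ Subgroup.center Q) with hx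
  set y : Q ⧸ Subgroup.center Q := (h : Q ⧸ Subgroup.center Q) with hy
  have hgc : g ∉ Subgroup.center Q := by
    intro hc
    obtain ⟨c, -, hcf⟩ := R.cen _ hc
    rw [hg] at hcf
    have h0 := congrFun (congrFun hcf 0) 0
    have h1 := congrFun (congrFun hcf 1) 1
    simp at h0 h1
    apply hne 1 (by norm_num)
    rw [pow_one, h1, ← h0]
  have hhc : h ∉ Subgroup.center Q := by
    intro hc
    obtain ⟨c, -, hcf⟩ := R.cen _ hc
    rw [hh] at hcf
    have h0 := congrFun (congrFun hcf 0) 0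
    have h1 := congrFun (congrFun hcf 2) 2
    simp at h0 h1
    apply hne 2 (by norm_num)
    have : w ^ 3 = w := by rw [h1, ← h0]
    have h3 : w * w ^ 2 = w * 1 := by rw [mul_one, ← pow_succ']; exact this
    exact mul_left_cancel₀ hw0 h3
  have ox : orderOf x = 5 := by
    apply orderOf_eq_prime
    · rw [hx, ← QuotientGroup.mk_pow, hg5, QuotientGroup.mk_one]
    · rw [hx, Ne, QuotientGroup.eq_one_iff]; exact hgc
  have oy : orderOf y = 5 := by
    apply orderOf_eq_prime
    · rw [hy, ← QuotientGroup.mk_pow, hh5, QuotientGroup.mk_one]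
    · rw [hy, Ne, QuotientGroup.eq_one_iff]; exact hhc
  have ox2 : orderOf (x ^ 2) = 5 := by
    rw [Nat.Coprime.orderOf_pow (by rw [ox]; norm_num), ox]
  have key : ∀ n : ℕ, ¬ 5 ∣ n → ¬ IsConj (x ^ n) y := by
    intro n hn hc
    rw [hx, hy, ← QuotientGroup.mk_pow] at hc
    obtain ⟨c, hc3, hd⟩ := det_of_isConj R hc
    rw [hpow, hh] at hd
    have e1 : ∀ (t : F), (Matrix.diagonal ![1, w ^ n, (w ^ n)⁻¹] -
        t • (1 : Matrix (Fin 3) (Fin 3) F)).det = (1 - t) * (w ^ n - t) * ((w ^ n)⁻¹ - t) := by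
      intro t
      have := det_diag_sub ![1, w ^ n, (w ^ n)⁻¹] 1 t
      simpa only [_root_.Nat.succ_eq_add_one, _root_.Nat.reduceAdd, _root_.one_smul, _root_.Fin.isValue, _root_.Matrix.cons_val_zero, _root_.mul_one, _root_.Matrix.cons_val_one, _root_.one_mul, _root_.Matrix.cons_val] using this
    -- every eigenvalue is a fifth root of unity, hence `c = 1`
    have h1 := hd (c * w)
    rw [e1, det_diag_sub] at h1
    simp only [sub_self, zero_mul, Matrix.cons_val_zero, Matrix.cons_val_one, Matrix.cons_val] at h1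
    have hc5 : (c * w) ^ 5 = 1 := by
      rcases mul_eq_zero.1 h1 with h2 | h2
      · rcases mul_eq_zero.1 h2 with h3 | h3
        · rw [← sub_eq_zero.1 h3, one_pow]
        · rw [← sub_eq_zero.1 h3, ← pow_mul, mul_comm, pow_mul, hw5, one_pow]
      · rw [← sub_eq_zero.1 h2, inv_pow, ← pow_mul, mul_comm, pow_mul, hw5, one_pow, inv_one]
    have hc1 : c = 1 := by
      rw [mul_pow, hw5, mul_one] at hc5
      have : c ^ 6 = 1 := by rw [show 6 = 3 * 2 by norm_num, pow_mul, hc3, one_pow]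
      rwa [show 6 = 5 + 1 by norm_num, pow_succ, hc5, one_mul] at this
    have h2 := hd 1
    rw [e1, det_diag_sub, hc1] at h2
    simp only [sub_self, zero_mul, Matrix.cons_val_zero, Matrix.cons_val_one, Matrix.cons_val,
      one_mul] at h2
    have w1 : w - 1 ≠ 0 := by
      intro h0
      exact hne 1 (by norm_num) (by rw [pow_one]; exact sub_eq_zero.1 h0)
    have w3 : w ^ 3 - 1 ≠ 0 := by
      intro h0
      exact hne 3 (by norm_num) (sub_eq_zero.1 h0)
    exact mul_ne_zero (mul_ne_zero w1 w1) w3 h2.symm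
  refine Or.inl ⟨x, x ^ 2, y, ox.trans ox2.symm, ox2.trans oy.symm, ?_, ?_, key 2 (by norm_num)⟩
  · intro hc
    rw [← pow_one x] at hc
    have hc' : IsConj (x ^ 1) (x ^ 2) := by simpa only [_root_.pow_one, _root_.isConj_iff] using hc
    rw [hx, ← QuotientGroup.mk_pow, ← QuotientGroup.mk_pow] at hc'
    rcases eq_of_isConj R (pow_ne_zero 1 hw0) (pow_ne_zero 2 hw0)
      (by rw [← pow_mul]; exact hne _ (by norm_num)) (hne 1 (by norm_num)) (hpow 1) (hpow 2) hc'
      with h | h
    · apply hne 1 (by norm_num)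
      have : w ^ 1 * w ^ 1 = w ^ 1 * 1 := by rw [mul_one, ← pow_add]; exact h.symm
      exact mul_left_cancel₀ (pow_ne_zero 1 hw0) this
    · exact hne 3 (by norm_num) (by rw [← h]; ring)
  · have := key 1 (by norm_num)
    rwa [pow_one] at this

end Three

end Cfsg.Agent.H701
end

-- part: H701/PslThree
section
/-!
# `Ex2` for `PSL_3(q)`, `q ≥ 3`
-/

set_option autoImplicit false
set_option linter.all false

namespace Cfsg.Agent.H701

open Matrix

namespace Three

variable {F Q : Type*} [Field F] [Group Q]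

/-- `SL₃` as a group of matrices with scalar centre -/
def slRep (F : Type*) [Field F] : Rep (Matrix.SpecialLinearGroup (Fin 3) F) F where
  f := slMat (Fin 3) F
  inj := slMat_injective
  cen := by
    intro z hz
    obtain ⟨r, hr, hz⟩ := Matrix.SpecialLinearGroup.mem_center_iff.1 hz
    refine ⟨r, by simpa using hr, ?_⟩
    have : slMat (Fin 3) F z = Matrix.scalar (Fin 3) r := hz.symm
    rw [this]
    ext i j
    simp [Matrix.scalar_apply, Matrix.diagonal_apply, Matrix.one_apply]

theorem Rep.noP_two (R : Rep Q F) : NoP 2 Q := by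
  intro z hz h2
  obtain ⟨c, hc3, hcf⟩ := R.cen z hz
  have h3 : z ^ 3 = 1 := by
    apply R.inj
    rw [map_pow, hcf, smul_pow, hc3, one_pow, one_smul, map_one]
  have : z ^ 3 = z ^ 2 * z := by rw [pow_succ]
  rw [h3, h2, one_mul] at this
  exact this.symm

/-- conjugate elements have the same trace -/
theorem trace_eq (R : Rep Q F) {g h : Q} (hc : IsConj g h) :
    (R.f g).trace = (R.f h).trace := by
  obtain ⟨c, rfl⟩ := isConj_iff.1 hc
  rw [map_mul, map_mul, Matrix.trace_mul_comm, ← Matrix.mul_assoc, ← map_mul, inv_mul_cancel,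
    map_one, Matrix.one_mul]

/-- a pair of elements of order `p`, and a pair of elements of order 8 -/
theorem ex2_of_eight [Finite Q] (R : Rep Q F) {p : ℕ} (hp : p.Prime) (hp2 : p ≠ 2)
    (hZ : NoP p Q) {y₁ y₂ g h : Q} (o1 : orderOf y₁ = p) (o2 : orderOf y₂ = p)
    (hy : ¬ IsConj y₁ y₂) (g8 : orderOf g = 8) (h8 : orderOf h = 8)
    (ht : (R.f g).trace ≠ (R.f h).trace) : Ex2 (Q ⧸ Subgroup.center Q) := by
  have q1 : y₁ ^ p ^ 1 = 1 := by rw [pow_one, ← o1, pow_orderOf_eq_one]
  have q2 : y₂ ^ p ^ 1 = 1 := by rw [pow_one, ← o2, pow_orderOf_eq_one]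
  have q3 : g ^ 2 ^ 3 = 1 := by
    rw [show (2 : ℕ) ^ 3 = 8 by norm_num, ← g8, pow_orderOf_eq_one]
  have q4 : h ^ 2 ^ 3 = 1 := by
    rw [show (2 : ℕ) ^ 3 = 8 by norm_num, ← h8, pow_orderOf_eq_one]
  refine Or.inr ⟨y₁, y₂, g, h, ?_, ?_, ?_, ?_, ?_⟩
  · rw [orderOf_mk hZ q1, orderOf_mk hZ q2, o1, o2]
  · rw [orderOf_mk R.noP_two q3, orderOf_mk R.noP_two q4, g8, h8]
  · rw [orderOf_mk hZ q1, orderOf_mk R.noP_two q3, o1, g8]
    rintro rfl
    norm_num at hp
  · exact fun hc => hy (isConj_of_mk hZ q1 q2 hc)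
  · exact fun hc => ht (trace_eq R (isConj_of_mk R.noP_two q3 q4 hc))

/-- the block matrix `(a b; c d) ⊕ e` -/
def blk (a b c d e : F) : Matrix (Fin 3) (Fin 3) F := !![a, b, 0; c, d, 0; 0, 0, e]

theorem blk_mul (a b c d e a' b' c' d' e' : F) :
    blk a b c d e * blk a' b' c' d' e' =
      blk (a * a' + b * c') (a * b' + b * d') (c * a' + d * c') (c * b' + d * d') (e * e') := by
  ext i j
  (revert i j; simp only [blk, Matrix.mul_apply, Fin.sum_univ_three, _root_.Fin.forall_fin_succ, _root_.Matrix.of_apply, _root_.Matrix.cons_val', _root_.Matrix.cons_val_fin_one, Fin.isValue, _root_.Matrix.cons_val_zero, _root_.Matrix.cons_val_one, _root_.Matrix.cons_val, _root_.MulZeroClass.mul_zero, _root_.add_zero, _root_.Matrix.cons_val_succ, _root_.zero_add, _root_.forall_const, _root_.MulZeroClass.zero_mul, _root_.and_self, _root_.implies_true])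

theorem blk_one : blk (1 : F) 0 0 1 1 = 1 := by
  ext i j
  (revert i j; simp only [blk, _root_.Fin.forall_fin_succ, _root_.Matrix.of_apply, _root_.Matrix.cons_val', _root_.Matrix.cons_val_fin_one, Fin.isValue, _root_.Matrix.cons_val_zero, _root_.Matrix.cons_val_succ, _root_.IsEmpty.forall_iff, _root_.and_true, _root_.Matrix.one_apply_eq, Nat.reduceAdd, _root_.Fin.succ_zero_eq_one, _root_.ne_eq, _root_.zero_ne_one, _root_.not_false_eq_true, _root_.Matrix.one_apply_ne, _root_.Fin.succ_one_eq_two, Fin.reduceEq, _root_.and_self, _root_.Fin.succ_ne_zero, _root_.true_and])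

theorem det_blk (a b c d e : F) : (blk a b c d e).det = (a * d - b * c) * e := by
  rw [blk, Matrix.det_fin_three]
  simp
  ring

theorem trace_blk (a b c d e : F) : (blk a b c d e).trace = a + d + e := by
  rw [blk, Matrix.trace_fin_three]
  simp

/-- an element with block `A`, `A² = t A - δ`, `A⁴ = -1` has order 8 -/
theorem orderOf_eight (R : Rep Q F) (h2 : (2 : F) ≠ 0) {g : Q} {a b c d e : F}
    (hg : R.f g = blk a b c d e)
    (h4 : blk a b c d e * blk a b c d e * (blk a b c d e * blk a b c d e) = blk (-1) 0 0 (-1) 1) :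
    orderOf g = 8 := by
  have e4 : R.f (g ^ 4) = blk (-1) 0 0 (-1) 1 := by
    rw [← h4, map_pow, hg]
    simp only [pow_succ, pow_zero, one_mul, Matrix.mul_assoc]
  have : orderOf g = 2 ^ (2 + 1) := by
    apply orderOf_eq_prime_pow
    · intro hcon
      have h5 : R.f (g ^ 4) = 1 := by
        rw [show (4 : ℕ) = 2 ^ 2 by norm_num, hcon, map_one]
      rw [e4, ← blk_one] at h5
      have h6 := congrFun (congrFun h5 0) 0
      simp [blk] at h6
      apply h2
      have : (1 : F) + 1 = 0 := by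
        nth_rewrite 1 [← h6]
        ring
      rwa [one_add_one_eq_two] at this
    · apply R.inj
      rw [show (2 : ℕ) ^ (2 + 1) = 4 * 2 by norm_num, pow_mul, map_pow, e4, pow_two, blk_mul,
        map_one, ← blk_one]
      congr 1 <;> ring
  simpa using this

/-- elements of order 8 in `SL₃`, odd characteristic -/
theorem exists_eight_sl [Finite F] (h2 : (2 : F) ≠ 0) :
    ∃ g h : Matrix.SpecialLinearGroup (Fin 3) F, orderOf g = 8 ∧ orderOf h = 8 ∧
      ((slRep F).f g).trace ≠ ((slRep F).f h).trace := by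
  classical
  haveI : Fintype F := Fintype.ofFinite F
  -- `t² = 2 δ`, `δ² = 1`, or `t = 0`, `δ² = -1`
  have build : ∀ (t δ : F) (hδ : δ * δ⁻¹ = 1)
      (h4 : (t * t - 2 * δ) * t = 0) (h4' : -(t * t) * δ + δ * δ = -1) (hd4 : δ ^ 4 = 1),
      ∃ g : Matrix.SpecialLinearGroup (Fin 3) F, orderOf g = 8 ∧
        ((slRep F).f g).trace = t + δ⁻¹ := by
    intro t δ hδ h4 h4' hd4
    have hdet : (blk 0 (-δ) 1 t δ⁻¹).det = 1 := by
      rw [det_blk]
      linear_combination hδ
    refine ⟨⟨blk 0 (-δ) 1 t δ⁻¹, hdet⟩, ?_, ?_⟩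
    · apply orderOf_eight (slRep F) h2 (g := ⟨blk 0 (-δ) 1 t δ⁻¹, hdet⟩) rfl
      simp only [blk_mul]
      have hi : δ⁻¹ ^ 4 = 1 := by rw [inv_pow, hd4, inv_one]
      congr 1
      · linear_combination h4'
      · linear_combination (-δ) * h4
      · linear_combination h4
      · linear_combination t * h4 + h4'
      · linear_combination hi
    · show (blk 0 (-δ) 1 t δ⁻¹).trace = _
      rw [trace_blk, zero_add]
  have key : ∀ t δ : F, t ≠ 0 → t * t = 2 * δ → δ * δ = 1 →
      ∃ g h : Matrix.SpecialLinearGroup (Fin 3) F, orderOf g = 8 ∧ orderOf h = 8 ∧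
        ((slRep F).f g).trace ≠ ((slRep F).f h).trace := by
    intro t δ ht htt hδ
    have hδ0 : δ ≠ 0 := by
      rintro rfl
      rw [mul_zero] at hδ
      exact zero_ne_one hδ
    have hd4 : δ ^ 4 = 1 := by linear_combination (δ * δ + 1) * hδ
    obtain ⟨g, hg, hgt⟩ := build t δ (mul_inv_cancel₀ hδ0) (by rw [htt]; ring)
      (by linear_combination (-δ) * htt - hδ) hd4
    obtain ⟨h, hh, hht⟩ := build (-t) δ (mul_inv_cancel₀ hδ0) (by rw [neg_mul_neg, htt]; ring)
      (by linear_combination (-δ) * htt - hδ) hd4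
    refine ⟨g, h, hg, hh, ?_⟩
    rw [hgt, hht]
    intro he
    have : 2 * t = 0 := by linear_combination he
    rcases mul_eq_zero.1 this with h | h
    · exact h2 h
    · exact ht h
  have h20 : (2 : F) ≠ 0 := h2
  by_cases s2 : IsSquare (2 : F)
  · obtain ⟨t, ht⟩ := s2
    refine key t 1 ?_ (by rw [mul_one]; exact ht.symm) (by ring)
    rintro rfl
    exact h2 (by rw [ht]; ring)
  · by_cases s1 : IsSquare (-1 : F)
    · obtain ⟨i, hi⟩ := s1
      have hi0 : i ≠ 0 := by
        rintro rfl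
        rw [mul_zero] at hi
        exact neg_ne_zero.2 one_ne_zero hi
      have hi4 : i ^ 4 = 1 := by linear_combination (-(i * i) + 1) * hi
      obtain ⟨g, hg, hgt⟩ := build 0 i (mul_inv_cancel₀ hi0) (by ring)
        (by linear_combination -hi) hi4
      obtain ⟨h, hh, hht⟩ := build 0 (-i) (mul_inv_cancel₀ (neg_ne_zero.2 hi0)) (by ring)
        (by linear_combination -hi) (by linear_combination hi4)
      refine ⟨g, h, hg, hh, ?_⟩
      rw [hgt, hht]
      intro he
      have h3 : i⁻¹ * 2 = 0 := by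
        have : (-i)⁻¹ = -i⁻¹ := by rw [inv_neg]
        rw [this] at he
        linear_combination he
      rcases mul_eq_zero.1 h3 with h | h
      · exact inv_ne_zero hi0 h
      · exact h2 h
    · -- `-2` is a square
      have : IsSquare (-2 : F) := by
        have e : (-2 : F) = 2 * (-1) := by ring
        rw [e]
        have hq : ringChar F ≠ 2 := by
          intro hr
          apply h2
          have := ringChar.Nat.cast_ringChar (R := F)
          rw [hr] at this
          simpa using this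
        have hn1 := (quadraticChar_neg_one_iff_not_isSquare (F := F) (a := 2)).2 s2
        have hn2 := (quadraticChar_neg_one_iff_not_isSquare (F := F) (a := -1)).2 s1
        have h3 : quadraticChar F (2 * (-1)) = 1 := by
          rw [map_mul, hn1, hn2]
          norm_num
        have hne : (2 * (-1) : F) ≠ 0 := by
          intro h
          apply h2
          linear_combination -h
        exact (quadraticChar_one_iff_isSquare hne).1 h3
      obtain ⟨t, ht⟩ := this
      refine key t (-1) ?_ (by rw [← ht]; ring) (by ring)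
      rintro rfl
      exact h2 (by linear_combination -ht)

theorem ex2_psl_three_odd [Finite F] (h2 : (2 : F) ≠ 0) :
    Ex2 (Matrix.SpecialLinearGroup (Fin 3) F ⧸
      Subgroup.center (Matrix.SpecialLinearGroup (Fin 3) F)) := by
  obtain ⟨p, hp⟩ := CharP.exists F
  haveI : Fact p.Prime := ⟨CharP.char_is_prime F p⟩
  have hpp : p.Prime := Fact.out
  have hp2 : p ≠ 2 := by
    rintro rfl
    apply h2
    have := CharP.cast_eq_zero F 2
    simpa using this
  have hp3 : 3 ≤ p := by
    have := hpp.two_le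
    omega
  have h01 : (0 : Fin 3) ≠ 1 := by decide
  have h12 : (1 : Fin 3) ≠ 2 := by decide
  have h02 : (0 : Fin 3) ≠ 2 := by decide
  set f := slMat (Fin 3) F with hf
  have n1 : f (tv 0 1 h01 1) - 1 = Matrix.single 0 1 1 := by rw [slMat_tv]; abel
  have n3 := y3_sub (F := F) h01 h12 h02
  rw [← hf] at n3
  have s1 : (f (tv 0 1 h01 1) - 1) ^ 2 = 0 := by
    rw [n1, pow_two, Matrix.single_mul_single_of_ne _ _ _ _ h01.symm]
  have s3 : (f (y3 h01 h12) - 1) ^ 2 = Matrix.single 0 2 1 := by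
    rw [n3, pow_two, mul_add, add_mul, add_mul, Matrix.single_mul_single_of_ne _ _ _ _ h01.symm,
      Matrix.single_mul_single_same,
      Matrix.single_mul_single_of_ne _ _ _ _ h02.symm,
      Matrix.single_mul_single_of_ne _ _ _ _ h12.symm]
    simp
  have s3' : (f (y3 h01 h12) - 1) ^ 3 = 0 := by
    rw [pow_succ, s3, n3, mul_add, Matrix.single_mul_single_of_ne _ _ _ _ h02.symm,
      Matrix.single_mul_single_of_ne _ _ _ _ h12.symm]
    simp
  have sq3 : (f (y3 h01 h12) - 1) ^ 2 ≠ 0 := by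
    rw [s3]; exact single_one_ne
  have o1 : orderOf (tv 0 1 h01 (1 : F)) = p :=
    orderOf_eq_char f slMat_injective s1 hpp.two_le (by rw [n1]; exact single_one_ne)
  have o3 : orderOf (y3 (F := F) h01 h12) = p :=
    orderOf_eq_char f slMat_injective s3' hp3 (fun h0 => sq3 (by rw [h0]; simp))
  obtain ⟨g, h, hg, hh, ht⟩ := exists_eight_sl (F := F) h2
  exact ex2_of_eight (slRep F) hpp hp2 noP_sl o1 o3
    (fun hc => sq3 (pow_eq_zero_of_isConj f hc (n := 2) (by norm_num) s1)) hg hh ht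

end Three

end Cfsg.Agent.H701
end

-- part: H701/PslThreeEven
section
/-!
# `Ex2` for `PSL_3(q)`, `q ≥ 4` even
-/

set_option autoImplicit false
set_option linter.all false

namespace Cfsg.Agent.H701

open Matrix

namespace Three

variable {F Q : Type*} [Field F] [Group Q]

/-- a generator of the multiplicative group -/
theorem exists_gen (F : Type*) [Field F] [Finite F] :
    ∃ w : F, w ≠ 0 ∧ orderOf w = Nat.card F - 1 := by
  obtain ⟨g, hg⟩ := IsCyclic.exists_generator (α := Fˣ)
  refine ⟨(g : F), g.ne_zero, ?_⟩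
  rw [orderOf_units, orderOf_eq_card_of_forall_mem_zpowers hg, Nat.card_units]

theorem ex2_psl_three_big [Finite F] (hodd : Odd (Nat.card F - 1)) (h8 : 8 ≤ Nat.card F) :
    Ex2 (Matrix.SpecialLinearGroup (Fin 3) F ⧸
      Subgroup.center (Matrix.SpecialLinearGroup (Fin 3) F)) := by
  obtain ⟨w, hw0, hw⟩ := exists_gen F
  have hdet : (Matrix.diagonal ![1, w, w⁻¹]).det = 1 := by
    rw [Matrix.det_diagonal, Fin.prod_univ_three]
    simp [hw0]
  exact ex2_diag (slRep F) (g := ⟨Matrix.diagonal ![1, w, w⁻¹], hdet⟩) (w := w)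
    (by rw [hw]; exact hodd) (by rw [hw]; omega) rfl

/-- `det (v, Nv, N²v)` -/
def cube (N : Matrix (Fin 3) (Fin 3) F) (v : Fin 3 → F) : F :=
  (Matrix.of ![v, N *ᵥ v, N *ᵥ (N *ᵥ v)]).det

theorem cube_conj {x y N M : Matrix (Fin 3) (Fin 3) F} (hyx : y * x = 1) (h : x * N * y = M)
    (hx : x.det = 1) (v : Fin 3 → F) : cube M (x *ᵥ v) = cube N v := by
  have e1 : M *ᵥ (x *ᵥ v) = x *ᵥ (N *ᵥ v) := by
    rw [← h, Matrix.mulVec_mulVec, Matrix.mul_assoc, hyx, mul_one, Matrix.mulVec_mulVec]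
  have e2 : M *ᵥ (M *ᵥ (x *ᵥ v)) = x *ᵥ (N *ᵥ (N *ᵥ v)) := by
    rw [e1, ← h, Matrix.mulVec_mulVec, Matrix.mul_assoc, hyx, mul_one, ← Matrix.mulVec_mulVec]
  rw [cube, cube, e2, e1]
  have : Matrix.of ![x *ᵥ v, x *ᵥ (N *ᵥ v), x *ᵥ (N *ᵥ (N *ᵥ v))] =
      Matrix.of ![v, N *ᵥ v, N *ᵥ (N *ᵥ v)] * xᵀ := by
    ext i j
    rw [Matrix.mul_apply]
    simp only [Matrix.transpose_apply]
    fin_cases i <;>
      simp only [Matrix.of_apply, Matrix.cons_val_zero, Matrix.cons_val_one, Matrix.cons_val,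
        Fin.zero_eta, Fin.mk_one, Fin.reduceFinMk] <;>
      (simp only [Matrix.mulVec, dotProduct]; exact Finset.sum_congr rfl fun _ _ => mul_comm _ _)
  rw [this, det_mul, det_transpose, hx, mul_one]

/-- `1 + E₀₁ + c E₁₂` -/
def uc (c : F) : Matrix.SpecialLinearGroup (Fin 3) F :=
  ⟨!![1, 1, 0; 0, 1, c; 0, 0, 1], by rw [Matrix.det_fin_three]; simp⟩

theorem uc_sub (c : F) : (slRep F).f (uc c) - 1 = !![0, 1, 0; 0, 0, c; 0, 0, 0] := by
  show (!![1, 1, 0; 0, 1, c; 0, 0, 1] : Matrix (Fin 3) (Fin 3) F) - 1 = _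
  ext i j
  (revert i j; simp only [_root_.Fin.forall_fin_succ, _root_.Matrix.sub_apply, _root_.Matrix.of_apply, _root_.Matrix.cons_val', _root_.Matrix.cons_val_fin_one, Fin.isValue, _root_.Matrix.cons_val_zero, _root_.Matrix.cons_val_succ, _root_.IsEmpty.forall_iff, _root_.and_true, _root_.Matrix.one_apply_eq, _root_.sub_self, Nat.reduceAdd, _root_.Fin.succ_zero_eq_one, _root_.ne_eq, _root_.zero_ne_one, _root_.not_false_eq_true, _root_.Matrix.one_apply_ne, _root_.sub_zero, _root_.Fin.succ_one_eq_two, Fin.reduceEq, _root_.and_self, _root_.Fin.succ_ne_zero, _root_.true_and, _root_.zero_sub, _root_.neg_eq_zero])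

theorem cube_uc (c : F) (v : Fin 3 → F) :
    cube ((slRep F).f (uc c) - 1) v = - (c ^ 2 * v 2 ^ 3) := by
  rw [uc_sub, cube, Matrix.det_fin_three]
  simp [Matrix.mulVec, dotProduct, Fin.sum_univ_three]
  ring

theorem uc_sq (c : F) : ((slRep F).f (uc c) - 1) ^ 2 = !![0, 0, c; 0, 0, 0; 0, 0, 0] := by
  rw [uc_sub, pow_two]
  ext i j
  (revert i j; simp only [Matrix.mul_apply, Fin.sum_univ_three, _root_.Fin.forall_fin_succ, _root_.Matrix.of_apply, _root_.Matrix.cons_val', _root_.Matrix.cons_val_fin_one, Fin.isValue, _root_.Matrix.cons_val_zero, _root_.Matrix.cons_val_one, _root_.Matrix.cons_val, _root_.MulZeroClass.mul_zero, _root_.add_zero, _root_.Matrix.cons_val_succ, _root_.mul_one, _root_.zero_add, _root_.forall_const, _root_.true_and, _root_.one_mul, _root_.and_self, _root_.MulZeroClass.zero_mul, _root_.implies_true])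

theorem uc_cube (c : F) : ((slRep F).f (uc c) - 1) ^ 3 = 0 := by
  rw [pow_succ, uc_sq, uc_sub]
  ext i j
  (revert i j; simp only [Matrix.mul_apply, Fin.sum_univ_three, _root_.Fin.forall_fin_succ, _root_.Matrix.of_apply, _root_.Matrix.cons_val', _root_.Matrix.cons_val_fin_one, Fin.isValue, _root_.Matrix.cons_val_zero, _root_.Matrix.cons_val_one, _root_.Matrix.cons_val, _root_.Matrix.zero_apply, _root_.MulZeroClass.mul_zero, _root_.add_zero, _root_.Matrix.cons_val_succ, _root_.mul_one, _root_.zero_add, _root_.mul_eq_zero, _root_.forall_const, _root_.true_and, _root_.true_or, _root_.and_self, _root_.implies_true])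

theorem orderOf_uc [CharP F 2] {c : F} (hc : c ≠ 0) : orderOf (uc c) = 4 := by
  haveI : Fact (Nat.Prime 2) := ⟨Nat.prime_two⟩
  haveI : CharP (Matrix (Fin 3) (Fin 3) F) 2 := Matrix.charP 2
  have : orderOf (uc c) = 2 ^ (1 + 1) := by
    apply orderOf_eq_prime_pow
    · intro hcon
      have h2 : (slRep F).f (uc c) ^ 2 = 1 := by
        rw [← map_pow, show (uc c) ^ 2 = 1 by simpa only [_root_.pow_one] using hcon, map_one]
      have h3 := sub_pow_char_of_commute (R := Matrix (Fin 3) (Fin 3) F) (p := 2)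
        (Commute.one_right ((slRep F).f (uc c)))
      rw [h2, one_pow, sub_self, uc_sq] at h3
      have := congrFun (congrFun h3 0) 2
      simp at this
      exact hc this
    · exact pow_char_eq_one (slRep F).f (slRep F).inj (uc_cube c) (by norm_num)
  simpa using this

/-- in a field with four elements, `uc c` are not conjugate -/
theorem uc_inj {c d : F} (hF : ∀ x : F, x ≠ 0 → x ^ 3 = 1) [CharP F 2] (hc0 : c ≠ 0)
    (hc : IsConj (uc c) (uc d)) : c = d := by
  obtain ⟨x, hx⟩ := isConj_iff.1 hc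
  set f := (slRep F).f with hf
  have h1 : f x * f x⁻¹ = 1 := by rw [← map_mul, mul_inv_cancel, map_one]
  have h2 : f x⁻¹ * f x = 1 := by rw [← map_mul, inv_mul_cancel, map_one]
  have h3 : f x * (f (uc c) - 1) * f x⁻¹ = f (uc d) - 1 := by
    rw [mul_sub, sub_mul, mul_one, h1, ← map_mul, ← map_mul, hx]
  have h4 := cube_conj h2 h3 x.2 ![0, 0, 1]
  rw [cube_uc, cube_uc] at h4
  simp only [Matrix.cons_val, one_pow, mul_one] at h4
  have h5 : d ^ 2 * (f x *ᵥ ![0, 0, 1]) 2 ^ 3 = c ^ 2 := by linear_combination -h4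
  have h6 : (f x *ᵥ ![0, 0, 1]) 2 ≠ 0 := by
    intro h0
    rw [h0] at h5
    apply hc0
    have : c ^ 2 = 0 := by rw [← h5]; ring
    exact pow_eq_zero_iff (by norm_num) |>.1 this
  rw [hF _ h6, mul_one] at h5
  have h7 : (c - d) ^ 2 = 0 := by
    haveI : Fact (Nat.Prime 2) := ⟨Nat.prime_two⟩
    rw [sub_pow_char, h5, sub_self]
  exact sub_eq_zero.1 (pow_eq_zero_iff (by norm_num) |>.1 h7)

theorem ex2_psl_three_four [Finite F] (h4 : Nat.card F = 4) :
    Ex2 (Matrix.SpecialLinearGroup (Fin 3) F ⧸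
      Subgroup.center (Matrix.SpecialLinearGroup (Fin 3) F)) := by
  haveI : Fintype F := Fintype.ofFinite F
  haveI : Fact (Nat.Prime 2) := ⟨Nat.prime_two⟩
  obtain ⟨p, hp⟩ := CharP.exists F
  haveI : Fact p.Prime := ⟨CharP.char_is_prime F p⟩
  have hp2 : p = 2 := by
    obtain ⟨n, hn, hn'⟩ := FiniteField.card F p
    rw [← Nat.card_eq_fintype_card, h4] at hn'
    have : p ∣ 2 ^ 2 := by
      rw [show (2 : ℕ) ^ 2 = 4 by norm_num, hn']
      exact dvd_pow_self p n.ne_zero
    exact (Nat.prime_dvd_prime_iff_eq (Fact.out : p.Prime) Nat.prime_two).1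
      ((Fact.out : p.Prime).dvd_of_dvd_pow this)
  subst hp2
  have hF : ∀ x : F, x ≠ 0 → x ^ 3 = 1 := by
    intro x hx
    have := FiniteField.pow_card_sub_one_eq_one x hx
    rwa [← Nat.card_eq_fintype_card, h4] at this
  obtain ⟨w, hw0, hw⟩ := exists_gen F
  rw [h4] at hw
  have hw1 : w ≠ 1 := by
    rintro rfl
    rw [orderOf_one] at hw
    omega
  have hw2 : w ^ 2 ≠ 1 := by
    intro h
    have := orderOf_dvd_of_pow_eq_one h
    rw [hw] at this
    norm_num at this
  have q : ∀ c : F, (uc c) ^ 2 ^ 2 = 1 := fun c =>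
    pow_char_eq_one (slRep F).f (slRep F).inj (uc_cube c) (by norm_num)
  have hww : w ≠ w ^ 2 := by
    intro h
    apply hw1
    have : w * w = w * 1 := by rw [mul_one, ← pow_two]; exact h.symm
    exact mul_left_cancel₀ hw0 this
  refine Ex2.quot_three (p := 2) (a := 2) (slRep F).noP_two (q 1) (q w) (q (w ^ 2)) ?_ ?_ ?_ ?_ ?_
  · rw [orderOf_uc one_ne_zero, orderOf_uc hw0]
  · rw [orderOf_uc hw0, orderOf_uc (pow_ne_zero _ hw0)]
  · exact fun h => hw1 (uc_inj hF one_ne_zero h).symm
  · exact fun h => hw2 (uc_inj hF one_ne_zero h).symm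
  · exact fun h => hww (uc_inj hF hw0 h)

/-- `PSL_3(F)`, `|F| ≥ 3` -/
theorem ex2_psl_three [Finite F] (h3 : 3 ≤ Nat.card F) :
    Ex2 (Matrix.SpecialLinearGroup (Fin 3) F ⧸
      Subgroup.center (Matrix.SpecialLinearGroup (Fin 3) F)) := by
  by_cases h2 : (2 : F) = 0
  · haveI : Fintype F := Fintype.ofFinite F
    haveI : Fact (Nat.Prime 2) := ⟨Nat.prime_two⟩
    haveI : CharP F 2 := CharTwo.of_one_ne_zero_of_two_eq_zero one_ne_zero h2
    obtain ⟨n, hn, hn'⟩ := FiniteField.card F 2
    rw [← Nat.card_eq_fintype_card] at hn'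
    have hn1 : (n : ℕ) ≠ 1 := by
      intro h
      rw [h] at hn'
      omega
    have hn0 : (n : ℕ) ≠ 0 := n.ne_zero
    rcases Nat.lt_or_ge (n : ℕ) 3 with h | h
    · have : (n : ℕ) = 2 := by omega
      rw [this] at hn'
      exact ex2_psl_three_four hn'
    · have h8 : 8 ≤ Nat.card F := by
        rw [hn']
        calc 8 = 2 ^ 3 := by norm_num
          _ ≤ 2 ^ (n : ℕ) := Nat.pow_le_pow_right (by norm_num) h
      apply ex2_psl_three_big _ h8
      have : Even (Nat.card F) := by
        rw [hn']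
        exact (Nat.even_pow' hn0).2 even_two
      obtain ⟨k, hk⟩ := this
      exact ⟨k - 1, by omega⟩
  · exact ex2_psl_three_odd h2

end Three

end Cfsg.Agent.H701
end

-- part: H701/GolayFix
section
set_option autoImplicit false

/-!
Fixed points of elements of prime order of `M₂₄`, and commuting elements of prime order.
-/

namespace Cfsg.Agent.H701.Golay

open Cfsg Subgroup Cfsg.Agent.H565.Fix

theorem fr : Cfsg.Agent.H660.M24Index.Fr M24 GolayPt where
  deg := by simp [Nat.card_eq_fintype_card]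
  ord := Cfsg.Agent.SporadicA.M24Trans.card_M24
  tr := Cfsg.Agent.SporadicA.M24Trans.five_transitive

/-- an invariant set and its fixed points -/
theorem card_mod {p : ℕ} (hp : p.Prime) {σ : Equiv.Perm GolayPt} (h : σ ^ p = 1)
    {X : Finset GolayPt} (hX : ∀ q ∈ X, σ q ∈ X) : X.card ≡ (X ∩ Fx σ).card [MOD p] := by
  classical
  let τ : Function.End ↥X := fun q => ⟨σ q, hX q q.2⟩
  have hτ' : ∀ (n : ℕ) (q : ↥X), ((τ ^ n) q : GolayPt) = (σ ^ n) q := by
    intro n
    induction n with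
    | zero => intro q; rfl
    | succ n ih =>
      intro q
      rw [pow_succ, pow_succ]
      exact ih (τ q)
  have hτ : τ ^ p ^ 1 = 1 := by
    funext q
    apply Subtype.ext
    rw [pow_one, hτ', h]
    rfl
  have : Fact (Nat.Prime p) := ⟨hp⟩
  have h2 := Equiv.Perm.card_fixedPoints_modEq (p := p) (n := 1) hτ
  have h4 : Fintype.card (Function.fixedPoints τ) = (X ∩ Fx σ).card := by
    rw [← Fintype.card_coe (X ∩ Fx σ)]
    refine Fintype.card_congr ⟨fun p => ⟨(p : ↥X), ?_⟩, fun p => ⟨⟨p, (Finset.mem_inter.1 p.2).1⟩, ?_⟩,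
      fun p => ?_, fun p => ?_⟩
    · rw [Finset.mem_inter, mem_Fx]
      exact ⟨(p : ↥X).2, congrArg Subtype.val p.2⟩
    · exact Subtype.ext (mem_Fx.1 (Finset.mem_inter.1 p.2).2)
    · rfl
    · rfl
  rw [h4, Fintype.card_coe] at h2
  exact h2

/-- commuting elements -/
theorem card_mod_comm {p : ℕ} (hp : p.Prime) {σ τ : Equiv.Perm GolayPt} (h : σ ^ p = 1)
    (hc : σ * τ = τ * σ) : (Fx τ).card ≡ (Fx τ ∩ Fx σ).card [MOD p] := by
  apply card_mod hp h
  intro q hq
  rw [mem_Fx] at hq ⊢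
  have h1 : (τ * σ) q = (σ * τ) q := by rw [hc]
  rw [Equiv.Perm.mul_apply, Equiv.Perm.mul_apply, hq] at h1
  exact h1

/-- numbers of fixed points -/
theorem card_Fx {r : ℕ} (hr : r.Prime) {σ : Equiv.Perm GolayPt} (hσ : σ ∈ M24)
    (ho : orderOf σ = r) {n : ℕ} (hn : n ≤ 5) {m : ℕ}
    (hm : m * Nat.factorial 24 = 244823040 * Nat.factorial (24 - n)) (hrm : ¬ r ∣ m) :
    (Fx σ).card < n ∧ (Fx σ).card ≡ 24 [MOD r] := by
  classical
  have : Fact r.Prime := ⟨hr⟩
  let a : (⊤ : Subgroup M24) := ⟨⟨σ, hσ⟩, mem_top _⟩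
  have ha : orderOf a = r := by
    rw [← ho, ← orderOf_coe a, ← orderOf_coe (a : M24)]
  have h1 := fr.fixed ha hn hm hrm
  have h2 : (MulAction.fixedPoints (zpowers a) GolayPt).ncard = (Fx σ).card := by
    rw [← Set.ncard_coe_finset]
    congr 1
    ext q
    rw [Finset.mem_coe, mem_Fx, MulAction.mem_fixedPoints]
    constructor
    · intro h
      exact h ⟨a, mem_zpowers a⟩
    · rintro h ⟨g, hg⟩
      obtain ⟨k, rfl⟩ := mem_zpowers_iff.1 hg
      have h3 : (a ^ k) ∈ MulAction.stabilizer (⊤ : Subgroup M24) q :=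
        zpow_mem (show a ∈ MulAction.stabilizer (⊤ : Subgroup M24) q from h) k
      exact h3
  rw [h2] at h1
  exact h1

theorem card_Fx_seven {σ : Equiv.Perm GolayPt} (hσ : σ ∈ M24) (ho : orderOf σ = 7) :
    (Fx σ).card = 3 := by
  obtain ⟨h1, h2⟩ := card_Fx (by norm_num) hσ ho (n := 4) (by norm_num) (m := 960)
    (by decide +kernel) (by norm_num)
  unfold Nat.ModEq at h2
  omega

theorem card_Fx_eleven {σ : Equiv.Perm GolayPt} (hσ : σ ∈ M24) (ho : orderOf σ = 11) :
    (Fx σ).card = 2 := by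
  obtain ⟨h1, h2⟩ := card_Fx (by norm_num) hσ ho (n := 3) (by norm_num) (m := 20160)
    (by decide +kernel) (by norm_num)
  unfold Nat.ModEq at h2
  omega

theorem card_Fx_23 {σ : Equiv.Perm GolayPt} (hσ : σ ∈ M24) (ho : orderOf σ = 23) :
    (Fx σ).card = 1 := by
  obtain ⟨h1, h2⟩ := card_Fx (by norm_num) hσ ho (n := 2) (by norm_num) (m := 443520)
    (by decide +kernel) (by norm_num)
  unfold Nat.ModEq at h2
  omega

theorem card_Fx_two {σ : Equiv.Perm GolayPt} (hσ : σ ∈ M24) (ho : orderOf σ = 2)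
    {p : GolayPt} (hp : σ p = p) : (Fx σ).card = 8 := by
  obtain ⟨o, ho, h⟩ := Cfsg.Agent.OddHalf.Small.Mathieu.exists_fix_octad hσ
    (by rw [← pow_two, ← ho, pow_orderOf_eq_one])
    (fun h => by rw [h, orderOf_one] at ho; norm_num at ho) hp
  have : Fx σ = o := by
    ext q
    rw [mem_Fx, h]
  rw [this]
  exact ho.2

theorem eq_one_of_card_Fx {σ : Equiv.Perm GolayPt} (h : (Fx σ).card = 24) : σ = 1 := by
  have h1 : Fx σ = Finset.univ := by
    rw [← Finset.card_eq_iff_eq_univ, h]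
    rfl
  ext q
  have : q ∈ Fx σ := by rw [h1]; exact Finset.mem_univ q
  rw [mem_Fx.1 this]
  rfl

end Cfsg.Agent.H701.Golay
end

private theorem dce_73a520409ff3 : _root_.True := by
  try have : _root_.True := by simp only [_root_.Cfsg.Agent.H701.Three.cube.eq_1]
  try have : _root_.True := by simp only [_root_.Cfsg.Agent.H701.y2.eq_1]
  try have : _root_.True := by simp only [_root_.Cfsg.Agent.H701.y3.eq_1]
  try have : _root_.True := by simp only [_root_.Cfsg.Agent.H701.y4.eq_1]
  try have : _root_.True := by simp only [_root_.Cfsg.Agent.H701.Three.blk.eq_1]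
  exact _root_.True.intro
end

-- part: H701/PslTwo_mg
section
prune_inst 0x822000000008000000000040000000000000000080000000000000800000800000000000028000000000008110000800000000000000000000100000000000010400008800000000000000000000000000000000000000000000000000000000
set_option linter.all false
open scoped Cfsg.Agent.FastGrp

-- part: H701/PslTwo
section
/-!
# `Ex2` for `PSL_2(q)`, `q ≥ 8`
-/

set_option autoImplicit false
set_option linter.all false

namespace Cfsg.Agent.H701

open Matrix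

namespace Two

variable {F : Type*} [Field F]

theorem conj_up {c : F} (h : IsConj (tv (F := F) (0 : Fin 2) 1 (by decide) 1)
    (tv (0 : Fin 2) 1 (by decide) c)) : IsSquare c := by
  obtain ⟨g, hg⟩ := isConj_iff.1 h
  have h1 : g * tv (0 : Fin 2) 1 (by decide) 1 = tv (0 : Fin 2) 1 (by decide) c * g := by
    rw [← hg]; group
  have h2 : (slMat (Fin 2) F g) * (1 + Matrix.single 0 1 1) =
      (1 + Matrix.single 0 1 c) * (slMat (Fin 2) F g) := by
    rw [← slMat_tv (by decide : (0 : Fin 2) ≠ 1), ← slMat_tv (by decide : (0 : Fin 2) ≠ 1),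
      ← map_mul, ← map_mul, h1]
  have hdet : (slMat (Fin 2) F g).det = 1 := g.2
  rw [Matrix.det_fin_two] at hdet
  have e00 := congrFun (congrFun h2 0) 0
  have e01 := congrFun (congrFun h2 0) 1
  simp only [Matrix.mul_add, Matrix.add_mul, Matrix.mul_apply, Fin.sum_univ_two, Matrix.single_apply,
    Matrix.add_apply, _root_.Fin.isValue, _root_.one_ne_zero, _root_.and_false, _root_.not_false_eq_true, _root_.Matrix.single_apply_of_ne, _root_.add_zero, _root_.Matrix.one_apply_eq, _root_.mul_one, _root_.ne_eq, _root_.Matrix.one_apply_ne, _root_.MulZeroClass.mul_zero, _root_.true_and, ↓ _root_.reduceIte, _root_.one_mul, _root_.zero_ne_one, _root_.zero_add, _root_.left_eq_add, _root_.mul_eq_zero, _root_.and_true] at e00 e01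
  -- `e00 : c = 0 ∨ g 1 0 = 0`
  by_cases hc : c = 0
  · exact ⟨0, by rw [hc, mul_zero]⟩
  · have g10 : slMat (Fin 2) F g 1 0 = 0 := by
      rcases e00 with h | h
      · exact absurd h hc
      · exact h
    have g00 : slMat (Fin 2) F g 0 0 = c * slMat (Fin 2) F g 1 1 := by
      linear_combination e01
    refine ⟨slMat (Fin 2) F g 0 0, ?_⟩
    rw [g10, mul_zero, sub_zero] at hdet
    linear_combination (-(slMat (Fin 2) F g 0 0)) * g00 - c * hdet

theorem exists_pair_p [Finite F] {p : ℕ} [hp : Fact p.Prime] [CharP F p] (h2 : (2 : F) ≠ 0) :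
    ∃ x y : Matrix.ProjectiveSpecialLinearGroup (Fin 2) F, orderOf x = p ∧ orderOf y = p ∧
      ¬ IsConj x y := by
  haveI : Fintype F := Fintype.ofFinite F
  have hF : ringChar F ≠ 2 := by
    intro hr
    apply h2
    have := ringChar.Nat.cast_ringChar (R := F)
    rw [hr] at this
    simpa using this
  obtain ⟨c, hc⟩ := FiniteField.exists_nonsquare hF
  have hc0 : c ≠ 0 := by
    rintro rfl
    exact hc ⟨0, by simp⟩
  have h01 : (0 : Fin 2) ≠ 1 := by decide
  have hs : ∀ a : F, (slMat (Fin 2) F (tv 0 1 h01 a) - 1) ^ 2 = 0 := by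
    intro a
    rw [slMat_tv, add_sub_cancel_left, pow_two, Matrix.single_mul_single_of_ne _ _ _ _ h01.symm]
  have ho : ∀ a : F, a ≠ 0 → orderOf (tv (0 : Fin 2) 1 h01 a) = p := by
    intro a ha
    refine orderOf_eq_char (slMat (Fin 2) F) slMat_injective (hs a) hp.out.two_le ?_
    rw [slMat_tv, add_sub_cancel_left]
    intro h
    have := congrFun (congrFun h 0) 1
    simp at this
    exact ha this
  have hpw : ∀ a : F, a ≠ 0 → (tv (0 : Fin 2) 1 h01 a) ^ p ^ 1 = 1 := by
    intro a ha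
    rw [pow_one]
    have := pow_orderOf_eq_one (tv (0 : Fin 2) 1 h01 a)
    rwa [ho a ha] at this
  have hZ : NoP p (_root_.Matrix.SpecialLinearGroup (Fin 2) F) := noP_sl
  refine ⟨((tv (0 : Fin 2) 1 h01 1 : _root_.Matrix.SpecialLinearGroup (Fin 2) F) :
      _root_.Matrix.SpecialLinearGroup (Fin 2) F ⧸ Subgroup.center _),
    ((tv (0 : Fin 2) 1 h01 c : _root_.Matrix.SpecialLinearGroup (Fin 2) F) :
      _root_.Matrix.SpecialLinearGroup (Fin 2) F ⧸ Subgroup.center _), ?_, ?_, ?_⟩
  · rw [orderOf_mk hZ (hpw 1 one_ne_zero), ho 1 one_ne_zero]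
  · rw [orderOf_mk hZ (hpw c hc0), ho c hc0]
  · intro h
    exact hc (conj_up (isConj_of_mk hZ (hpw 1 one_ne_zero) (hpw c hc0) h))

/-- `q` even -/
theorem ex2_even [Fintype F] (he : Even (Fintype.card F)) (h8 : 8 ≤ Fintype.card F) :
    Ex2 (Matrix.ProjectiveSpecialLinearGroup (Fin 2) F) := by
  obtain ⟨C, H, hCH, hrel, hC, hcard, -, hTI⟩ :=
    Cfsg.Agent.ClassicalGeometry.PSLTorus.exists_psl_torus F
  have hg : Nat.gcd 2 (Fintype.card F - 1) = 1 := by
    obtain ⟨k, hk⟩ := he
    rw [← Nat.coprime_iff_gcd_eq_one, Nat.coprime_two_left]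
    exact ⟨k - 1, by omega⟩
  rw [hg, Nat.div_one] at hcard
  refine Ex2.of_torus_three C H hC ?_ (m := Fintype.card F + 1) (by rw [hcard]) ?_ (by omega)
  · intro g hg x hx hx'
    refine hTI g⁻¹ (fun h => hg (by simpa using H.inv_mem h)) x hx ?_
    rwa [inv_inv]
  · rw [hrel]
    by_contra hcon
    push Not at hcon
    have := le_of_totient (m := Fintype.card F + 1) (by omega) (by omega)
    obtain ⟨p, hp⟩ := CharP.exists F
    have hpp : p.Prime := CharP.char_is_prime F p
    obtain ⟨n, -, hn⟩ := FiniteField.card F p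
    have hp2 : p = 2 := by
      have : 2 ∣ p ^ (n : ℕ) := by rw [← hn]; exact he.two_dvd
      exact ((Nat.prime_dvd_prime_iff_eq Nat.prime_two hpp).1
        (Nat.prime_two.dvd_of_dvd_pow this)).symm
    rw [hp2] at hn
    have hn4 : (n : ℕ) < 4 := by
      by_contra h
      push Not at h
      have : 2 ^ 4 ≤ 2 ^ (n : ℕ) := Nat.pow_le_pow_right (by norm_num) h
      omega
    have hn3 : (n : ℕ) = 3 := by
      by_contra h
      have : 2 ^ (n : ℕ) ≤ 2 ^ 2 := Nat.pow_le_pow_right (by norm_num) (by omega)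
      omega
    rw [hn3] at hn
    rw [hn] at hcon
    revert hcon
    decide

/-- `q` odd -/
theorem ex2_odd [Fintype F] (ho : Odd (Fintype.card F)) (h9 : 9 ≤ Fintype.card F) :
    Ex2 (Matrix.ProjectiveSpecialLinearGroup (Fin 2) F) := by
  obtain ⟨p, hp⟩ := CharP.exists F
  haveI hpf : Fact p.Prime := ⟨CharP.char_is_prime F p⟩
  have h2 : (2 : F) ≠ 0 := (Cfsg.Agent.ClassicalGeometry.PSLTorus.two_ne_zero_iff_odd F).2 ho
  obtain ⟨y1, y2, o1, o2, hy⟩ := exists_pair_p (F := F) (p := p) h2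
  obtain ⟨n, -, hn⟩ := FiniteField.card F p
  have hpq : p ∣ Fintype.card F := by rw [hn]; exact dvd_pow_self p n.ne_zero
  -- the second pair
  suffices hs : ∃ (m : ℕ) (x y : Matrix.ProjectiveSpecialLinearGroup (Fin 2) F), orderOf x = m ∧
      orderOf y = m ∧ ¬ IsConj x y ∧ m ≠ p by
    obtain ⟨m, x, y, h1, h2, h3, h4⟩ := hs
    exact Or.inr ⟨y1, y2, x, y, o1.trans o2.symm, h1.trans h2.symm, by rw [o1, h1]; exact h4.symm,
      hy, h3⟩
  have hodd := ho
  rw [Nat.odd_iff] at hodd
  have hp1 : ¬ p ∣ 1 := fun h => hpf.out.one_lt.ne' (Nat.dvd_one.1 h)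
  by_cases h11 : Fintype.card F = 11
  · obtain ⟨E, T, w, hD⟩ := Cfsg.Agent.Ree.PSLBorel.exists_data F ho
    have hT : Nat.card T = 5 := by
      have := hD.card_T
      omega
    have hcard := ncard_orderOf T hD.T_cyclic (m := 5) (by rw [hT])
    have hcl : ∀ x ∈ {x | x ∈ T ∧ orderOf x = 5},
        {y | y ∈ {x | x ∈ T ∧ orderOf x = 5} ∧ IsConj x y}.ncard ≤ 2 := by
      rintro x ⟨hx, hxo⟩
      have hx1 : x ≠ 1 := by
        rintro rfl
        rw [orderOf_one] at hxo
        omega
      have hsub : {y | y ∈ {x | x ∈ T ∧ orderOf x = 5} ∧ IsConj x y} ⊆ {x, x⁻¹} := by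
        rintro y ⟨⟨hy, -⟩, hc⟩
        obtain ⟨g, hg⟩ := isConj_iff.1 hc
        letI := hD.T_cyclic.commGroup
        have hcomm : ∀ t ∈ T, t * x * t⁻¹ = x := by
          intro t ht
          have h := mul_comm (⟨t, ht⟩ : T) ⟨x, hx⟩
          have h' : t * x = x * t := congrArg Subtype.val h
          rw [h']; group
        rcases hD.ti_T x hx hx1 g (by rw [hg]; exact hy) with h | h
        · left
          rw [← hg, hcomm g h]
        · right
          rw [Set.mem_singleton_iff, ← hg]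
          have h3 : w * x * w⁻¹ = x⁻¹ := hD.w_inv x hx
          have h4 : w⁻¹ * x⁻¹ * w = x := by rw [← h3]; group
          have h5 : w⁻¹ * x * w = x⁻¹ := by
            have : (w⁻¹ * x⁻¹ * w)⁻¹ = x⁻¹ := by rw [h4]
            rw [← this]; group
          have h6 : g * x⁻¹ * g⁻¹ = x := by
            calc g * x⁻¹ * g⁻¹ = (g * w) * (w⁻¹ * x⁻¹ * w) * (g * w)⁻¹ := by group
              _ = x := by rw [h4]; exact hcomm _ h
          calc g * x * g⁻¹ = (g * x⁻¹ * g⁻¹)⁻¹ := by group
            _ = x⁻¹ := by rw [h6]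
      refine (Set.ncard_le_ncard hsub (Set.toFinite _)).trans ?_
      exact (Set.ncard_insert_le _ _).trans (by rw [Set.ncard_singleton])
    have h5 : (5 : ℕ).totient = 4 := by decide
    obtain ⟨x, hx, y, hy, hxy⟩ := two_of_ncard hcl (by
      rw [Set.nonempty_iff_ne_empty]
      intro h0
      rw [h0, Set.ncard_empty] at hcard
      omega) (by rw [hcard]; omega)
    refine ⟨5, x, y, hx.2, hy.2, hxy, ?_⟩
    rintro rfl
    rw [h11] at hpq
    norm_num at hpq
  · obtain ⟨C, H, hCH, hrel, hC, hcard, -, hTI⟩ :=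
      Cfsg.Agent.ClassicalGeometry.PSLTorus.exists_psl_torus F
    have hg : Nat.gcd 2 (Fintype.card F - 1) = 2 := by
      apply Nat.gcd_eq_left
      omega
    rw [hg] at hcard
    have hm1 : (Fintype.card F + 1) / 2 ≠ 1 := by omega
    obtain ⟨x, y, -, -, hx, hy, hxy⟩ := exists_torus_two C H hC (by
      intro g hg x hx hx'
      refine hTI g⁻¹ (fun h => hg (by simpa using H.inv_mem h)) x hx ?_
      rwa [inv_inv]) (m := (Fintype.card F + 1) / 2) (by rw [hcard]) (by
        rw [hrel]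
        by_contra hcon
        push Not at hcon
        have := le_of_totient_two (m := (Fintype.card F + 1) / 2) (by omega) hcon
        (clear * - h9 hodd h11 this; omega)) hm1
    refine ⟨_, x, y, hx, hy, hxy, ?_⟩
    intro he
    apply hp1
    have h1 : p ∣ Fintype.card F + 1 := by
      rw [← he]
      exact ⟨2, by omega⟩
    exact (Nat.dvd_add_right hpq).1 h1

end Two

/-- `PSL`, apart from the two exceptions -/
theorem ex2_of_isPSL {F : Type} [Field F] [Fintype F] {n : ℕ} (hn : 2 ≤ n)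
    (h2 : n = 2 → 8 ≤ Fintype.card F) (h3 : n = 3 → 3 ≤ Fintype.card F) :
    Ex2 (Matrix.ProjectiveSpecialLinearGroup (Fin n) F) := by
  rcases Nat.lt_or_ge n 3 with h | h
  · have hn2 : n = 2 := by omega
    subst hn2
    have h8 := h2 rfl
    rcases Nat.even_or_odd (Fintype.card F) with he | ho
    · exact Two.ex2_even he h8
    · refine Two.ex2_odd ho ?_
      rw [Nat.odd_iff] at ho
      omega
  · rcases Nat.lt_or_ge n 4 with h' | h'
    · have hn3 : n = 3 := by omega
      subst hn3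
      exact Three.ex2_psl_three (by rw [Nat.card_eq_fintype_card]; exact h3 rfl)
    · have hfour : Four (⟨0, by omega⟩ : Fin n) ⟨1, by omega⟩ ⟨2, by omega⟩ ⟨3, by omega⟩ := by
        constructor <;> simp
      exact ex2_psl_four hfour

end Cfsg.Agent.H701
end

-- part: H701/PsuThree
section
/-!
# `Ex2` for `PSU_3(q)`, `q ≥ 3`
-/

set_option autoImplicit false
set_option linter.all false

namespace Cfsg.Agent.H701

open Matrix Cfsg Cfsg.Agent.LieClassical.HermBasic Cfsg.Agent.ClassicalGeometry.UnitTransv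
open Cfsg.Agent.LieClassical.SUBasic (suDiag coe_suDiag mem_center_SU_iff)

namespace Su

variable {F : Type*} [Field F] [Fintype F] {q : ℕ}

/-- `SU₃` as a group of matrices with scalar centre -/
noncomputable def rep (hF : Fintype.card F = q ^ 2) : Three.Rep (SU 3 F q) F where
  f := um 3 F q
  inj := um_injective
  cen := by
    intro z hz
    obtain ⟨c, h3, hc, rfl⟩ := (mem_center_SU_iff hF le_rfl z).1 hz
    refine ⟨c, h3, ?_⟩
    show Matrix.diagonal (fun _ => c) = _
    rw [← Matrix.diagonal_one, ← Matrix.diagonal_smul]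
    congr 1
    ext i
    simp

theorem exists_gen_norm (hF : Fintype.card F = q ^ 2) : ∃ w : F, orderOf w = q + 1 := by
  obtain ⟨g, hg0, hg⟩ := Three.exists_gen F
  have hq := two_le hF
  have hcard : Nat.card F - 1 = (q - 1) * (q + 1) := by
    rw [Nat.card_eq_fintype_card, hF]
    obtain ⟨m, rfl⟩ : ∃ m, q = m + 1 := ⟨q - 1, by omega⟩
    simp only [Nat.add_sub_cancel]
    have : (m + 1) ^ 2 = m * (m + 1 + 1) + 1 := by ring
    omega
  refine ⟨g ^ (q - 1), ?_⟩
  rw [orderOf_pow' _ (by omega), hg, hcard, Nat.gcd_eq_right (Dvd.intro _ rfl),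
    Nat.mul_div_cancel_left _ (by omega)]

theorem norm_of_order {w : F} (h : orderOf w = q + 1) : w ^ (q + 1) = 1 := by
  rw [← h, pow_orderOf_eq_one]

/-- a diagonal element -/
def dg (q : ℕ) (a b c : F) (h : a * b * c = 1) (ha : a ^ (q + 1) = 1) (hb : b ^ (q + 1) = 1)
    (hc : c ^ (q + 1) = 1) : SU 3 F q :=
  suDiag q ![a, b, c] (by rw [Fin.prod_univ_three]; simpa only [_root_.Fin.isValue, _root_.Matrix.cons_val_zero, _root_.Matrix.cons_val_one, _root_.Matrix.cons_val] using h) (by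
    intro i
    fin_cases i
    · exact ha
    · exact hb
    · exact hc)

theorem um_dg {a b c : F} (h : a * b * c = 1) (ha : a ^ (q + 1) = 1) (hb : b ^ (q + 1) = 1)
    (hc : c ^ (q + 1) = 1) : um 3 F q (dg q a b c h ha hb hc) = Matrix.diagonal ![a, b, c] := rfl

theorem ex2_even (hF : Fintype.card F = q ^ 2) (he : Even q) (h4 : 4 ≤ q)
    (h6 : q ≠ 6) : Ex2 (PSU 3 F q) := by
  obtain ⟨w, hw⟩ := exists_gen_norm hF
  have hw0 : w ≠ 0 := by
    rintro rfl
    rw [orderOf_zero] at hw
    omega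
  have h1 := norm_of_order hw
  have hi : w⁻¹ ^ (q + 1) = 1 := by rw [inv_pow, h1, inv_one]
  have hg := um_dg (q := q) (a := 1) (b := w) (c := w⁻¹) (by field_simp) (one_pow _) h1 hi
  rcases Nat.lt_or_ge q 7 with h | h
  · have hq : q = 4 := by
      obtain ⟨k, hk⟩ := he
      omega
    subst hq
    have hw3 : (w ^ 3) ^ (4 + 1) = 1 := by rw [← pow_mul, mul_comm, pow_mul, h1, one_pow]
    have hh := um_dg (q := 4) (a := w) (b := w) (c := w ^ 3)
      (by
        calc w * w * w ^ 3 = w ^ (4 + 1) := by ring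
          _ = 1 := h1) h1 h1 hw3
    exact Three.ex2_five (rep hF) hw hg hh
  · refine Three.ex2_diag (rep hF) (w := w) ?_ (by rw [hw]; omega) hg
    rw [hw]
    obtain ⟨k, hk⟩ := he
    exact ⟨k, by omega⟩

/-- two pairs of elements of prime power orders for different primes -/
theorem ex2_of_pairs {Q : Type*} [Group Q] [Finite Q] {p r b : ℕ} (hp : p.Prime)
    (hr : r.Prime) (hpr : p ≠ r)
    (hZ : NoP p Q) (hZr : NoP r Q) {y₁ y₂ g h : Q} (o1 : orderOf y₁ = p) (o2 : orderOf y₂ = p)
    (hy : ¬ IsConj y₁ y₂) (og : orderOf g = r ^ b) (oh : orderOf h = r ^ b)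
    (ht : ¬ IsConj g h) : Ex2 (Q ⧸ Subgroup.center Q) := by
  have q1 : y₁ ^ p ^ 1 = 1 := by rw [pow_one, ← o1, pow_orderOf_eq_one]
  have q2 : y₂ ^ p ^ 1 = 1 := by rw [pow_one, ← o2, pow_orderOf_eq_one]
  have q3 : g ^ r ^ b = 1 := by rw [← og, pow_orderOf_eq_one]
  have q4 : h ^ r ^ b = 1 := by rw [← oh, pow_orderOf_eq_one]
  refine Or.inr ⟨y₁, y₂, g, h, ?_, ?_, ?_, ?_, ?_⟩
  · rw [orderOf_mk hZ q1, orderOf_mk hZ q2, o1, o2]
  · rw [orderOf_mk hZr q3, orderOf_mk hZr q4, og, oh]
  · rw [orderOf_mk hZ q1, orderOf_mk hZr q3, o1, og]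
    intro hcon
    have : p ∣ r ^ b := by rw [← hcon]
    exact hpr ((Nat.prime_dvd_prime_iff_eq hp hr).1 (hp.dvd_of_dvd_pow this))
  · exact fun hc => hy (isConj_of_mk hZ q1 q2 hc)
  · exact fun hc => ht (isConj_of_mk hZr q3 q4 hc)

theorem two_pow_q (hF : Fintype.card F = q ^ 2) : (2 : F) ^ q = 2 := by
  have := add_pow_q hF (1 : F) 1
  rw [one_pow, one_add_one_eq_two] at this
  exact this

/-- the order `p` pair -/
theorem exists_pair_p (hF : Fintype.card F = q ^ 2) {p : ℕ} [hp : Fact p.Prime] [CharP F p]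
    (h2 : (2 : F) ≠ 0) : ∃ y₁ y₂ : SU 3 F q, orderOf y₁ = p ∧ orderOf y₂ = p ∧
      ¬ IsConj y₁ y₂ := by
  have hp3 : 3 ≤ p := by
    have := hp.out.two_le
    rcases Nat.lt_or_ge p 3 with h | h
    · exfalso
      have : p = 2 := by omega
      subst this
      apply h2
      have := CharP.cast_eq_zero F 2
      simpa using this
    · exact h
  obtain ⟨s, hs⟩ := _root_.Cfsg.Agent.LieClassical.HermBasic.exists_norm_eq hF (c := (-1 : F)) (by rw [neg_pow_q hF, one_pow])
  obtain ⟨c, hc0, hc⟩ := exists_trace_zero_ne hF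
  let a : Fin 3 → F := ![1, s, 0]
  let w : Fin 3 → F := ![0, 0, 1]
  have ha : hermForm 3 F q a a = 0 := by
    simp [herm_def, Fin.sum_univ_three, a, hs, zero_pow_q hF]
  have hwa : hermForm 3 F q w a = 0 := by
    simp [herm_def, Fin.sum_univ_three, a, w, zero_pow_q hF]
  have hww : hermForm 3 F q w w = 1 := by
    simp [herm_def, Fin.sum_univ_three, w, zero_pow_q hF]
  have hmu : (-(2 : F)⁻¹) + (-(2 : F)⁻¹) ^ q + hermForm 3 F q w w = 0 := by
    rw [neg_pow_q hF, inv_pow, two_pow_q hF, hww]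
    field_simp
    ring
  set y1 := utv hF a c ha hc with hy1
  set y2 := siegel hF a w (-(2 : F)⁻¹) ha hwa hmu with hy2
  have aw : hermForm 3 F q a w = 0 := herm_eq_zero_swap hF hwa
  have n1 : (um 3 F q y1 - 1) ^ 2 = 0 := um_utv_sq hF ha hc
  have sub2 : ∀ x : Fin 3 → F, (um 3 F q y2 - 1) *ᵥ x =
      hermForm 3 F q x a • w + (-(2 : F)⁻¹ * hermForm 3 F q x a - hermForm 3 F q x w) • a := by
    intro x
    have h1 : um 3 F q y2 *ᵥ x = act y2 x := rfl
    rw [Matrix.sub_mulVec, Matrix.one_mulVec, h1, act_siegel]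
    abel
  have sq2 : ∀ x : Fin 3 → F, (um 3 F q y2 - 1) *ᵥ ((um 3 F q y2 - 1) *ᵥ x) =
      (- hermForm 3 F q x a) • a := by
    intro x
    rw [sub2, sub2]
    simp only [herm_add_left, herm_smul_left, hwa, ha, aw, hww, mul_zero, mul_one, add_zero,
      zero_smul, zero_add, zero_sub]
  have cu2 : (um 3 F q y2 - 1) ^ 3 = 0 := by
    apply Matrix.ext_of_mulVec_single
    intro i
    rw [pow_succ, pow_two, Matrix.zero_mulVec, ← Matrix.mulVec_mulVec, ← Matrix.mulVec_mulVec, sq2,
      sub2]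
    simp only [herm_add_left, herm_smul_left, hwa, ha, mul_zero, add_zero, neg_zero, zero_smul]
  have a0 : a ≠ 0 := by
    intro h
    have := congrFun h 0
    simp [a] at this
  obtain ⟨x, hx⟩ := exists_herm_ne_zero hF a0
  have sne : (um 3 F q y2 - 1) ^ 2 ≠ 0 := by
    intro h
    have h1 := sq2 x
    rw [Matrix.mulVec_mulVec, ← pow_two, h, Matrix.zero_mulVec] at h1
    have h3 := congrFun h1 0
    have aa0 : a 0 = 1 := rfl
    rw [Pi.smul_apply, smul_eq_mul, aa0, mul_one, Pi.zero_apply] at h3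
    exact hx (herm_eq_zero_swap hF (neg_eq_zero.1 h3.symm))
  refine ⟨y1, y2, ?_, ?_, ?_⟩
  · refine orderOf_eq_char (um 3 F q) um_injective n1 (by omega) ?_
    rw [hy1, um_utv_sub]
    intro h
    have h3 := congrFun (congrFun h 0) 0
    have aa0 : a 0 = 1 := rfl
    rw [Matrix.smul_apply, Matrix.vecMulVec_apply, aa0, one_pow, mul_one, smul_eq_mul, mul_one,
      Matrix.zero_apply] at h3
    exact hc0 h3
  · refine orderOf_eq_char (um 3 F q) um_injective cu2 hp3 ?_
    intro h
    exact sne (by rw [h]; simp)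
  · intro hcj
    exact sne (pow_eq_zero_of_isConj (um 3 F q) hcj (n := 2) (by norm_num) n1)

/-- diagonal elements of order four -/
theorem exists_pair_four (hF : Fintype.card F = q ^ 2) (h2 : (2 : F) ≠ 0) (hq : q % 4 = 3) :
    ∃ g h : SU 3 F q, orderOf g = 4 ∧ orderOf h = 4 ∧ ¬ IsConj g h := by
  have hsq : IsSquare (-1 : F) := by
    rw [FiniteField.isSquare_neg_one_iff, hF, pow_two, Nat.mul_mod, hq]
    norm_num
  obtain ⟨i, hi⟩ := hsq
  have hi2 : i ^ 2 = -1 := by rw [pow_two, ← hi]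
  have hi0 : i ≠ 0 := by
    rintro rfl
    norm_num at hi2
  have e4 : q + 1 = 4 * ((q + 1) / 4) := by omega
  have hin : i ^ (q + 1) = 1 := by
    have : i ^ 4 = 1 := by
      calc i ^ 4 = (i ^ 2) ^ 2 := by ring
        _ = 1 := by rw [hi2]; ring
    rw [e4, pow_mul, this, one_pow]
  have hev : Even (q + 1) := ⟨2 * ((q + 1) / 4), by omega⟩
  have hmn : (-i) ^ (q + 1) = 1 := by rw [hev.neg_pow, hin]
  have hm1 : (-1 : F) ^ (q + 1) = 1 := hev.neg_one_pow
  have d1 : 1 * i * (-i) = 1 := by linear_combination -hi2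
  have d2 : i * i * (-1) = 1 := by linear_combination -hi2
  have hg := um_dg (q := q) (a := 1) (b := i) (c := -i) d1 (one_pow _) hin hmn
  have hh := um_dg (q := q) (a := i) (b := i) (c := -1) d2 hin hin hm1
  have ord : ∀ (a b c : F) (g : SU 3 F q), um 3 F q g = Matrix.diagonal ![a, b, c] →
      a ^ 4 = 1 → b ^ 4 = 1 → c ^ 4 = 1 → b ^ 2 ≠ 1 → orderOf g = 4 := by
    intro a b c g hg ha hb hc hb2
    have pw : ∀ n : ℕ, um 3 F q (g ^ n) = Matrix.diagonal ![a ^ n, b ^ n, c ^ n] := by
      intro n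
      rw [map_pow, hg, Matrix.diagonal_pow]
      congr 1
      ext j
      fin_cases j <;> rfl
    have : orderOf g = 2 ^ (1 + 1) := by
      apply orderOf_eq_prime_pow
      · intro hcon
        apply hb2
        have h1 := pw 2
        rw [show g ^ 2 = 1 by simpa only [_root_.pow_one] using hcon, map_one] at h1
        have := congrFun (congrFun h1 1) 1
        simp at this
        exact this.symm
      · apply um_injective (F := F) (n := 3) (q := q)
        rw [show 2 ^ (1 + 1) = 4 by norm_num, pw, map_one, ha, hb, hc, ← Matrix.diagonal_one]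
        congr 1
        ext j
        fin_cases j <;> rfl
    simpa using this
  have i4 : i ^ 4 = 1 := by
    calc i ^ 4 = (i ^ 2) ^ 2 := by ring
      _ = 1 := by rw [hi2]; ring
  have i2 : i ^ 2 ≠ 1 := by
    rw [hi2]
    intro h
    apply h2
    linear_combination -h
  refine ⟨_, _, ord _ _ _ _ hg (one_pow _) i4 (by rw [neg_pow, i4]; norm_num) i2,
    ord _ _ _ _ hh i4 i4 (by norm_num) i2, ?_⟩
  intro hc
  have ht := Three.trace_eq (rep hF) hc
  have t1 : ((rep hF).f (dg q 1 i (-i) d1 (one_pow _) hin hmn)).trace = 1 := by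
    show (um 3 F q _).trace = 1
    rw [hg, Matrix.trace_fin_three]
    simp
  have t2 : ((rep hF).f (dg q i i (-1) d2 hin hin hm1)).trace = i + i - 1 := by
    show (um 3 F q _).trace = _
    rw [hh, Matrix.trace_fin_three]
    simp
    ring
  rw [t1, t2] at ht
  have h3 : 2 * (i - 1) = 0 := by linear_combination -ht
  rcases mul_eq_zero.1 h3 with h | h
  · exact h2 h
  · apply i2
    rw [sub_eq_zero.1 h, one_pow]

/-- elements of order eight -/
theorem exists_pair_eight (hF : Fintype.card F = q ^ 2) (h2 : (2 : F) ≠ 0) (hq : q % 4 = 1) :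
    ∃ g h : SU 3 F q, orderOf g = 8 ∧ orderOf h = 8 ∧ ¬ IsConj g h := by
  have hq2 := two_le hF
  have hsq : IsSquare (-1 : F) := by
    rw [FiniteField.isSquare_neg_one_iff, hF, pow_two, Nat.mul_mod, hq]
    norm_num
  have hsq2 : IsSquare (2 : F) := by
    rw [FiniteField.isSquare_two_iff, hF, pow_two, Nat.mul_mod]
    have : q % 8 = 1 ∨ q % 8 = 5 := by omega
    rcases this with h | h <;> rw [h] <;> norm_num
  obtain ⟨i, hi⟩ := hsq
  obtain ⟨t, ht⟩ := hsq2
  have hi2 : i ^ 2 = -1 := by rw [pow_two, ← hi]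
  have iq : i ^ q = i := by
    have e : q = 4 * (q / 4) + 1 := by omega
    have i4 : i ^ 4 = 1 := by
      calc i ^ 4 = (i ^ 2) ^ 2 := by ring
        _ = 1 := by rw [hi2]; ring
    rw [e, pow_succ, pow_mul, i4, one_pow, one_mul]
  have tq : t ^ q = t ∨ t ^ q = -t := by
    have h1 : t ^ q * t ^ q = t * t := by
      rw [← mul_pow, ← ht, two_pow_q hF]
    exact mul_self_eq_mul_self_iff.1 h1
  have t0 : t ≠ 0 := by
    rintro rfl
    apply h2
    rw [ht]
    ring
  -- `τ^q = δ τ`, `τ² = 2 δ`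
  obtain ⟨τ, δ, hδ, hτ, hτq, hδq, hτ0⟩ : ∃ τ δ : F, δ * δ = 1 ∧ τ * τ = 2 * δ ∧ τ ^ q = δ * τ ∧
      δ ^ q = δ ∧ τ ≠ 0 := by
    rcases tq with h | h
    · exact ⟨t, 1, by ring, by rw [← ht]; ring, by rw [h]; ring, one_pow _, t0⟩
    · refine ⟨i * t, -1, by ring, ?_, ?_, ?_, ?_⟩
      · linear_combination (t * t) * hi2 + ht
      · rw [mul_pow, iq, h]; ring
      · rw [neg_pow_q hF, one_pow]
      · apply mul_ne_zero _ t0
        rintro rfl
        norm_num at hi2
  obtain ⟨b, hb⟩ := _root_.Cfsg.Agent.LieClassical.HermBasic.exists_norm_eq hF (c := (2 : F)⁻¹) (by rw [inv_pow, two_pow_q hF])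
  have hδ0 : δ ≠ 0 := by
    rintro rfl
    rw [mul_zero] at hδ
    exact zero_ne_one hδ
  have build : ∀ τ : F, τ * τ = 2 * δ → τ ^ q = δ * τ →
      ∃ g : SU 3 F q, orderOf g = 8 ∧ ((rep hF).f g).trace = τ + δ := by
    intro τ hτ hτq
    have hbb : 2 * (b * b ^ q) = 1 := by
      rw [hb]
      field_simp
    have hhalf : (τ / 2) * 2 = τ := by field_simp
    set a : F := τ / 2 with hadef
    have haq : a ^ q = δ * a := by
      rw [hadef, div_pow, two_pow_q hF, hτq]
      ring
    have haa : 2 * (a * a) = δ := by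
      have : 4 * (a * a) = 2 * δ := by
        rw [← hτ, ← hhalf]
        ring
      have h3 : 2 * (2 * (a * a) - δ) = 0 := by linear_combination this
      rcases mul_eq_zero.1 h3 with h | h
      · exact absurd h h2
      · exact sub_eq_zero.1 h
    have hdet : (Three.blk a (-(δ * b ^ q)) b a δ).det = 1 := by
      rw [Three.det_blk]
      have h3 : 2 * ((a * a - -(δ * b ^ q) * b) * δ - 1) = 0 := by
        linear_combination δ * haa + (δ * δ) * hbb + 2 * hδ
      rcases mul_eq_zero.1 h3 with h | h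
      · exact absurd h h2
      · exact sub_eq_zero.1 h
    have bqq : (b ^ q) ^ q = b := pow_q_pow_q hF b
    have hherm : ∀ x y, hermForm 3 F q (Three.blk a (-(δ * b ^ q)) b a δ *ᵥ x)
        (Three.blk a (-(δ * b ^ q)) b a δ *ᵥ y) = hermForm 3 F q x y := by
      intro x y
      have aδ : a * a ^ q = a * (δ * a) := by rw [haq]
      simp only [herm_def, Fin.sum_univ_three, Matrix.mulVec, dotProduct, Three.blk, Matrix.of_apply,
        Matrix.cons_val_zero, Matrix.cons_val_one, Matrix.cons_val, zero_mul, add_zero, zero_add,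
        add_pow_q hF, mul_pow, neg_pow_q hF, bqq, haq, hδq, zero_pow_q hF, mul_zero]
      have h3 : ∀ u v : F, 2 * (u - v) = 0 → u = v := by
        intro u v h
        rcases mul_eq_zero.1 h with h | h
        · exact absurd h h2
        · exact sub_eq_zero.1 h
      apply h3
      linear_combination (x 0 * y 0 ^ q + x 1 * y 1 ^ q) * (δ * haa + hbb + hδ) +
        (2 * x 2 * y 2 ^ q) * hδ + (x 1 * y 1 ^ q) * (2 * (b * b ^ q)) * hδ
        + (x 1 * y 0 ^ q * 2 * a * b ^ q) * hδ * (-1) + (x 0 * y 1 ^ q * 2 * b * a) * hδ * 0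
    refine ⟨mk _ hdet hherm, ?_, ?_⟩
    · apply Three.orderOf_eight (rep hF) h2 (g := mk _ hdet hherm) rfl
      simp only [Three.blk_mul]
      have e1 : a * a + -(δ * b ^ q) * b = 0 := by
        have h3 : 2 * (a * a + -(δ * b ^ q) * b) = 0 := by
          linear_combination haa - δ * hbb
        rcases mul_eq_zero.1 h3 with h | h
        · exact absurd h h2
        · exact h
      have e2 : b * -(δ * b ^ q) + a * a = 0 := by rw [← e1]; ring
      rw [e1, e2]
      congr 1
      · have h3 : 2 * ((a * -(δ * b ^ q) + -(δ * b ^ q) * a) * (b * a + a * b)) = 2 * (-1) := by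
          linear_combination (-(4 * a * a * δ)) * hbb + (-2 * δ) * haa - 2 * hδ
        have h4 : 2 * (0 * 0 + (a * -(δ * b ^ q) + -(δ * b ^ q) * a) * (b * a + a * b) + 1) = 0 := by
          linear_combination h3
        rcases mul_eq_zero.1 h4 with h | h
        · exact absurd h h2
        · linear_combination h
      · ring
      · ring
      · have h3 : 2 * ((a * -(δ * b ^ q) + -(δ * b ^ q) * a) * (b * a + a * b)) = 2 * (-1) := by
          linear_combination (-(4 * a * a * δ)) * hbb + (-2 * δ) * haa - 2 * hδ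
        have h4 : 2 * (0 * 0 + (a * -(δ * b ^ q) + -(δ * b ^ q) * a) * (b * a + a * b) + 1) = 0 := by
          linear_combination h3
        rcases mul_eq_zero.1 h4 with h | h
        · exact absurd h h2
        · linear_combination h
      · linear_combination (δ * δ + 1) * hδ
    · show (Three.blk a (-(δ * b ^ q)) b a δ).trace = _
      rw [Three.trace_blk]
      linear_combination hhalf
  obtain ⟨g, hg, hgt⟩ := build τ hτ hτq
  obtain ⟨h, hh, hht⟩ := build (-τ) (by rw [neg_mul_neg]; exact hτ)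
    (by rw [neg_pow_q hF, hτq]; ring)
  refine ⟨g, h, hg, hh, ?_⟩
  intro hc
  have := Three.trace_eq (rep hF) hc
  rw [hgt, hht] at this
  have h3 : 2 * τ = 0 := by linear_combination this
  rcases mul_eq_zero.1 h3 with h | h
  · exact h2 h
  · exact hτ0 h

theorem ex2_odd (hF : Fintype.card F = q ^ 2) (ho : Odd q) : Ex2 (PSU 3 F q) := by
  obtain ⟨p, hp⟩ := CharP.exists F
  haveI hpf : Fact p.Prime := ⟨CharP.char_is_prime F p⟩
  have hodd : Odd (Fintype.card F) := by rw [hF]; exact ho.pow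
  have h2 : (2 : F) ≠ 0 := by
    intro h
    have h1 : ringChar F ≠ 2 := by
      intro hr
      have := FiniteField.even_card_iff_char_two.1 hr
      rw [Nat.odd_iff] at hodd
      omega
    exact Ring.two_ne_zero h1 h
  have hp2 : p ≠ 2 := by
    rintro rfl
    apply h2
    have := CharP.cast_eq_zero F 2
    simpa using this
  obtain ⟨y1, y2, o1, o2, hy⟩ := exists_pair_p hF (p := p) h2
  have hZ : NoP p (SU 3 F q) := noP hF le_rfl
  rcases Nat.lt_or_ge (q % 4) 2 with h | h
  · have h1 : q % 4 = 1 := by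
      rw [Nat.odd_iff] at ho
      omega
    obtain ⟨g, k, og, ok, hgk⟩ := exists_pair_eight hF h2 h1
    exact ex2_of_pairs hpf.out Nat.prime_two hp2 hZ (rep hF).noP_two o1 o2 hy (b := 3) og ok hgk
  · have h1 : q % 4 = 3 := by
      rw [Nat.odd_iff] at ho
      omega
    obtain ⟨g, k, og, ok, hgk⟩ := exists_pair_four hF h2 h1
    exact ex2_of_pairs hpf.out Nat.prime_two hp2 hZ (rep hF).noP_two o1 o2 hy (b := 2) og ok hgk

theorem ex2_of_isPSU {G : Type*} [Group G] (h : Cfsg.IsPSU G) : Ex2 G := by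
  obtain ⟨F, _, _, n, q, hF, hn, hq, ⟨e⟩⟩ := h
  refine Ex2.congr e.symm ?_
  rcases Nat.lt_or_ge n 4 with h | h
  · have h3 : n = 3 := by omega
    subst h3
    have hq2 : q ≠ 2 := fun h => hq ⟨rfl, h⟩
    have := two_le hF
    rcases Nat.even_or_odd q with he | ho
    · refine ex2_even hF he ?_ ?_
      · obtain ⟨k, hk⟩ := he
        omega
      · rintro rfl
        obtain ⟨p, k, hp, -, hk, hk0⟩ := exists_prime_pow hF
        have h2 : 2 ∣ p ^ k := by rw [← hk]; norm_num
        have h3 : 3 ∣ p ^ k := by rw [← hk]; norm_num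
        have e2 := (Nat.prime_dvd_prime_iff_eq Nat.prime_two hp).1 (Nat.prime_two.dvd_of_dvd_pow h2)
        have e3 := (Nat.prime_dvd_prime_iff_eq Nat.prime_three hp).1
          (Nat.prime_three.dvd_of_dvd_pow h3)
        omega
    · exact ex2_odd hF ho
  · exact ex2_four hF h

end Su

end Cfsg.Agent.H701
end

-- part: H701/Orth
section
/-!
# `Ex2` for the orthogonal groups
-/

set_option autoImplicit false
set_option linter.all false

namespace Cfsg.Agent.H701

namespace Orth

open QuadraticMap Matrix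
open Cfsg.Agent.LieClassical.OmegaCenter
open Cfsg.Agent.ClassicalGeometry.Reflection
open Cfsg.Agent.LieClassical.OmegaReindex (quadPlus quadOdd quadMinus polar_quadPlus polar_quadOdd
  polar_quadMinus quadPlus_nondegenerate quadOdd_nondegenerate quadMinus_nondegenerate)

variable {ι : Type} [Fintype ι] [DecidableEq ι] {F : Type*} [Field F]

/-- vectors in an orthogonal space: two hyperbolic pairs and more -/
structure Conf (Q : QuadraticForm F (ι → F)) where
  nd : (polarBilin Q).Nondegenerate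
  e1 : ι → F
  f1 : ι → F
  e2 : ι → F
  f2 : ι → F
  e3 : ι → F
  f3 : ι → F
  x : ι → F
  Qe1 : Q e1 = 0
  Qe2 : Q e2 = 0
  Qf2 : Q f2 = 0
  Qe3 : Q e3 = 0
  Qf3 : Q f3 = 0
  Qx : Q x = 1
  B11 : polar Q e1 f1 = 1
  B22 : polar Q e2 f2 = 1
  B33 : polar Q e3 f3 = 1
  Be1e2 : polar Q e1 e2 = 0
  Be1f2 : polar Q e1 f2 = 0
  Be1e3 : polar Q e1 e3 = 0
  Be1f3 : polar Q e1 f3 = 0
  Be1x : polar Q e1 x = 0
  Bf1e2 : polar Q f1 e2 = 0
  Bf1f2 : polar Q f1 f2 = 0
  Be2e3 : polar Q e2 e3 = 0
  Be2f3 : polar Q e2 f3 = 0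
  Be2x : polar Q e2 x = 0
  Bf2e3 : polar Q f2 e3 = 0
  Bf2f3 : polar Q f2 f3 = 0
  Bf2x : polar Q f2 x = 0
  Be3x : polar Q e3 x = 0
  Bf3x : polar Q f3 x = 0

variable {Q : QuadraticForm F (ι → F)}

/-- action of `Omega` on vectors -/
def ac (g : Cfsg.Omega F (⇑Q)) (v : ι → F) : ι → F := act (g : Cfsg.isometryGroup F (⇑Q)) v

theorem ac_mul (g h : Cfsg.Omega F (⇑Q)) (v : ι → F) : ac (g * h) v = ac g (ac h v) :=
  coe_mul_mulVec _ _ _ _

theorem ac_one (v : ι → F) : ac (1 : Cfsg.Omega F (⇑Q)) v = v := by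
  show (1 : Matrix ι ι F) *ᵥ v = v
  simp

theorem ac_inv (g : Cfsg.Omega F (⇑Q)) (v : ι → F) : ac g (ac g⁻¹ v) = v := by
  rw [← ac_mul, mul_inv_cancel, ac_one]

theorem ac_sub (g : Cfsg.Omega F (⇑Q)) (v w : ι → F) : ac g (v - w) = ac g v - ac g w :=
  Matrix.mulVec_sub _ _ _

theorem ac_add (g : Cfsg.Omega F (⇑Q)) (v w : ι → F) : ac g (v + w) = ac g v + ac g w :=
  Matrix.mulVec_add _ _ _

theorem Q_ac (g : Cfsg.Omega F (⇑Q)) (v : ι → F) : Q (ac g v) = Q v := map_act Q _ v

theorem ext_ac {g h : Cfsg.Omega F (⇑Q)} (H : ∀ v, ac g v = ac h v) : g = h :=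
  Subtype.ext (isometryGroup_ext _ _ _ H)

theorem polar_self' (v : ι → F) : polar (⇑Q) v v = 2 * Q v := by
  rw [QuadraticMap.polar_self]
  simp [two_mul, two_smul]

theorem Q_add' (u v : ι → F) : Q (u + v) = Q u + Q v + polar (⇑Q) u v := by
  rw [QuadraticMap.polar]; ring

/-- the Siegel transformation, in `Omega` -/
def ei (u w : ι → F) (hu : Q u = 0) (huw : polar (⇑Q) u w = 0)
    (h : eichler Q u w hu huw ∈ Cfsg.Omega F (⇑Q)) : Cfsg.Omega F (⇑Q) := ⟨eichler Q u w hu huw, h⟩

theorem ac_ei {u w : ι → F} (hu : Q u = 0) (huw : polar (⇑Q) u w = 0)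
    (h : eichler Q u w hu huw ∈ Cfsg.Omega F (⇑Q)) (v : ι → F) :
    ac (ei u w hu huw h) v = v + polar (⇑Q) u v • w - polar (⇑Q) w v • u - (Q w * polar (⇑Q) u v) • u := by
  rw [← eichlerMatrix_mulVec]
  rfl

theorem commute_ei {u w : ι → F} (hu : Q u = 0) (huw : polar (⇑Q) u w = 0)
    (h : eichler Q u w hu huw ∈ Cfsg.Omega F (⇑Q)) (g : Cfsg.Omega F (⇑Q))
    (h1 : ac g u = u) (h2 : ac g w = w) : Commute (ei u w hu huw h) g := by
  have e := conj_eichler Q hu huw (g : Cfsg.isometryGroup F (⇑Q))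
  have e2 : g * ei u w hu huw h * g⁻¹ = ei u w hu huw h := by
    apply Subtype.ext
    show (g : Cfsg.isometryGroup F (⇑Q)) * eichler Q u w hu huw *
      (g : Cfsg.isometryGroup F (⇑Q))⁻¹ = _
    rw [e]
    have h1' : act (g : Cfsg.isometryGroup F (⇑Q)) u = u := h1
    have h2' : act (g : Cfsg.isometryGroup F (⇑Q)) w = w := h2
    simp only [h1', h2']
    rfl
  have : g * ei u w hu huw h = ei u w hu huw h * g := mul_inv_eq_iff_eq_mul.1 e2
  exact this.symm

theorem pow_ei {u w : ι → F} (hu : Q u = 0) (huw : polar (⇑Q) u w = 0)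
    (h : eichler Q u w hu huw ∈ Cfsg.Omega F (⇑Q)) {p : ℕ} [CharP F p] :
    (ei u w hu huw h) ^ p = 1 := by
  have key : ∀ n : ℕ, ∃ hn : polar (⇑Q) u (n • w) = 0,
      (eichler Q u w hu huw) ^ n = eichler Q u (n • w) hu hn := by
    intro n
    induction n with
    | zero =>
      refine ⟨by rw [zero_smul]; simp, ?_⟩
      rw [pow_zero]
      apply Subtype.ext
      apply Units.ext
      show (1 : Matrix ι ι F) = eichlerMatrix Q u (0 • w)
      rw [zero_smul, eichlerMatrix_zero]
    | succ n ih =>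
      obtain ⟨hn, ih⟩ := ih
      have hn' : polar (⇑Q) u ((n + 1) • w) = 0 := by
        rw [succ_nsmul, QuadraticMap.polar_add_right, hn, huw, add_zero]
      refine ⟨hn', ?_⟩
      rw [pow_succ, ih, eichler_mul]
      exact eichler_ext Q hu _ _ (succ_nsmul w n).symm
  obtain ⟨hp, e⟩ := key p
  apply Subtype.ext
  show (eichler Q u w hu huw) ^ p = 1
  rw [e]
  apply Subtype.ext
  apply Units.ext
  show eichlerMatrix Q u (p • w) = 1
  have : (p • w) = 0 := by
    ext i
    rw [Pi.smul_apply, nsmul_eq_mul, CharP.cast_eq_zero, zero_mul, Pi.zero_apply]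
  rw [this, eichlerMatrix_zero]

theorem noP (hQ : (polarBilin Q).Nondegenerate) (hn : 3 ≤ Fintype.card ι)
    (hs : ∃ u : ι → F, u ≠ 0 ∧ Q u = 0) {p : ℕ} (hp : p.Prime) [CharP F p] :
    NoP p (Cfsg.Omega F (⇑Q)) := by
  intro z hz hzp
  rcases (mem_center_omega_iff Q hQ hn hs z).1 hz with h | h
  · exact omega_ext h
  · rcases hp.eq_two_or_odd' with rfl | hodd
    · apply omega_ext
      rw [h]
      have h2 : (2 : F) = 0 := by
        have := CharP.cast_eq_zero F 2
        simpa using this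
      show (-1 : Matrix ι ι F) = 1
      ext i j
      rw [Matrix.neg_apply, Matrix.one_apply]
      split_ifs
      · linear_combination -h2
      · simp
    · exfalso
      have hm : ∀ v, ac z v = -v := by
        intro v
        show omegaMat z *ᵥ v = -v
        rw [h, Matrix.neg_mulVec, Matrix.one_mulVec]
      have hk : ∀ k v, ac (z ^ k) v = (-1 : F) ^ k • v := by
        intro k v
        induction k with
        | zero => rw [pow_zero, ac_one, pow_zero, one_smul]
        | succ k ih =>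
          rw [pow_succ', ac_mul, ih, hm, pow_succ, mul_neg_one, neg_smul]
      obtain ⟨u, hu0, -⟩ := hs
      have h1 := hk p u
      rw [hzp, ac_one, hodd.neg_one_pow, neg_smul, one_smul] at h1
      have h2 : (2 : F) • u = 0 := by
        rw [two_smul]
        nth_rewrite 1 [h1]
        rw [neg_add_cancel]
      rcases smul_eq_zero.1 h2 with h3 | h3
      · have h4 : ((2 : ℕ) : F) = 0 := by exact_mod_cast h3
        rw [CharP.cast_eq_zero_iff F p] at h4
        have := (Nat.prime_dvd_prime_iff_eq hp Nat.prime_two).1 h4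
        subst this
        exact absurd hodd (by decide)
      · exact hu0 h3

/-- the effect on the coordinates -/
theorem ac_z (C : Conf Q) (s : F) (h1 : eichler Q C.e3 (s • C.x) C.Qe3
      (by rw [QuadraticMap.polar_smul_right, C.Be3x, smul_zero]) ∈ Cfsg.Omega F (⇑Q))
    (h2 : eichler Q C.f3 C.x C.Qf3 C.Bf3x ∈ Cfsg.Omega F (⇑Q)) (v : ι → F) :
    ac (ei C.e3 (s • C.x) C.Qe3 (by rw [QuadraticMap.polar_smul_right, C.Be3x, smul_zero]) h1 *
      ei C.f3 C.x C.Qf3 C.Bf3x h2) v =
    v + (polar Q C.f3 v + s * (polar Q C.e3 v - polar Q C.f3 v - polar Q C.x v)) • C.x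
      - (polar Q C.f3 v + polar Q C.x v) • C.f3
      - (s * (polar Q C.x v + 2 * polar Q C.f3 v)
        + s ^ 2 * (polar Q C.e3 v - polar Q C.f3 v - polar Q C.x v)) • C.e3 := by
  rw [ac_mul, ac_ei, ac_ei]
  have hxx : polar Q C.x C.x = 2 := by rw [polar_self', C.Qx, mul_one]
  have hxf : polar Q C.x C.f3 = 0 := by rw [polar_comm, C.Bf3x]
  have hxe : polar Q C.x C.e3 = 0 := by rw [polar_comm, C.Be3x]
  have hQs : Q (s • C.x) = s * s := by rw [QuadraticMap.map_smul, C.Qx]; simp
  simp only [QuadraticMap.polar_add_right, QuadraticMap.polar_sub_right,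
    QuadraticMap.polar_smul_right, QuadraticMap.polar_smul_left, C.Be3x, C.B33, hxx, hxf, C.Qx, hQs,
    smul_eq_mul, mul_zero, mul_one, add_zero, sub_zero, one_mul]
  ext i
  simp only [Pi.add_apply, Pi.sub_apply, Pi.smul_apply, smul_eq_mul]
  ring

theorem ex2 [Finite F] (C : Conf Q) : Ex2 (Cfsg.Omega F (⇑Q) ⧸ Subgroup.center (Cfsg.Omega F (⇑Q))) := by
  obtain ⟨p, hp⟩ := CharP.exists F
  haveI hpf : Fact p.Prime := ⟨CharP.char_is_prime F p⟩
  have e1ne : C.e1 ≠ 0 := by
    intro h
    have := C.B11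
    rw [h, QuadraticMap.polar_zero_left] at this
    exact zero_ne_one this
  have hs : ∃ u : ι → F, u ≠ 0 ∧ Q u = 0 := ⟨C.e1, e1ne, C.Qe1⟩
  -- dimension
  have hn : 3 ≤ Fintype.card ι := by
    have hli : LinearIndependent F ![C.e1, C.e2, C.e3] := by
      rw [Fintype.linearIndependent_iff]
      intro g hg
      rw [Fin.sum_univ_three] at hg
      simp only [Matrix.cons_val_zero, Matrix.cons_val_one, Matrix.cons_val] at hg
      have hf := C.f1
      have h2 := congrArg (polar Q C.f2) hg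
      have h3 := congrArg (polar Q C.f3) hg
      have e2f2 : polar Q C.f2 C.e2 = 1 := by rw [polar_comm, C.B22]
      have e3f3 : polar Q C.f3 C.e3 = 1 := by rw [polar_comm, C.B33]
      have a1 : polar Q C.f2 C.e1 = 0 := by rw [polar_comm, C.Be1f2]
      have a3 : polar Q C.f3 C.e1 = 0 := by rw [polar_comm, C.Be1f3]
      have a4 : polar Q C.f3 C.e2 = 0 := by rw [polar_comm, C.Be2f3]
      simp only [QuadraticMap.polar_add_right, QuadraticMap.polar_smul_right, e2f2, e3f3, a1,
        C.Bf2e3, a3, a4, smul_eq_mul, mul_zero, mul_one, zero_add, add_zero,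
        QuadraticMap.polar_zero_right] at h2 h3
      rw [h2, h3, zero_smul, zero_smul, add_zero, add_zero] at hg
      have h1 := (smul_eq_zero.1 hg).resolve_right e1ne
      intro i
      fin_cases i
      · exact h1
      · exact h2
      · exact h3
    have := hli.fintype_card_le_finrank
    simpa only [_root_.ge_iff_le, _root_.Nat.succ_eq_add_one, _root_.zero_add, _root_.Nat.reduceAdd, _root_.Fintype.card_fin, _root_.Module.finrank_fintype_fun_eq_card] using this
  have hZ : NoP p (Cfsg.Omega F (⇑Q)) := noP C.nd hn hs hpf.out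
  -- `y₂`
  have Qw : Q (C.e2 + C.f2) = 1 := by
    have : Q (C.e2 + C.f2) = Q C.e2 + Q C.f2 + polar Q C.e2 C.f2 := by
      rw [QuadraticMap.polar]; ring
    rw [this, C.Qe2, C.Qf2, C.B22]; ring
  have Bw : polar Q C.e1 (C.e2 + C.f2) = 0 := by
    rw [QuadraticMap.polar_add_right, C.Be1e2, C.Be1f2, add_zero]
  have m2 : eichler Q C.e1 (C.e2 + C.f2) C.Qe1 Bw ∈ Cfsg.Omega F (⇑Q) :=
    eichler_mem_omega Q C.nd C.Qe1 Bw (by rw [Qw]; exact one_ne_zero)
  -- `y₁`
  have Qw1 : Q (C.e2 + C.x) = 1 := by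
    have : Q (C.e2 + C.x) = Q C.e2 + Q C.x + polar Q C.e2 C.x := by
      rw [QuadraticMap.polar]; ring
    rw [this, C.Qe2, C.Qx, C.Be2x]; ring
  have Bw1 : polar Q C.e1 (C.e2 + C.x) = 0 := by
    rw [QuadraticMap.polar_add_right, C.Be1e2, C.Be1x, add_zero]
  have Bx1 : polar Q C.e1 (-C.x) = 0 := by rw [QuadraticMap.polar_neg_right, C.Be1x, neg_zero]
  have m1 : eichler Q C.e1 C.e2 C.Qe1 C.Be1e2 ∈ Cfsg.Omega F (⇑Q) := by
    have h1 := eichler_mem_omega Q C.nd C.Qe1 Bw1 (by rw [Qw1]; exact one_ne_zero)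
    have h2 := eichler_mem_omega Q C.nd C.Qe1 Bx1
      (by rw [QuadraticMap.map_neg, C.Qx]; exact one_ne_zero)
    have h3 := mul_mem h1 h2
    rw [eichler_mul] at h3
    rwa [eichler_ext Q C.Qe1 _ C.Be1e2 (by abel)] at h3
  set y1 := ei C.e1 C.e2 C.Qe1 C.Be1e2 m1 with hy1
  set y2 := ei C.e1 (C.e2 + C.f2) C.Qe1 Bw m2 with hy2
  have p1 : y1 ^ p = 1 := pow_ei _ _ _
  have p2 : y2 ^ p = 1 := pow_ei _ _ _
  have e2f2 : polar Q C.f2 C.e2 = 1 := by rw [polar_comm, C.B22]
  have f2e1 : polar Q C.f2 C.e1 = 0 := by rw [polar_comm, C.Be1f2]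
  have a1 : ∀ v, ac y1 v = v + polar (⇑Q) C.e1 v • C.e2 - polar (⇑Q) C.e2 v • C.e1 := by
    intro v
    rw [hy1, ac_ei, C.Qe2, zero_mul, zero_smul, sub_zero]
  have a2 : ∀ v, ac y2 v = v + polar (⇑Q) C.e1 v • (C.e2 + C.f2)
      - (polar (⇑Q) (C.e2 + C.f2) v) • C.e1 - (polar (⇑Q) C.e1 v) • C.e1 := by
    intro v
    rw [hy2, ac_ei, Qw, one_mul]
  have y1ne : y1 ≠ 1 := by
    intro h
    have h1 := a1 C.f2
    rw [h, ac_one, C.Be1f2, C.B22, zero_smul, one_smul, add_zero] at h1
    exact e1ne (by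
      have h2 : C.f2 - (C.f2 - C.e1) = 0 := by rw [← h1]; simp
      simpa using h2)
  have y2ne : y2 ≠ 1 := by
    intro h
    have h1 := a2 C.f2
    have hff : polar Q C.f2 C.f2 = 0 := by rw [polar_self', C.Qf2, mul_zero]
    rw [h, ac_one, C.Be1f2, QuadraticMap.polar_add_left, C.B22, hff, zero_smul, add_zero, add_zero, one_smul,
      zero_smul, sub_zero] at h1
    exact e1ne (by
      have h2 : C.f2 - (C.f2 - C.e1) = 0 := by rw [← h1]; simp
      simpa using h2)
  have o1 : orderOf y1 = p := orderOf_eq_prime p1 y1ne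
  have o2 : orderOf y2 = p := orderOf_eq_prime p2 y2ne
  have nc : ¬ IsConj y1 y2 := by
    intro hc
    obtain ⟨g, hg⟩ := isConj_iff.1 hc
    have hinv : ∀ v, Q (ac y1 v - v) = 0 := by
      intro v
      have : ac y1 v - v = polar (⇑Q) C.e1 v • C.e2 + (-polar (⇑Q) C.e2 v) • C.e1 := by
        rw [a1, neg_smul]; abel
      rw [this]
      rw [Q_add', QuadraticMap.map_smul, QuadraticMap.map_smul, C.Qe1, C.Qe2,
        QuadraticMap.polar_smul_left, QuadraticMap.polar_smul_right, polar_comm Q C.e2 C.e1,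
        C.Be1e2]
      simp
    have h4 : ∀ v, Q (ac y2 v - v) = 0 := by
      intro v
      have h5 := hinv (ac g⁻¹ v)
      rw [← Q_ac g, ac_sub, ac_inv, ← ac_mul, ← ac_mul, hg] at h5
      exact h5
    have h6 := h4 C.f1
    have h7 : ac y2 C.f1 - C.f1 = (C.e2 + C.f2) + (-(polar (⇑Q) (C.e2 + C.f2) C.f1 + 1)) • C.e1 := by
      rw [a2, C.B11, one_smul, one_smul, neg_smul, add_smul, one_smul]
      abel
    rw [h7] at h6
    have h8 : ∀ c : F, Q ((C.e2 + C.f2) + c • C.e1) = 1 := by
      intro c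
      rw [Q_add', Qw, QuadraticMap.map_smul, C.Qe1, QuadraticMap.polar_smul_right,
        polar_comm Q (C.e2 + C.f2) C.e1, Bw]
      simp
    rw [h8] at h6
    exact one_ne_zero h6
  -- the `p'`-element
  obtain ⟨s, r, hs0, hrp, hr⟩ : ∃ (s : F) (r : ℕ), s ≠ 0 ∧ ¬ p ∣ r ∧
      ((r = 2 ∧ s = 2) ∨ (r = 3 ∧ s = 3)) := by
    rcases eq_or_ne p 2 with rfl | hp2
    · refine ⟨3, 3, ?_, by norm_num, Or.inr ⟨rfl, rfl⟩⟩
      intro h3
      have h2 : (2 : F) = 0 := by
        have := CharP.cast_eq_zero F 2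
        simpa using this
      have : (1 : F) = 0 := by linear_combination h3 - h2
      exact one_ne_zero this
    · refine ⟨2, 2, ?_, ?_, Or.inl ⟨rfl, rfl⟩⟩
      · intro h2
        have h4 : ((2 : ℕ) : F) = 0 := by exact_mod_cast h2
        rw [CharP.cast_eq_zero_iff F p] at h4
        exact hp2 ((Nat.prime_dvd_prime_iff_eq hpf.out Nat.prime_two).1 h4)
      · intro h
        exact hp2 ((Nat.prime_dvd_prime_iff_eq hpf.out Nat.prime_two).1 h)
  have hsx : polar Q C.e3 (s • C.x) = 0 := by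
    rw [QuadraticMap.polar_smul_right, C.Be3x, smul_zero]
  have m3 : eichler Q C.e3 (s • C.x) C.Qe3 hsx ∈ Cfsg.Omega F (⇑Q) := by
    apply eichler_mem_omega Q C.nd
    rw [QuadraticMap.map_smul, C.Qx]
    simpa using hs0
  have m4 : eichler Q C.f3 C.x C.Qf3 C.Bf3x ∈ Cfsg.Omega F (⇑Q) :=
    eichler_mem_omega Q C.nd _ _ (by rw [C.Qx]; exact one_ne_zero)
  set z := ei C.e3 (s • C.x) C.Qe3 hsx m3 * ei C.f3 C.x C.Qf3 C.Bf3x m4 with hz
  have az := ac_z C s m3 m4
  rw [← hz] at az
  have hxx : polar Q C.x C.x = 2 := by rw [polar_self', C.Qx, mul_one]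
  have hxf : polar Q C.x C.f3 = 0 := by rw [polar_comm, C.Bf3x]
  have hxe : polar Q C.x C.e3 = 0 := by rw [polar_comm, C.Be3x]
  have hfe : polar Q C.f3 C.e3 = 1 := by rw [polar_comm, C.B33]
  have hee : polar Q C.e3 C.e3 = 0 := by rw [polar_self', C.Qe3, mul_zero]
  have hff : polar Q C.f3 C.f3 = 0 := by rw [polar_self', C.Qf3, mul_zero]
  -- coordinates of `z v`
  have ze : ∀ v, polar Q C.e3 (ac z v) = polar Q C.e3 v - (polar Q C.f3 v + polar Q C.x v) := by
    intro v
    rw [az]
    simp only [QuadraticMap.polar_add_right, QuadraticMap.polar_sub_right,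
      QuadraticMap.polar_smul_right, C.Be3x, C.B33, hee, smul_eq_mul]
    ring
  have zf : ∀ v, polar Q C.f3 (ac z v) = polar Q C.f3 v - (s * (polar Q C.x v + 2 * polar Q C.f3 v)
        + s ^ 2 * (polar Q C.e3 v - polar Q C.f3 v - polar Q C.x v)) := by
    intro v
    rw [az]
    simp only [QuadraticMap.polar_add_right, QuadraticMap.polar_sub_right,
      QuadraticMap.polar_smul_right, C.Bf3x, hfe, hff, smul_eq_mul]
    ring
  have zx : ∀ v, polar Q C.x (ac z v) = polar Q C.x v + 2 * (polar Q C.f3 v + s * (polar Q C.e3 v -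
      polar Q C.f3 v - polar Q C.x v)) := by
    intro v
    rw [az]
    simp only [QuadraticMap.polar_add_right, QuadraticMap.polar_sub_right,
      QuadraticMap.polar_smul_right, hxx, hxe, hxf, smul_eq_mul]
    ring
  have hzr : z ^ r = 1 := by
    rcases hr with ⟨rfl, rfl⟩ | ⟨rfl, rfl⟩
    · apply ext_ac
      intro v
      rw [pow_two, ac_mul, ac_one, az (ac z v), ze, zf, zx, az v]
      ext i
      simp only [Pi.add_apply, Pi.sub_apply, Pi.smul_apply, smul_eq_mul]
      ring
    · apply ext_ac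
      intro v
      rw [pow_succ, pow_two, ac_mul, ac_mul, ac_one, az (ac z (ac z v)), ze, zf, zx, ze, zf, zx,
        az (ac z v), ze, zf, zx, az v]
      ext i
      simp only [Pi.add_apply, Pi.sub_apply, Pi.smul_apply, smul_eq_mul]
      ring
  have hfix : ∀ v, polar Q C.e3 v = 0 → polar Q C.f3 v = 0 → polar Q C.x v = 0 → ac z v = v := by
    intro v h1 h2 h3
    rw [az, h1, h2, h3]
    simp
  have fe1 : ac z C.e1 = C.e1 := hfix _ (by rw [polar_comm, C.Be1e3]) (by rw [polar_comm, C.Be1f3])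
    (by rw [polar_comm, C.Be1x])
  have fe2 : ac z C.e2 = C.e2 := hfix _ (by rw [polar_comm, C.Be2e3]) (by rw [polar_comm, C.Be2f3])
    (by rw [polar_comm, C.Be2x])
  have ff2 : ac z C.f2 = C.f2 := hfix _ (by rw [polar_comm, C.Bf2e3]) (by rw [polar_comm, C.Bf2f3])
    (by rw [polar_comm, C.Bf2x])
  have c1 : Commute y1 z := commute_ei _ _ _ _ fe1 fe2
  have c2 : Commute y2 z := commute_ei _ _ _ _ fe1 (by rw [ac_add, fe2, ff2])
  have zne : ac z C.e3 ≠ C.e3 := by
    intro h
    have h1 := ze C.e3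
    rw [h, hee, hfe, hxe] at h1
    exact one_ne_zero (by linear_combination h1)
  have hzc : z ∉ Subgroup.center (Cfsg.Omega F (⇑Q)) := by
    intro hc
    rcases (mem_center_omega_iff Q C.nd hn hs z).1 hc with h | h
    · apply zne
      show omegaMat z *ᵥ C.e3 = C.e3
      rw [h, Matrix.one_mulVec]
    · have h1 : ∀ v, ac z v = -v := by
        intro v
        show omegaMat z *ᵥ v = -v
        rw [h, Matrix.neg_mulVec, Matrix.one_mulVec]
      have h2 := h1 C.e1
      rw [fe1] at h2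
      have h3 : (2 : F) • C.e1 = 0 := by
        rw [two_smul]
        nth_rewrite 1 [h2]
        rw [neg_add_cancel]
      have h4 : (2 : F) = 0 := (smul_eq_zero.1 h3).resolve_right e1ne
      apply zne
      rw [h1]
      ext i
      rw [Pi.neg_apply]
      linear_combination -(C.e3 i) * h4
  have hzo : ¬ p ∣ orderOf z := fun h => hrp (h.trans (orderOf_dvd_of_pow_eq_one hzr))
  exact Ex2.quot_commute (a := 1) hpf.out hZ (by rw [pow_one]; exact p1) (by rw [pow_one]; exact p2)
    (o1.trans o2.symm) hzc hzo c1 c2 nc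

end Orth

end Cfsg.Agent.H701
end

-- part: H701/OrthInst
section
/-!
# `Ex2` for the three orthogonal families
-/

set_option autoImplicit false
set_option linter.all false

namespace Cfsg.Agent.H701

namespace Orth

open QuadraticMap Matrix
open Cfsg.Agent.LieClassical.OmegaReindex (quadPlus quadOdd quadMinus polar_quadPlus polar_quadOdd
  polar_quadMinus quadPlus_nondegenerate quadOdd_nondegenerate quadMinus_nondegenerate
  coe_quadPlus coe_quadOdd coe_quadMinus)

variable {F : Type*} [Field F] {m : ℕ}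

theorem plus_apply (v : Fin m ⊕ Fin m → F) : quadPlus m F v = ∑ i : Fin m, v (.inl i) * v (.inr i) := by
  rw [coe_quadPlus]; rfl

/-- the configuration in the plus form -/
noncomputable def confPlus {i j k l : Fin m} (hij : i ≠ j) (hik : i ≠ k) (hil : i ≠ l) (hjk : j ≠ k)
    (hjl : j ≠ l) (hkl : k ≠ l) : Conf (quadPlus m F) where
  nd := quadPlus_nondegenerate
  e1 := Pi.single (.inl i) 1
  f1 := Pi.single (.inr i) 1
  e2 := Pi.single (.inl j) 1
  f2 := Pi.single (.inr j) 1
  e3 := Pi.single (.inl k) 1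
  f3 := Pi.single (.inr k) 1
  x := Pi.single (.inl l) 1 + Pi.single (.inr l) 1
  Qe1 := by simp [plus_apply, Pi.single_apply]
  Qe2 := by simp [plus_apply, Pi.single_apply]
  Qf2 := by simp [plus_apply, Pi.single_apply]
  Qe3 := by simp [plus_apply, Pi.single_apply]
  Qf3 := by simp [plus_apply, Pi.single_apply]
  Qx := by simp [plus_apply, Pi.single_apply]
  B11 := by simp only [polar_quadPlus, Pi.single_apply, _root_.Sum.inl.injEq, _root_.Sum.inr.injEq, _root_.mul_ite, _root_.mul_one, _root_.MulZeroClass.mul_zero, _root_.ne_eq, _root_.reduceCtorEq, _root_.not_false_eq_true, _root_.Pi.single_eq_of_ne, _root_.add_zero, _root_.Finset.sum_ite_eq', _root_.Finset.mem_univ, ↓ _root_.reduceIte]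
  B22 := by simp only [polar_quadPlus, Pi.single_apply, _root_.Sum.inl.injEq, _root_.Sum.inr.injEq, _root_.mul_ite, _root_.mul_one, _root_.MulZeroClass.mul_zero, _root_.ne_eq, _root_.reduceCtorEq, _root_.not_false_eq_true, _root_.Pi.single_eq_of_ne, _root_.add_zero, _root_.Finset.sum_ite_eq', _root_.Finset.mem_univ, ↓ _root_.reduceIte]
  B33 := by simp only [polar_quadPlus, Pi.single_apply, _root_.Sum.inl.injEq, _root_.Sum.inr.injEq, _root_.mul_ite, _root_.mul_one, _root_.MulZeroClass.mul_zero, _root_.ne_eq, _root_.reduceCtorEq, _root_.not_false_eq_true, _root_.Pi.single_eq_of_ne, _root_.add_zero, _root_.Finset.sum_ite_eq', _root_.Finset.mem_univ, ↓ _root_.reduceIte]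
  Be1e2 := by simp [polar_quadPlus, Pi.single_apply]
  Be1f2 := by simp [polar_quadPlus, Pi.single_apply, hij, hij.symm]
  Be1e3 := by simp [polar_quadPlus, Pi.single_apply]
  Be1f3 := by simp [polar_quadPlus, Pi.single_apply, hik, hik.symm]
  Be1x := by simp only [polar_quadPlus, Pi.single_apply, hil, hil.symm, _root_.QuadraticMap.polar_add_right, _root_.Sum.inl.injEq, _root_.ne_eq, _root_.reduceCtorEq, _root_.not_false_eq_true, _root_.Pi.single_eq_of_ne, _root_.MulZeroClass.mul_zero, _root_.add_zero, _root_.Finset.sum_const_zero, _root_.Sum.inr.injEq, _root_.mul_ite, _root_.mul_one, _root_.Finset.sum_ite_eq', _root_.Finset.mem_univ, ↓ _root_.reduceIte]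
  Bf1e2 := by simp only [polar_quadPlus, Pi.single_apply, hij, hij.symm, _root_.ne_eq, _root_.reduceCtorEq, _root_.not_false_eq_true, _root_.Pi.single_eq_of_ne, _root_.MulZeroClass.mul_zero, _root_.Sum.inl.injEq, _root_.Sum.inr.injEq, _root_.mul_ite, _root_.mul_one, _root_.zero_add, _root_.Finset.sum_ite_eq', _root_.Finset.mem_univ, ↓ _root_.reduceIte]
  Bf1f2 := by simp [polar_quadPlus, Pi.single_apply, hij, hij.symm]
  Be2e3 := by simp [polar_quadPlus, Pi.single_apply]
  Be2f3 := by simp [polar_quadPlus, Pi.single_apply, hjk, hjk.symm]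
  Be2x := by simp only [polar_quadPlus, Pi.single_apply, hjl, hjl.symm, _root_.QuadraticMap.polar_add_right, _root_.Sum.inl.injEq, _root_.ne_eq, _root_.reduceCtorEq, _root_.not_false_eq_true, _root_.Pi.single_eq_of_ne, _root_.MulZeroClass.mul_zero, _root_.add_zero, _root_.Finset.sum_const_zero, _root_.Sum.inr.injEq, _root_.mul_ite, _root_.mul_one, _root_.Finset.sum_ite_eq', _root_.Finset.mem_univ, ↓ _root_.reduceIte]
  Bf2e3 := by simp only [polar_quadPlus, Pi.single_apply, hjk, hjk.symm, _root_.ne_eq, _root_.reduceCtorEq, _root_.not_false_eq_true, _root_.Pi.single_eq_of_ne, _root_.MulZeroClass.mul_zero, _root_.Sum.inl.injEq, _root_.Sum.inr.injEq, _root_.mul_ite, _root_.mul_one, _root_.zero_add, _root_.Finset.sum_ite_eq', _root_.Finset.mem_univ, ↓ _root_.reduceIte]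
  Bf2f3 := by simp [polar_quadPlus, Pi.single_apply]
  Bf2x := by simp [polar_quadPlus, Pi.single_apply, hjl, hjl.symm]
  Be3x := by simp only [polar_quadPlus, Pi.single_apply, hkl, hkl.symm, _root_.QuadraticMap.polar_add_right, _root_.Sum.inl.injEq, _root_.ne_eq, _root_.reduceCtorEq, _root_.not_false_eq_true, _root_.Pi.single_eq_of_ne, _root_.MulZeroClass.mul_zero, _root_.add_zero, _root_.Finset.sum_const_zero, _root_.Sum.inr.injEq, _root_.mul_ite, _root_.mul_one, _root_.Finset.sum_ite_eq', _root_.Finset.mem_univ, ↓ _root_.reduceIte]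
  Bf3x := by simp only [polar_quadPlus, Pi.single_apply, hkl, hkl.symm, _root_.QuadraticMap.polar_add_right, _root_.ne_eq, _root_.reduceCtorEq, _root_.not_false_eq_true, _root_.Pi.single_eq_of_ne, _root_.MulZeroClass.mul_zero, _root_.Sum.inl.injEq, _root_.Sum.inr.injEq, _root_.mul_ite, _root_.mul_one, _root_.zero_add, _root_.Finset.sum_ite_eq', _root_.Finset.mem_univ, ↓ _root_.reduceIte, _root_.ite_self, _root_.add_zero, _root_.Finset.sum_const_zero]

theorem odd_apply (v : Unit ⊕ (Fin m ⊕ Fin m) → F) :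
    quadOdd m F v = v (.inl ()) ^ 2 + ∑ i : Fin m, v (.inr (.inl i)) * v (.inr (.inr i)) := by
  rw [coe_quadOdd]; rfl

/-- the configuration in the odd form -/
noncomputable def confOdd (h2 : (2 : F) ≠ 0) {i j k : Fin m} (hij : i ≠ j) (hik : i ≠ k)
    (hjk : j ≠ k) : Conf (quadOdd m F) where
  nd := quadOdd_nondegenerate h2
  e1 := Pi.single (.inr (.inl i)) 1
  f1 := Pi.single (.inr (.inr i)) 1
  e2 := Pi.single (.inr (.inl j)) 1
  f2 := Pi.single (.inr (.inr j)) 1
  e3 := Pi.single (.inr (.inl k)) 1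
  f3 := Pi.single (.inr (.inr k)) 1
  x := Pi.single (.inl ()) 1
  Qe1 := by simp [odd_apply, Pi.single_apply]
  Qe2 := by simp [odd_apply, Pi.single_apply]
  Qf2 := by simp [odd_apply, Pi.single_apply]
  Qe3 := by simp [odd_apply, Pi.single_apply]
  Qf3 := by simp [odd_apply, Pi.single_apply]
  Qx := by simp [odd_apply, Pi.single_apply]
  B11 := by simp [polar_quadOdd, Pi.single_apply]
  B22 := by simp only [polar_quadOdd, Pi.single_apply, _root_.ne_eq, _root_.reduceCtorEq, _root_.not_false_eq_true, _root_.Pi.single_eq_of_ne, _root_.MulZeroClass.mul_zero, _root_.Sum.inr.injEq, _root_.Sum.inl.injEq, _root_.mul_ite, _root_.mul_one, _root_.add_zero, _root_.Finset.sum_ite_eq', _root_.Finset.mem_univ, ↓ _root_.reduceIte, _root_.zero_add]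
  B33 := by simp only [polar_quadOdd, Pi.single_apply, _root_.ne_eq, _root_.reduceCtorEq, _root_.not_false_eq_true, _root_.Pi.single_eq_of_ne, _root_.MulZeroClass.mul_zero, _root_.Sum.inr.injEq, _root_.Sum.inl.injEq, _root_.mul_ite, _root_.mul_one, _root_.add_zero, _root_.Finset.sum_ite_eq', _root_.Finset.mem_univ, ↓ _root_.reduceIte, _root_.zero_add]
  Be1e2 := by simp [polar_quadOdd, Pi.single_apply]
  Be1f2 := by simp [polar_quadOdd, Pi.single_apply, hij, hij.symm]
  Be1e3 := by simp [polar_quadOdd, Pi.single_apply]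
  Be1f3 := by simp [polar_quadOdd, Pi.single_apply, hik, hik.symm]
  Be1x := by simp [polar_quadOdd, Pi.single_apply]
  Bf1e2 := by simp [polar_quadOdd, Pi.single_apply, hij, hij.symm]
  Bf1f2 := by simp [polar_quadOdd, Pi.single_apply, hij, hij.symm]
  Be2e3 := by simp [polar_quadOdd, Pi.single_apply]
  Be2f3 := by simp [polar_quadOdd, Pi.single_apply, hjk, hjk.symm]
  Be2x := by simp [polar_quadOdd, Pi.single_apply]
  Bf2e3 := by simp [polar_quadOdd, Pi.single_apply, hjk, hjk.symm]
  Bf2f3 := by simp [polar_quadOdd, Pi.single_apply]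
  Bf2x := by simp [polar_quadOdd, Pi.single_apply]
  Be3x := by simp [polar_quadOdd, Pi.single_apply]
  Bf3x := by simp [polar_quadOdd, Pi.single_apply]

theorem minus_apply (a b : F) (v : (Fin m ⊕ Fin m) ⊕ Fin 2 → F) :
    quadMinus m F a b v = (∑ i : Fin m, v (.inl (.inl i)) * v (.inl (.inr i)))
    + (v (.inr 0) ^ 2 + a * v (.inr 0) * v (.inr 1) + b * v (.inr 1) ^ 2) := by
  rw [coe_quadMinus]; rfl

/-- the configuration in the minus form -/
noncomputable def confMinus [Finite F] {a b : F}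
    (hab : ∀ z₁ z₂ : F, z₁ ^ 2 + a * z₁ * z₂ + b * z₂ ^ 2 = 0 → z₁ = 0 ∧ z₂ = 0)
    {i j k : Fin m} (hij : i ≠ j) (hik : i ≠ k)
    (hjk : j ≠ k) : Conf (quadMinus m F a b) where
  nd := quadMinus_nondegenerate hab
  e1 := Pi.single (.inl (.inl i)) 1
  f1 := Pi.single (.inl (.inr i)) 1
  e2 := Pi.single (.inl (.inl j)) 1
  f2 := Pi.single (.inl (.inr j)) 1
  e3 := Pi.single (.inl (.inl k)) 1
  f3 := Pi.single (.inl (.inr k)) 1
  x := Pi.single (.inr 0) 1
  Qe1 := by simp [minus_apply, Pi.single_apply]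
  Qe2 := by simp [minus_apply, Pi.single_apply]
  Qf2 := by simp [minus_apply, Pi.single_apply]
  Qe3 := by simp [minus_apply, Pi.single_apply]
  Qf3 := by simp [minus_apply, Pi.single_apply]
  Qx := by simp [minus_apply, Pi.single_apply]
  B11 := by simp only [polar_quadMinus, Pi.single_apply, _root_.Sum.inl.injEq, _root_.Sum.inr.injEq, _root_.mul_ite, _root_.mul_one, _root_.MulZeroClass.mul_zero, _root_.ne_eq, _root_.reduceCtorEq, _root_.not_false_eq_true, _root_.Pi.single_eq_of_ne, _root_.add_zero, _root_.Finset.sum_ite_eq', _root_.Finset.mem_univ, ↓ _root_.reduceIte, _root_.Fin.isValue]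
  B22 := by simp only [polar_quadMinus, Pi.single_apply, _root_.Sum.inl.injEq, _root_.Sum.inr.injEq, _root_.mul_ite, _root_.mul_one, _root_.MulZeroClass.mul_zero, _root_.ne_eq, _root_.reduceCtorEq, _root_.not_false_eq_true, _root_.Pi.single_eq_of_ne, _root_.add_zero, _root_.Finset.sum_ite_eq', _root_.Finset.mem_univ, ↓ _root_.reduceIte, _root_.Fin.isValue]
  B33 := by simp only [polar_quadMinus, Pi.single_apply, _root_.Sum.inl.injEq, _root_.Sum.inr.injEq, _root_.mul_ite, _root_.mul_one, _root_.MulZeroClass.mul_zero, _root_.ne_eq, _root_.reduceCtorEq, _root_.not_false_eq_true, _root_.Pi.single_eq_of_ne, _root_.add_zero, _root_.Finset.sum_ite_eq', _root_.Finset.mem_univ, ↓ _root_.reduceIte, _root_.Fin.isValue]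
  Be1e2 := by simp [polar_quadMinus, Pi.single_apply]
  Be1f2 := by simp [polar_quadMinus, Pi.single_apply, hij, hij.symm]
  Be1e3 := by simp [polar_quadMinus, Pi.single_apply]
  Be1f3 := by simp [polar_quadMinus, Pi.single_apply, hik, hik.symm]
  Be1x := by simp [polar_quadMinus, Pi.single_apply]
  Bf1e2 := by simp only [polar_quadMinus, Pi.single_apply, hij, hij.symm, _root_.ne_eq, _root_.Sum.inl.injEq, _root_.reduceCtorEq, _root_.not_false_eq_true, _root_.Pi.single_eq_of_ne, _root_.MulZeroClass.mul_zero, _root_.Sum.inr.injEq, _root_.mul_ite, _root_.mul_one, _root_.zero_add, _root_.Finset.sum_ite_eq', _root_.Finset.mem_univ, ↓ _root_.reduceIte, _root_.Fin.isValue, _root_.add_zero]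
  Bf1f2 := by simp [polar_quadMinus, Pi.single_apply, hij, hij.symm]
  Be2e3 := by simp [polar_quadMinus, Pi.single_apply]
  Be2f3 := by simp [polar_quadMinus, Pi.single_apply, hjk, hjk.symm]
  Be2x := by simp [polar_quadMinus, Pi.single_apply]
  Bf2e3 := by simp only [polar_quadMinus, Pi.single_apply, hjk, hjk.symm, _root_.ne_eq, _root_.Sum.inl.injEq, _root_.reduceCtorEq, _root_.not_false_eq_true, _root_.Pi.single_eq_of_ne, _root_.MulZeroClass.mul_zero, _root_.Sum.inr.injEq, _root_.mul_ite, _root_.mul_one, _root_.zero_add, _root_.Finset.sum_ite_eq', _root_.Finset.mem_univ, ↓ _root_.reduceIte, _root_.Fin.isValue, _root_.add_zero]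
  Bf2f3 := by simp [polar_quadMinus, Pi.single_apply]
  Bf2x := by simp [polar_quadMinus, Pi.single_apply]
  Be3x := by simp [polar_quadMinus, Pi.single_apply]
  Bf3x := by simp [polar_quadMinus, Pi.single_apply]

theorem ex2_of_plus {G : Type*} [Group G] (h : Cfsg.IsPOmegaPlus G) : Ex2 G := by
  obtain ⟨F, _, _, m, hm, ⟨e⟩⟩ := h
  refine Ex2.congr e.symm ?_
  have := Orth.ex2 (confPlus (F := F) (m := m) (i := ⟨0, by omega⟩) (j := ⟨1, by omega⟩)
    (k := ⟨2, by omega⟩) (l := ⟨3, by omega⟩) (by simp) (by simp) (by simp) (by simp) (by simp)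
    (by simp))
  rw [coe_quadPlus] at this
  exact this

theorem ex2_of_odd {G : Type*} [Group G] (h : Cfsg.IsPOmegaOdd G) : Ex2 G := by
  obtain ⟨F, _, _, m, hm, ho, ⟨e⟩⟩ := h
  refine Ex2.congr e.symm ?_
  have h2 : (2 : F) ≠ 0 := by
    intro h
    have h1 : ringChar F ≠ 2 := by
      intro hr
      have := FiniteField.even_card_iff_char_two.1 hr
      rw [Nat.odd_iff] at ho
      omega
    exact Ring.two_ne_zero h1 h
  have := Orth.ex2 (confOdd (F := F) (m := m) h2 (i := ⟨0, by omega⟩) (j := ⟨1, by omega⟩)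
    (k := ⟨2, by omega⟩) (by simp) (by simp) (by simp))
  rw [coe_quadOdd] at this
  exact this

theorem ex2_of_minus {G : Type*} [Group G] (h : Cfsg.IsPOmegaMinus G) : Ex2 G := by
  obtain ⟨F, _, _, m, a, b, hm, hab, ⟨e⟩⟩ := h
  refine Ex2.congr e.symm ?_
  have := Orth.ex2 (confMinus (F := F) (m := m - 1) hab (i := ⟨0, by omega⟩) (j := ⟨1, by omega⟩)
    (k := ⟨2, by omega⟩) (by simp) (by simp) (by simp))
  rw [coe_quadMinus] at this
  exact this

end Orth

end Cfsg.Agent.H701
end

-- part: H701/SzRee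
section
/-!
# `Ex2` for the Suzuki and the Ree groups
-/

set_option autoImplicit false
set_option linter.all false

namespace Cfsg.Agent.H701

/-- `n ≤ φ(n)²` for odd `n` -/
theorem le_totient_sq (n : ℕ) (hn : Odd n) : n ≤ n.totient ^ 2 := by
  induction n using Nat.recOnPosPrimePosCoprime with
  | zero => exact absurd hn (by decide)
  | one => simp
  | prime_pow p k hp hk =>
    have hp2 : p ≠ 2 := by
      rintro rfl
      exact (Nat.not_odd_iff_even.2 ((even_two).pow_of_ne_zero hk.ne')) hn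
    have hp3 : 3 ≤ p := by
      have := hp.two_le
      omega
    rw [Nat.totient_prime_pow hp hk]
    obtain ⟨j, rfl⟩ : ∃ j, k = j + 1 := ⟨k - 1, by omega⟩
    rw [Nat.add_sub_cancel, pow_succ, mul_pow]
    have h1 : p ^ j ≤ (p ^ j) ^ 2 := Nat.le_self_pow two_ne_zero _
    have h2 : p ≤ (p - 1) ^ 2 := by
      obtain ⟨r, rfl⟩ : ∃ r, p = r + 3 := ⟨p - 3, by omega⟩
      have : r + 3 - 1 = r + 2 := rfl
      rw [this]
      nlinarith only []
    exact Nat.mul_le_mul h1 h2
  | coprime a b ha hb hab iha ihb =>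
    rw [Nat.odd_mul] at hn
    rw [Nat.totient_mul hab, mul_pow]
    exact Nat.mul_le_mul (iha hn.1) (ihb hn.2)

open Subgroup

theorem card_mul_relIndex_of_le {G : Type*} [Group G] {A B : Subgroup G} (h : A ≤ B) :
    Nat.card A * A.relIndex B = Nat.card B := by
  have := relIndex_mul_relIndex (⊥ : Subgroup G) A B bot_le h
  rwa [relIndex_bot_left, relIndex_bot_left] at this

/-- the Suzuki groups -/
theorem ex2_of_isoSuzuki {G : Type*} [Group G] (h : Cfsg.Lie.IsoSuzuki G) : Ex2 G := by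
  obtain ⟨F, _, _, m, hm, hF, ⟨e⟩⟩ := h
  obtain ⟨e'⟩ := Cfsg.Agent.OddCyclic.ClaimC.SzIso.iso hm hF
  haveI : Finite (Cfsg.Sz F m) := inferInstance
  refine Ex2.congr (e'.trans e.symm) ?_
  obtain ⟨U, hU, hk, hc, hN⟩ := S0333.result hm hF (2 ^ (2 * m + 1) + 2 ^ (m + 1) + 1) (by simp)
  have hle : U ≤ normalizer (U : Set (Cfsg.Sz F m)) := le_normalizer
  have hTI : ∀ g, g ∉ normalizer (U : Set (Cfsg.Sz F m)) → ∀ x ∈ U, g * x * g⁻¹ ∈ U → x = 1 := by
    intro g hg x hx hgx
    by_contra hx1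
    apply hg
    have hx2 : g * x * g⁻¹ ≠ 1 := by
      intro h
      apply hx1
      have : x = g⁻¹ * (g * x * g⁻¹) * g := by group
      rw [this, h]; group
    have h1 := hc x hx hx1
    have h2 := hc _ hgx hx2
    rw [mem_normalizer_iff]
    intro y
    rw [← SetLike.mem_coe, ← SetLike.mem_coe] 
    show y ∈ U ↔ g * y * g⁻¹ ∈ U
    rw [← h1, mem_centralizer_singleton_iff, h1]
    conv_rhs => rw [← h2, mem_centralizer_singleton_iff]
    constructor
    · intro h
      calc g * y * g⁻¹ * (g * x * g⁻¹) = g * (y * x) * g⁻¹ := by group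
        _ = g * (x * y) * g⁻¹ := by rw [h]
        _ = _ := by group
    · intro h
      have : g * (y * x) * g⁻¹ = g * (x * y) * g⁻¹ := by
        calc g * (y * x) * g⁻¹ = g * y * g⁻¹ * (g * x * g⁻¹) := by group
          _ = g * x * g⁻¹ * (g * y * g⁻¹) := h
          _ = _ := by group
      exact mul_left_cancel (mul_right_cancel this)
  have hrel : U.relIndex (normalizer (U : Set (Cfsg.Sz F m))) = 4 := by
    have h1 := card_mul_relIndex_of_le hle
    rw [hN, hk, mul_comm] at h1
    exact Nat.eq_of_mul_eq_mul_right (by positivity) h1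
  refine Ex2.of_torus_three U (normalizer (U : Set (Cfsg.Sz F m))) hU hTI
    (m := 2 ^ (2 * m + 1) + 2 ^ (m + 1) + 1) (by rw [hk]) ?_ ?_
  · rw [hrel]
    rcases Nat.lt_or_ge m 3 with h3 | h3
    · interval_cases m
      · decide
      · decide
    · by_contra hcon
      push Not at hcon
      have h1 := le_totient_sq (2 ^ (2 * m + 1) + 2 ^ (m + 1) + 1) (by
        have e1 : Even (2 ^ (2 * m + 1)) := (even_two).pow_of_ne_zero (by omega)
        have e2 : Even (2 ^ (m + 1)) := (even_two).pow_of_ne_zero (by omega)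
        exact (e1.add e2).add_one)
      have h2 : 2 ^ 7 ≤ 2 ^ (2 * m + 1) := Nat.pow_le_pow_right (by norm_num) (by omega)
      have h4 := Nat.pow_le_pow_left hcon 2
      generalize 2 ^ (2 * m + 1) = a at *
      generalize 2 ^ (m + 1) = b at *
      omega
  · have : 0 < 2 ^ (2 * m + 1) := by positivity
    generalize 2 ^ (2 * m + 1) = a at *
    generalize 2 ^ (m + 1) = b at *
    omega

/-- the Ree groups -/
theorem ex2_of_isoRee {G : Type*} [Group G] (h : Cfsg.Lie.IsoRee G) : Ex2 G := by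
  obtain ⟨F, _, _, m, hm, hF, ⟨e⟩⟩ := h
  haveI : Finite ↥(Cfsg.Lie.twistedG2 F (3 ^ m)) := inferInstance
  refine Ex2.congr e.symm ?_
  obtain ⟨U, hU, hk, hN, hA⟩ := S1158.result hm hF
    (3 ^ (2 * m + 1) + 3 ^ (m + 1) + 1, 6 * (3 ^ (2 * m + 1) + 3 ^ (m + 1) + 1)) (by simp only [_root_.Set.mem_insert_iff, _root_.Prod.mk.injEq, _root_.mul_eq_mul_left_iff, _root_.Nat.add_right_cancel_iff, _root_.Nat.add_eq_left, _root_.Nat.pow_eq_zero, _root_.OfNat.ofNat_ne_zero, _root_.ne_eq, _root_.Nat.add_eq_zero_iff, _root_.one_ne_zero, _root_.and_false, _root_.not_false_eq_true, _root_.and_true, _root_.or_self, _root_.or_false, _root_.and_self, _root_.Set.mem_singleton_iff, _root_.or_true])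
  simp only at hk hN
  have hle : U ≤ normalizer (U : Set ↥(Cfsg.Lie.twistedG2 F (3 ^ m))) := le_normalizer
  have hTI : ∀ g, g ∉ normalizer (U : Set ↥(Cfsg.Lie.twistedG2 F (3 ^ m))) → ∀ x ∈ U,
      g * x * g⁻¹ ∈ U → x = 1 := by
    intro g hg x hx hgx
    by_contra hx1
    apply hg
    have hgz : zpowers (g * x * g⁻¹) ≤ U := by rwa [zpowers_le]
    have hz : zpowers x ≤ U := by rwa [zpowers_le]
    have hcard : Nat.card (zpowers (g * x * g⁻¹)) = Nat.card (zpowers x) := by
      rw [Nat.card_zpowers, Nat.card_zpowers]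
      exact orderOf_injective (MulAut.conj g).toMonoidHom (MulAut.conj g).injective x
    -- subgroups of a cyclic group of the same order
    have heq : zpowers (g * x * g⁻¹) = zpowers x := by
      exact Cfsg.Agent.Classification.FlavellU.eq_of_card_eq_of_le_cyclic hU hgz hz hcard
    have hne : zpowers x ≠ ⊥ := by rwa [Ne, zpowers_eq_bot]
    rw [← hA (zpowers x) hz hne, mem_normalizer_iff]
    intro y
    have hmap : (zpowers x).map (MulAut.conj g).toMonoidHom = zpowers x := by
      rw [MonoidHom.map_zpowers]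
      exact heq
    have h5 : y ∈ zpowers x ↔ g * y * g⁻¹ ∈ (zpowers x).map (MulAut.conj g).toMonoidHom := by
      constructor
      · intro hy
        exact ⟨y, hy, rfl⟩
      · rintro ⟨w, hw, hwy⟩
        have : g * w * g⁻¹ = g * y * g⁻¹ := hwy
        rwa [mul_left_cancel (mul_right_cancel this)] at hw
    rw [hmap] at h5
    exact h5
  have hrel : U.relIndex (normalizer (U : Set ↥(Cfsg.Lie.twistedG2 F (3 ^ m)))) = 6 := by
    have h1 := card_mul_relIndex_of_le hle
    rw [hN, hk, mul_comm] at h1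
    exact Nat.eq_of_mul_eq_mul_right (by positivity) h1
  refine Ex2.of_torus_three U (normalizer (U : Set ↥(Cfsg.Lie.twistedG2 F (3 ^ m)))) hU hTI
    (m := 3 ^ (2 * m + 1) + 3 ^ (m + 1) + 1) (by rw [hk]) ?_ ?_
  · rw [hrel]
    rcases Nat.lt_or_ge m 2 with h3 | h3
    · interval_cases m
      decide
    · by_contra hcon
      push Not at hcon
      have h1 := le_totient_sq (3 ^ (2 * m + 1) + 3 ^ (m + 1) + 1) (by
        have e1 : Odd (3 ^ (2 * m + 1)) := (by decide : Odd 3).pow
        have e2 : Odd (3 ^ (m + 1)) := (by decide : Odd 3).pow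
        exact (e1.add_odd e2).add_one)
      have h2 : 3 ^ 5 ≤ 3 ^ (2 * m + 1) := Nat.pow_le_pow_right (by norm_num) (by omega)
      have h4 := Nat.pow_le_pow_left hcon 2
      generalize 3 ^ (2 * m + 1) = a at *
      generalize 3 ^ (m + 1) = b at *
      omega
  · have : 0 < 3 ^ (2 * m + 1) := by positivity
    generalize 3 ^ (2 * m + 1) = a at *
    generalize 3 ^ (m + 1) = b at *
    omega

end Cfsg.Agent.H701
end

-- part: H701/TwF
section
/-!
# `Ex2` for the groups `²F₄(q)`, `q > 2`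
-/

set_option autoImplicit false
set_option linter.all false

namespace Cfsg.Agent.H701

/-- an element of prime order in the centralizer -/
theorem prime_dvd_centralizer {G : Type*} [Group G] [Finite G] {y z : G} {l : ℕ} (hc : Commute y z)
    (hl : l ∣ orderOf z) : l ∣ Nat.card (Subgroup.centralizer ({y} : Set G)) := by
  have hmem : z ∈ Subgroup.centralizer ({y} : Set G) := by
    rw [Subgroup.mem_centralizer_singleton_iff]
    exact hc.symm
  have h1 : orderOf (⟨z, hmem⟩ : Subgroup.centralizer ({y} : Set G)) = orderOf z := by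
    rw [← Subgroup.orderOf_coe]
  exact hl.trans (by rw [← h1]; exact orderOf_dvd_natCard _)

namespace Chev

open Cfsg.Lie Cfsg.Agent.ChevalleyStructure Cfsg.Agent.ChevalleyStructure.Elts
open Cfsg.Agent.ChevalleyStructure.NConj Cfsg.Agent.ChevalleyStructure.BNChev

/-- the pair of a long root `v'` and a short root `v` of the same half plane with `v' - v` a root -/
def pok (v v' : ℕ) : Bool :=
  (v != v') && (v' != chevF4.neg v) && !(chevF4.commTerms v' (chevF4.neg v)).isEmpty

set_option maxRecDepth 100000 in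
theorem pok_closed : ∀ i < 4, ∀ v < 48, ∀ v' < 48, pok v v' = true →
    pok (chevF4.reflectRoot i v) (chevF4.reflectRoot i v') = true := by (delta Cfsg.Agent.H701.Chev.pok Cfsg.Lie.ChevalleyDatum.chainRoot Cfsg.Lie.ChevalleyDatum.reflectRoot; rewrite [Cfsg.Agent.ChevFast.F4.cartan, Cfsg.Agent.ChevFast.F4.chainEntry, Cfsg.Agent.ChevFast.F4.commTerms, Cfsg.Agent.ChevFast.F4.neg]; open scoped Cfsg.Agent.ChevFast.Lin in decide +kernel)

theorem pok_orb {l : List ℕ} (hl : ∀ i ∈ l, i < chevF4.rank) {v v' : ℕ} (hv : v < 48) (hv' : v' < 48)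
    (h : pok v v' = true) : pok (orb chevF4 l v) (orb chevF4 l v') = true := by
  induction l with
  | nil => exact h
  | cons i l ih =>
    have hl' : ∀ j ∈ l, j < chevF4.rank := fun j hj => hl j (List.mem_cons_of_mem _ hj)
    exact pok_closed i (hl i List.mem_cons_self) _ (orb_lt memF4 hl' hv) _ (orb_lt memF4 hl' hv')
      (ih hl')

section

variable {K : Type*} [Field K] [CharP K 2]

open Cfsg.Agent.ChevalleyStructure.TwF4.Rel (X cm comm_rel W)
open Cfsg.Agent.ChevalleyStructure.TwF4.Tables (wordK)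

theorem X_eq (r : ℕ) (t : K) : X r t = xG memF4 r t := Units.ext rfl

theorem wordK_nil (t u : K) : wordK t u [] = [] := rfl

theorem central_of_cm {r : ℕ} (hr : 24 ≤ r) (hr' : r < 48)
    (h : ∀ s, 24 ≤ s → s < 48 → s ≠ r → cm r s = []) (t : K) :
    ∀ u ∈ chevF4.posUnipotent K, u * xG memF4 r t = xG memF4 r t * u := by
  have G := RootComb.good_of_mem memF4
  have key : chevF4.posUnipotent K ≤ Subgroup.centralizer ({xG memF4 r t} : Set (GL chevF4.Idx K)) := by
    unfold ChevalleyDatum.posUnipotent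
    rw [Subgroup.closure_le]
    rintro g ⟨s, c, hs, hg⟩
    rw [SetLike.mem_coe, Subgroup.mem_centralizer_singleton_iff]
    have hgx : g = xG memF4 s c := Units.ext hg
    rw [hgx]
    by_cases hsr : s = r
    · subst hsr
      rw [xG_add, xG_add, add_comm]
    · rw [G.isPosRoot_iff] at hs
      obtain ⟨h1, h2⟩ := hs
      have h1' : 24 ≤ s := h1
      have h2' : s < 48 := h2
      have h3 := comm_rel (K := K) r s hr hr' h1' h2' (Ne.symm hsr) t c
      rw [h s h1' h2' hsr, wordK_nil] at h3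
      rw [← X_eq, ← X_eq, h3]
      simp
  intro u hu
  exact Subgroup.mem_centralizer_singleton_iff.1 (key hu)

theorem cm_44 : ∀ s, 24 ≤ s → s < 48 → s ≠ 44 → cm 44 s = [] := by
  intro s h1 h2 h3
  interval_cases s <;> first | rfl | exact absurd rfl h3

theorem cm_47 : ∀ s, 24 ≤ s → s < 48 → s ≠ 47 → cm 47 s = [] := by
  intro s h1 h2 h3
  interval_cases s <;> first | rfl | exact absurd rfl h3

/-- **the two classes of involutions** -/
theorem not_conj_F4 {a b : K} (ha : a ≠ 0) (hb : b ≠ 0) : ∀ g ∈ chevF4.group K,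
    g * (xG memF4 44 a * xG memF4 47 b) * g⁻¹ ≠ xG memF4 33 1 * xG memF4 24 1 := by
  intro g hg he
  have hD := memF4
  have G := RootComb.good_of_mem memF4
  have hcen : ∀ u ∈ chevF4.posUnipotent K, u * (xG memF4 44 a * xG memF4 47 b) =
      (xG memF4 44 a * xG memF4 47 b) * u := by
    intro u hu
    rw [← mul_assoc, central_of_cm (by norm_num) (by norm_num) cm_44 a u hu, mul_assoc,
      central_of_cm (by norm_num) (by norm_num) cm_47 b u hu, mul_assoc]
  obtain ⟨u, hu, m, hm, e⟩ := conj_central hD hcen hg he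
  obtain ⟨l, hl, hact⟩ := actsW_of_mem hD hm
  obtain ⟨c, hc0, hct⟩ := hact 44 (by decide +kernel)
  obtain ⟨d, hd0, hdt⟩ := hact 47 (by decide +kernel)
  have e1 : m * (xG memF4 44 a * xG memF4 47 b) * m⁻¹ =
      xG memF4 (orb chevF4 l 44) (c * a) * xG memF4 (orb chevF4 l 47) (d * b) := by
    rw [← hct, ← hdt]
    group
  rw [e1] at e
  have hp := pok_orb hl (v := 44) (v' := 47) (by norm_num) (by norm_num) (by decide +kernel)
  have hvlt := orb_lt hD (l := l) hl (r := 44) (by decide +kernel)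
  have hvlt' := orb_lt hD (l := l) hl (r := 47) (by decide +kernel)
  have hca : c * a ≠ 0 := mul_ne_zero hc0 ha
  have hdb : d * b ≠ 0 := mul_ne_zero hd0 hb
  obtain ⟨v, hv⟩ : ∃ v, v = orb chevF4 l 44 := ⟨_, rfl⟩
  obtain ⟨v', hv'⟩ : ∃ v', v' = orb chevF4 l 47 := ⟨_, rfl⟩
  rw [← hv] at e hp hvlt
  rw [← hv'] at e hp hvlt'
  have p33 : chevF4.IsPosRoot 33 := by decide +kernel
  have p24 : chevF4.IsPosRoot 24 := by decide +kernel
  have s0 : chevF4.simple 0 = 33 := by decide +kernel
  have s3 : chevF4.simple 3 = 24 := by decide +kernel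
  have hyU : xG memF4 33 (1 : K) * xG memF4 24 1 ∈ chevF4.posUnipotent K :=
    mul_mem (xG_mem_posUnipotent hD p33 _) (xG_mem_posUnipotent hD p24 _)
  have hwU : xG memF4 v (c * a) * xG memF4 v' (d * b) ∈ chevF4.posUnipotent K := by
    have : xG memF4 v (c * a) * xG memF4 v' (d * b) =
        u⁻¹ * (xG memF4 33 (1 : K) * xG memF4 24 1) * u := by rw [e]; group
    rw [this]
    exact mul_mem (mul_mem (inv_mem hu) hyU) hu
  have hn0 : xG memF4 33 (1 : K) * xG memF4 24 1 ∉ Up chevF4 K 0 := by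
    have := two_simple_notMem (F := K) (a := 1) (b := 1) hD (i := 0) (j := 3) (by decide +kernel)
      (by decide +kernel) (by decide +kernel) one_ne_zero
    rwa [s0, s3] at this
  have hn3 : xG memF4 33 (1 : K) * xG memF4 24 1 ∉ Up chevF4 K 3 := by
    intro h
    have k1 : xG memF4 33 (1 : K) ∈ Up chevF4 K 3 := xG_mem_Up hD p33 (by decide +kernel) 1
    have k2 : xG hD (chevF4.simple 3) 1 ∈ Up chevF4 K 3 := by
      have := mul_mem (inv_mem k1) h
      rw [inv_mul_cancel_left] at this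
      rwa [s3]
    exact one_ne_zero (simple_mem_Up hD (by decide +kernel) k2)
  have hneg : ∀ w < chevF4.nroots, ¬ chevF4.IsPosRoot w → chevF4.IsNegRoot w := by
    intro w hw h
    rw [G.isPosRoot_iff] at h
    rw [G.isNegRoot_iff]
    omega
  by_cases pv : chevF4.IsPosRoot v
  · by_cases pv' : chevF4.IsPosRoot v'
    · have h0 : v = 33 ∨ v' = 33 := by
        by_contra hcon
        push Not at hcon
        apply hn0
        rw [e]
        exact conj_mem_Up hD (by decide +kernel) hu
          (mul_mem (xG_mem_Up hD pv (by rw [s0]; exact hcon.1) _)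
            (xG_mem_Up hD pv' (by rw [s0]; exact hcon.2) _))
      have h3 : v = 24 ∨ v' = 24 := by
        by_contra hcon
        push Not at hcon
        apply hn3
        rw [e]
        exact conj_mem_Up hD (by decide +kernel) hu
          (mul_mem (xG_mem_Up hD pv (by rw [s3]; exact hcon.1) _)
            (xG_mem_Up hD pv' (by rw [s3]; exact hcon.2) _))
      rcases h0 with h0 | h0 <;> rcases h3 with h3 | h3
      · omega
      · rw [h0, h3] at hp
        exact absurd hp (by decide +kernel)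
      · rw [h0, h3] at hp
        exact absurd hp (by decide +kernel)
      · omega
    · have h1 : xG memF4 v' (d * b) ∈ chevF4.posUnipotent K := by
        have := mul_mem (inv_mem (xG_mem_posUnipotent hD pv (c * a))) hwU
        rwa [inv_mul_cancel_left] at this
      have h2 := eq_one_of_pos_neg hD h1 (xG_mem_negUnipotent hD (hneg v' hvlt' pv') _)
      rw [xG_eq_one_iff hD hvlt'] at h2
      exact hdb h2
  · by_cases pv' : chevF4.IsPosRoot v'
    · have h1 : xG memF4 v (c * a) ∈ chevF4.posUnipotent K := by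
        have := mul_mem hwU (inv_mem (xG_mem_posUnipotent hD pv' (d * b)))
        rwa [mul_inv_cancel_right] at this
      have h2 := eq_one_of_pos_neg hD h1 (xG_mem_negUnipotent hD (hneg v hvlt pv) _)
      rw [xG_eq_one_iff hD hvlt] at h2
      exact hca h2
    · have h2 := eq_one_of_pos_neg hD hwU (mul_mem
        (xG_mem_negUnipotent hD (hneg v hvlt pv) _) (xG_mem_negUnipotent hD (hneg v' hvlt' pv') _))
      rw [h2, mul_one, mul_inv_cancel] at e
      exact hn0 (by rw [e]; exact one_mem _)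

end

section

open Cfsg.Agent.KFacts.TwF4 Cfsg.Agent.KFacts.TwF4.Inst
open Cfsg.Agent.ChevalleyStructure.TwF4.TwistedFix (Rln)
open Cfsg.Agent.ChevalleyStructure.TwF4.Rel (X)

variable {K : Type*} [Field K] [CharP K 2] [Finite K] {φ : K →+* K} {e : ℕ}

theorem coe_re (hφ : Rln φ e) (u : K) : ((re hφ 2 0 u : ↥(twistedF4 K e)) : GL chevF4.Idx K) =
    xG memF4 44 u * xG memF4 47 (φ u) := by
  show Cfsg.Agent.Octagon.KRel.xe φ 29 41 44 47 0 u = _
  unfold Cfsg.Agent.Octagon.KRel.xe
  rw [X_eq, X_eq, X_eq, X_eq]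
  simp [xG_zero]

theorem coe_ro (hφ : Rln φ e) (u : K) : ((ro hφ 0 u : ↥(twistedF4 K e)) : GL chevF4.Idx K) =
    xG memF4 33 u * xG memF4 24 (φ u) := by
  show Cfsg.Agent.Octagon.KRel.xo φ 33 24 u = _
  unfold Cfsg.Agent.Octagon.KRel.xo
  rw [X_eq, X_eq]

theorem not_conj_tw (hφ : Rln φ e) : ¬ IsConj (re hφ 2 0 1) (ro hφ 0 1) := by
  intro h
  obtain ⟨g, hg⟩ := isConj_iff.1 h
  have h1 := congrArg Subtype.val hg
  have h2 : (g : GL chevF4.Idx K) * ((re hφ 2 0 1 : ↥(twistedF4 K e)) : GL chevF4.Idx K) *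
      (g : GL chevF4.Idx K)⁻¹ = ((ro hφ 0 1 : ↥(twistedF4 K e)) : GL chevF4.Idx K) := h1
  rw [coe_re, coe_ro, map_one] at h2
  exact not_conj_F4 one_ne_zero one_ne_zero _ (genSubgroup_le memF4 _ g.2) h2

theorem order_two_re (hφ : Rln φ e) : orderOf (re hφ 2 0 1) = 2 := by
  rw [← Subgroup.orderOf_coe, coe_re, map_one]
  have hc : Commute (xG memF4 44 (1 : K)) (xG memF4 47 1) :=
    central_of_cm (by norm_num) (by norm_num) cm_47 1 _
      (xG_mem_posUnipotent memF4 (by decide +kernel) 1)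
  apply orderOf_eq_prime
  · rw [hc.mul_pow, xG_pow_char, xG_pow_char, one_mul]
  · intro h
    apply not_conj_F4 (K := K) one_ne_zero one_ne_zero 1 (one_mem _)
    rw [h]
    exfalso
    have h1 : xG memF4 44 (1 : K) = (xG memF4 47 1)⁻¹ := eq_inv_of_mul_eq_one_left h
    have h3 : (re hφ 2 0 1 : ↥(twistedF4 K e)) = 1 := by
      apply Subtype.ext
      rw [coe_re, map_one, h]
      rfl
    have h4 : (re hφ 2 0 0 : ↥(twistedF4 K e)) = 1 := by
      apply Subtype.ext
      rw [coe_re, map_zero, xG_zero, xG_zero, one_mul]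
      rfl
    exact one_ne_zero ((sys hφ).injE 2 0 1 0 0 (h3.trans h4.symm)).2

theorem order_two_ro (hφ : Rln φ e) : orderOf (ro hφ 0 1) = 2 := by
  rw [← Subgroup.orderOf_coe, coe_ro, map_one]
  have hc : Commute (xG memF4 33 (1 : K)) (xG memF4 24 1) :=
    commute_of_orth' memF4 (by decide +kernel) _ _
  apply orderOf_eq_prime
  · rw [hc.mul_pow, xG_pow_char, xG_pow_char, one_mul]
  · intro h
    have := two_simple_notMem (F := K) (a := 1) (b := 1) memF4 (i := 0) (j := 3) (by decide +kernel)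
      (by decide +kernel) (by decide +kernel) one_ne_zero
    rw [show chevF4.simple 0 = 33 by decide +kernel, show chevF4.simple 3 = 24 by decide +kernel,
      h] at this
    exact this (one_mem _)

/-- the order of a torus element -/
theorem orderOf_torus (hφ : Rln φ e) {a : ZMod 8} {h : ↥(twistedF4 K e)} {c d : Kˣ}
    (hh : ∀ a p u, h * re hφ a p u * h⁻¹ =
      re hφ a ((chE φ a c d : K) * p) ((chE φ a c d : K) * φ (chE φ a c d : K) * u)) :
    orderOf (chE φ a c d) ∣ orderOf h := by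
  have key : ∀ k : ℕ, ∃ v, h ^ k * re hφ a 1 0 * (h ^ k)⁻¹ = re hφ a ((chE φ a c d : K) ^ k) v := by
    intro k
    induction k with
    | zero => exact ⟨0, by simp only [_root_.pow_zero, _root_.one_mul, _root_.inv_one, _root_.mul_one]⟩
    | succ k ih =>
      obtain ⟨v, hv⟩ := ih
      have e1 : h ^ (k + 1) * re hφ a 1 0 * (h ^ (k + 1))⁻¹ =
          h * (h ^ k * re hφ a 1 0 * (h ^ k)⁻¹) * h⁻¹ := by
        rw [pow_succ']; group
      rw [e1, hv, hh, pow_succ']
      exact ⟨_, rfl⟩
  obtain ⟨v, hv⟩ := key (orderOf h)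
  rw [pow_orderOf_eq_one, one_mul, inv_one, mul_one] at hv
  have h1 := ((sys hφ).injE a _ _ _ _ hv).1
  apply orderOf_dvd_of_pow_eq_one
  apply Units.ext
  rw [Units.val_pow_eq_pow_val, Units.val_one, ← h1]

theorem ex2_tw (hφ : Rln φ e) {l : ℕ} (hl : l.Prime) (hl2 : l ≠ 2) {ζ : Kˣ} (hζ : orderOf ζ = l) :
    Ex2 (twistedF4 K e) := by
  obtain ⟨h₁, -, -, hE₁⟩ := exists_torus hφ (Units.map (φ : K →* K) ζ) ζ
  obtain ⟨h₂, -, hO₂, hE₂⟩ := exists_torus hφ ζ ζ⁻¹
  have hl2' : ¬ l ∣ 2 := fun h => hl2 ((Nat.prime_dvd_prime_iff_eq hl Nat.prime_two).1 h)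
  refine Ex2.of_prime (y₁ := re hφ 2 0 1) (y₂ := ro hφ 0 1) hl ?_ ?_
    (prime_dvd_centralizer (z := h₁) ?_ ?_) (prime_dvd_centralizer (z := h₂) ?_ ?_)
    (not_conj_tw hφ)
  · rw [order_two_re, order_two_ro]
  · rw [order_two_re]; exact hl2'
  · have h := hE₁ 2 0 1
    rw [chE_two, div_self'] at h
    simp only [Units.val_one, map_one, mul_one, one_mul, mul_zero] at h
    exact (mul_inv_eq_iff_eq_mul.1 h).symm
  · have h := orderOf_torus hφ (a := 1) hE₁
    rwa [chE_one, hζ] at h
  · have h := hO₂ 0 1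
    rw [chO, chE_zero, zero_add, chE_one, mul_inv_cancel, Units.val_one, one_mul] at h
    exact (mul_inv_eq_iff_eq_mul.1 h).symm
  · have h := orderOf_torus hφ (a := 0) hE₂
    rwa [chE_zero, hζ] at h

end

/-- **`²F₄(q)`, `q > 2`** -/
theorem ex2_twistedF4 {K : Type*} [Field K] [Fintype K] {m : ℕ} (hm : 1 ≤ m)
    (hK : Fintype.card K = 2 ^ (2 * m + 1)) : Ex2 (twistedF4 K (2 ^ m)) := by
  haveI : CharP K 2 := Cfsg.Agent.ChevalleyStructure.TwF4.Twisted.charP_two hK
  obtain ⟨φ, hφ⟩ := Cfsg.Agent.ChevalleyStructure.TwF4.TwistedFix.exists_rln hK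
  haveI : Finite Kˣ := inferInstance
  have hc : Nat.card Kˣ = 2 ^ (2 * m + 1) - 1 := by
    rw [Nat.card_units, Nat.card_eq_fintype_card, hK]
  have hpow : 2 ^ (2 * m + 1) = 2 * 2 ^ (2 * m) := by rw [pow_succ]; ring
  have hge : 1 ≤ 2 ^ (2 * m) := Nat.one_le_two_pow
  have hge2 : 4 ≤ 2 ^ (2 * m) := by
    calc 4 = 2 ^ 2 := by norm_num
      _ ≤ 2 ^ (2 * m) := Nat.pow_le_pow_right (by norm_num) (by omega)
  obtain ⟨l, hl, hld⟩ := Nat.exists_prime_and_dvd (n := 2 ^ (2 * m + 1) - 1) (by omega)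
  haveI : Fact l.Prime := ⟨hl⟩
  obtain ⟨ζ, hζ⟩ := exists_prime_orderOf_dvd_card' (G := Kˣ) l (by rw [hc]; exact hld)
  refine ex2_tw hφ hl ?_ hζ
  rintro rfl
  omega

end Chev

end Cfsg.Agent.H701
end

-- part: H701/TitsEx
section
/-!
# `Ex2` for the Tits group

Two elements `g₁, g₂` of order 8 of `²F₄(2)` whose fourth powers are not conjugate: `g₁⁴, g₂⁴` have order 2 and
`g₁², g₂²` have order 4.
-/

set_option autoImplicit false
set_option linter.all false

namespace Cfsg.Agent.H701

/-- `Ex2` of a subgroup containing the squares -/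
theorem Ex2.of_sq {Γ : Type*} [Group Γ] (T : Subgroup Γ) (hT : ∀ g : Γ, g * g ∈ T) {g₁ g₂ y₁ y₂ : Γ}
    (h₁ : g₁ ^ 4 = y₁) (h₂ : g₂ ^ 4 = y₂) (o₁ : orderOf y₁ = 2) (o₂ : orderOf y₂ = 2)
    (nc : ¬ IsConj y₁ y₂) : Ex2 T := by
  have key : ∀ g y : Γ, g ^ 4 = y → orderOf y = 2 → orderOf (g * g) = 4 := by
    intro g y h o
    have e1 : (g * g) ^ 2 = y := by rw [← h, ← pow_two, ← pow_mul]
    have h1 : ¬ (g * g) ^ 2 ^ 1 = 1 := by
      rw [pow_one, e1]
      intro h
      rw [h, orderOf_one] at o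
      omega
    have h2 : (g * g) ^ 2 ^ (1 + 1) = 1 := by
      have : (g * g) ^ 2 ^ (1 + 1) = ((g * g) ^ 2) ^ 2 := by rw [← pow_mul]; norm_num
      rw [this, e1, ← o, pow_orderOf_eq_one]
    exact orderOf_eq_prime_pow h1 h2
  have hy : ∀ g y : Γ, g ^ 4 = y → y = (g * g) * (g * g) := by
    intro g y h
    rw [← h, pow_succ, pow_succ, pow_two]; group
  have hmem : ∀ g y : Γ, g ^ 4 = y → y ∈ T := by
    intro g y h
    rw [hy g y h]
    exact mul_mem (hT g) (hT g)
  refine Or.inr ⟨⟨y₁, hmem _ _ h₁⟩, ⟨y₂, hmem _ _ h₂⟩, ⟨g₁ * g₁, hT g₁⟩, ⟨g₂ * g₂, hT g₂⟩, ?_, ?_, ?_, ?_, ?_⟩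
  · rw [← Subgroup.orderOf_coe, ← Subgroup.orderOf_coe, o₁, o₂]
  · rw [← Subgroup.orderOf_coe, ← Subgroup.orderOf_coe, key _ _ h₁ o₁, key _ _ h₂ o₂]
  · rw [← Subgroup.orderOf_coe, ← Subgroup.orderOf_coe, key _ _ h₁ o₁, o₁]
    norm_num
  · intro h
    exact nc (T.subtype.map_isConj h)
  · intro h
    have h1 : IsConj (g₁ * g₁) (g₂ * g₂) := T.subtype.map_isConj h
    have h2 := IsConj.pow 2 h1
    apply nc
    rw [hy _ _ h₁, hy _ _ h₂, ← pow_two (g₁ * g₁), ← pow_two (g₂ * g₂)]
    exact h2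

open Cfsg.Lie Cfsg.Agent.ChevalleyStructure
open Cfsg.Agent.KFacts.TwF4 Cfsg.Agent.KFacts.TwF4.Inst
open Cfsg.Agent.ChevalleyStructure.TwF4.TwistedFix (Rln)
open Cfsg.Agent.ChevalleyStructure.TwF4.Rel
open Cfsg.Agent.ChevalleyStructure.TwF4.Tables
open Cfsg.Agent.ChevalleyStructure.TwF4.TitsPerfect (wd wd_cons wd_nil wd_append)

theorem rln_two : Rln (RingHom.id (ZMod 2)) 1 := ⟨by decide, by decide, by norm_num⟩

theorem wd_eq_of_chk (l l' : List ℕ)
    (h : chkWord (l.map fun r => (r, 0, 0)) (l'.map fun r => (r, 0, 0)) = true) : wd l = wd l' := by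
  have h1 := W_eq_of_chkWord _ _ h (1 : ZMod 2) 1
  have key : ∀ l : List ℕ, wordK (1 : ZMod 2) 1 (l.map fun r => (r, 0, 0)) = l.map fun r => (r, 1) := by
    intro l
    induction l with
    | nil => rfl
    | cons a l ih =>
      show (a, (1 : ZMod 2) ^ 0 * 1 ^ 0) :: _ = _
      simp only [List.map_cons, pow_zero, mul_one]
      congr 1
  rw [key, key] at h1
  exact h1

theorem wd_mul (l l' : List ℕ) : wd l * wd l' = wd (l ++ l') := wd_append l l'

set_option maxRecDepth 100000 in
theorem g1_pow : (re rln_two 1 1 0 * re rln_two 4 0 1) ^ 4 = re rln_two 2 0 1 := by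
  apply Subtype.ext
  show (((re rln_two 1 1 0 : ↥(twistedF4 (ZMod 2) 1)) : GL chevF4.Idx (ZMod 2)) *
    ((re rln_two 4 0 1 : ↥(twistedF4 (ZMod 2) 1)) : GL chevF4.Idx (ZMod 2))) ^ 4 =
    ((re rln_two 2 0 1 : ↥(twistedF4 (ZMod 2) 1)) : GL chevF4.Idx (ZMod 2))
  have e1 : ((re rln_two 1 1 0 : ↥(twistedF4 (ZMod 2) 1)) : GL chevF4.Idx (ZMod 2)) = wd [34, 26, 36] := by
    show Cfsg.Agent.Octagon.KRel.xe (RingHom.id (ZMod 2)) 34 26 36 42 1 0 = _
    unfold Cfsg.Agent.Octagon.KRel.xe
    rw [wd_cons, wd_cons, wd_cons, wd_nil]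
    simp [X_zero, mul_assoc]
  have e2 : ((re rln_two 4 0 1 : ↥(twistedF4 (ZMod 2) 1)) : GL chevF4.Idx (ZMod 2)) = wd [28, 30] := by
    show Cfsg.Agent.Octagon.KRel.xe (RingHom.id (ZMod 2)) 27 25 28 30 0 1 = _
    unfold Cfsg.Agent.Octagon.KRel.xe
    rw [wd_cons, wd_cons, wd_nil]
    simp [X_zero, mul_assoc]
  have e3 : ((re rln_two 2 0 1 : ↥(twistedF4 (ZMod 2) 1)) : GL chevF4.Idx (ZMod 2)) = wd [44, 47] := by
    show Cfsg.Agent.Octagon.KRel.xe (RingHom.id (ZMod 2)) 29 41 44 47 0 1 = _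
    unfold Cfsg.Agent.Octagon.KRel.xe
    rw [wd_cons, wd_cons, wd_nil]
    simp [X_zero, mul_assoc]
  rw [e1, e2, e3, wd_mul, pow_succ, pow_succ, pow_succ, pow_one, wd_mul, wd_mul, wd_mul]
  exact wd_eq_of_chk _ _ (by decide +kernel)

set_option maxRecDepth 100000 in
theorem g2_pow : (ro rln_two 0 1 * (re rln_two 2 1 0 * re rln_two 4 0 1)) ^ 4 = ro rln_two 2 1 := by
  apply Subtype.ext
  show (((ro rln_two 0 1 : ↥(twistedF4 (ZMod 2) 1)) : GL chevF4.Idx (ZMod 2)) *
    (((re rln_two 2 1 0 : ↥(twistedF4 (ZMod 2) 1)) : GL chevF4.Idx (ZMod 2)) *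
    ((re rln_two 4 0 1 : ↥(twistedF4 (ZMod 2) 1)) : GL chevF4.Idx (ZMod 2)))) ^ 4 =
    ((ro rln_two 2 1 : ↥(twistedF4 (ZMod 2) 1)) : GL chevF4.Idx (ZMod 2))
  have e1 : ((re rln_two 2 1 0 : ↥(twistedF4 (ZMod 2) 1)) : GL chevF4.Idx (ZMod 2)) = wd [29, 41, 44] := by
    show Cfsg.Agent.Octagon.KRel.xe (RingHom.id (ZMod 2)) 29 41 44 47 1 0 = _
    unfold Cfsg.Agent.Octagon.KRel.xe
    rw [wd_cons, wd_cons, wd_cons, wd_nil]
    simp [X_zero, mul_assoc]
  have e2 : ((re rln_two 4 0 1 : ↥(twistedF4 (ZMod 2) 1)) : GL chevF4.Idx (ZMod 2)) = wd [28, 30] := by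
    show Cfsg.Agent.Octagon.KRel.xe (RingHom.id (ZMod 2)) 27 25 28 30 0 1 = _
    unfold Cfsg.Agent.Octagon.KRel.xe
    rw [wd_cons, wd_cons, wd_nil]
    simp [X_zero, mul_assoc]
  have e3 : ((ro rln_two 0 1 : ↥(twistedF4 (ZMod 2) 1)) : GL chevF4.Idx (ZMod 2)) = wd [33, 24] := by
    show Cfsg.Agent.Octagon.KRel.xo (RingHom.id (ZMod 2)) 33 24 1 = _
    unfold Cfsg.Agent.Octagon.KRel.xo
    rw [wd_cons, wd_cons, wd_nil]
    simp [X_zero, mul_assoc]
  have e4 : ((ro rln_two 2 1 : ↥(twistedF4 (ZMod 2) 1)) : GL chevF4.Idx (ZMod 2)) = wd [39, 45] := by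
    show Cfsg.Agent.Octagon.KRel.xo (RingHom.id (ZMod 2)) 39 45 1 = _
    unfold Cfsg.Agent.Octagon.KRel.xo
    rw [wd_cons, wd_cons, wd_nil]
    simp [X_zero, mul_assoc]
  rw [e1, e2, e3, e4, wd_mul, wd_mul, pow_succ, pow_succ, pow_succ, pow_one, wd_mul, wd_mul, wd_mul]
  exact wd_eq_of_chk _ _ (by decide +kernel)

theorem ex2_tits : Ex2 TitsGroup := by
  have hT : ∀ g : ↥(twistedF4 (ZMod 2) 1), g * g ∈ commutator ↥(twistedF4 (ZMod 2) 1) := by
    intro g
    have h := Cfsg.Agent.ChevalleyStructure.TwF4.TitsPerfect.index_dvd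
    have h1 : (QuotientGroup.mk g : ↥(twistedF4 (ZMod 2) 1) ⧸ commutator ↥(twistedF4 (ZMod 2) 1)) ^ 2 = 1 := by
      apply orderOf_dvd_iff_pow_eq_one.1
      exact (orderOf_dvd_natCard _).trans h
    rw [← QuotientGroup.mk_pow, QuotientGroup.eq_one_iff, pow_two] at h1
    exact h1
  have hc : IsConj (ro rln_two 0 1) (ro rln_two 2 1) := by
    have h1 : IsConj (ro rln_two 0 (1 : ZMod 2)) (ro rln_two 1 1) :=
      isConj_iff.2 ⟨_, rot_ro rln_two 0 1⟩
    have h2 : IsConj (ro rln_two 1 (1 : ZMod 2)) (ro rln_two 2 1) :=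
      isConj_iff.2 ⟨_, rot_ro rln_two 1 1⟩
    exact h1.trans h2
  refine Ex2.of_sq _ hT g1_pow g2_pow (Chev.order_two_re rln_two) ?_ ?_
  · exact (orderOf_eq_of_isConj hc).symm.trans (Chev.order_two_ro rln_two)
  · intro h
    exact Chev.not_conj_tw rln_two (h.trans hc.symm)

theorem ex2_of_isoTits {G : Type*} [Group G] (h : IsoTits G) : Ex2 G := by
  obtain ⟨e⟩ := h
  exact @Ex2.congr TitsGroup G (Subgroup.toGroup _) _ e.symm ex2_tits

end Cfsg.Agent.H701
end

-- part: H701/SporCo1
section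
set_option autoImplicit false

/-!
The Conway group `Co1`: the classes 2A (octads) and 2B.
-/

namespace Cfsg.Agent.H701

open Subgroup Cfsg
open Cfsg.Agent.SporadicA.Co0Mono
open Cfsg.Agent.SporadicA.Co1Simple (allOne exists_sign_perm N)
open Cfsg.Agent.CoOneType.SignFacts (wt wt_add_allOne sign_allOne_comm)
open Cfsg.Agent.CoOneType.ClosingFacts (mk mk_mul mk_inv exists_mk mk_eq_one mk_eq)
open Cfsg.Agent.CoOneType.CentOctad (C0 mem_C0)
open Cfsg.Agent.KFacts.Co1D4

theorem three_dvd_octad {o : golayCode} (ho : wt o = 8) :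
    3 ∣ Nat.card (Subgroup.centralizer ({_root_.Cfsg.Agent.CoOneType.ClosingFacts.mk (signCo0 o)} : Set Spor.Co1)) := by
  have : Finite Co0 := Cfsg.Agent.CoOneType.FrameFix.finite_co0
  let f : C0 o →* Spor.Co1 := (QuotientGroup.mk' (Subgroup.center Co0)).comp (C0 o).subtype
  have hker : Nat.card f.ker ≤ 2 := by
    have h1 : Set.MapsTo (fun x : C0 o => (x : Co0)) (f.ker : Set (C0 o))
        ({1, signCo0 allOne} : Set Co0) := by
      intro x hx
      have h2 : ((x : Co0) : Spor.Co1) = 1 := hx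
      exact (Cfsg.Agent.CoOneType.ClosingFacts.mk_eq_one (x : Co0)).1 h2
    have h2 := Set.ncard_le_ncard_of_injOn _ h1 (Subtype.val_injective.injOn) (Set.toFinite _)
    exact (Nat.card_coe_set_eq _).trans_le (h2.trans (Set.ncard_insert_le _ _ |>.trans
      (by rw [Set.ncard_singleton])))
  have hrange : f.range ≤ Subgroup.centralizer ({_root_.Cfsg.Agent.CoOneType.ClosingFacts.mk (signCo0 o)} : Set Spor.Co1) := by
    rintro _ ⟨x, rfl⟩
    rw [Subgroup.mem_centralizer_singleton_iff]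
    have h1 := mem_C0.1 x.2
    exact congrArg (fun y : Co0 => (y : Spor.Co1)) h1
  have hmul : Nat.card f.range * Nat.card f.ker = Nat.card (C0 o) := by
    rw [← Nat.card_congr (QuotientGroup.quotientKerEquivRange f).toEquiv, mul_comm]
    exact f.ker.card_mul_index
  have h3 : 3 ∣ Nat.card (C0 o) := by
    have h4 : Nat.card ↥(N ⊓ C0 o) ∣ Nat.card (C0 o) := card_dvd_of_le inf_le_right
    rw [KFacts.Co1.Perf.card_inf ho] at h4
    exact (by norm_num : 3 ∣ 4096 * 322560).trans h4
  rw [← hmul] at h3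
  rcases (Nat.Prime.dvd_mul Nat.prime_three).1 h3 with h | h
  · exact h.trans (card_dvd_of_le hrange)
  · have := Nat.le_of_dvd Nat.card_pos h
    omega

theorem ex2_co1 {K : Type*} [Group K] [Finite K] (h : Cfsg.Spor.IsoCo1 K) : Ex2 K := by
  obtain ⟨e⟩ := h
  have : Finite Cfsg.Spor.Co1 := Finite.of_equiv K e.toEquiv
  obtain ⟨o, ho⟩ := Cfsg.Agent.CoOneType.ClosingCo1.exists_octad
  have h1 : 89181388800 ≤ Nat.card (centralizer ({_root_.Cfsg.Agent.CoOneType.ClosingFacts.mk (signCo0 o)} : Set Spor.Co1)) :=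
    Cfsg.Agent.CoOneType.CentOctad.card_centralizer ho
  have h2 : Nat.card (centralizer ({TwoB.w} : Set Spor.Co1)) ≤ 2012774400 :=
    Cent.card_cent1 TwoB.k_sq
  have h3 : Nat.card GTwo.L ∣ Nat.card (centralizer ({TwoB.w} : Set Spor.Co1)) :=
    card_dvd_of_le fun l hl => Subgroup.mem_centralizer_singleton_iff.2 (TwoB.Lw l hl)
  rw [GTwo.card_L] at h3
  refine Ex2.congr e.symm (Ex2.of_inv (l := 3) (x := _root_.Cfsg.Agent.CoOneType.ClosingFacts.mk (signCo0 o)) (y := TwoB.w) ?_ ?_
    TwoB.ww TwoB.w_ne Nat.prime_three (by norm_num) ?_ (three_dvd_octad ho)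
    ((by norm_num : 3 ∣ 251596800).trans h3))
  · rw [← mk_mul, signCo0_mul_self]; rfl
  · exact KFacts.Co1.InCo1.z_ne_one ho
  · intro hc
    have h4 := card_centralizer_eq_of_isConj hc
    omega

end Cfsg.Agent.H701
end

-- part: H701/SporJ4
section
set_option autoImplicit false

/-!
Janko's fourth group: two classes of involutions.
-/

namespace Cfsg.Agent.H701

open Subgroup Cfsg
open scoped Pointwise

namespace M24Three

open Cfsg.Agent.SporadicStructure.M24El Cfsg.Agent.SporadicA.GolayBase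
  Cfsg.Agent.SporadicA.GolayPerm

/-- an element of order 3 with 6 fixed points -/
def P : ℕ := 608904050958025961267132235064367296

theorem ok_P : ok P = true := by decide +kernel

/-- an element of order 3 with 6 fixed points -/
noncomputable def g : M24 := el P

theorem g_cube : g * g * g = 1 := by
  rw [g, ← el_pcomp ok_P ok_P, ← el_pcomp (ok_pcomp ok_P ok_P) ok_P, ← el_idP]
  congr 1

theorem g_fix {i : ℕ} (hi : i = 0 ∨ i = 9 ∨ i = 13 ∨ i = 15) : g • pt i = pt i := by
  rw [g, el_smul_pt ok_P]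
  rcases hi with rfl | rfl | rfl | rfl <;> decide +kernel

theorem g_ne : g ≠ 1 := by
  intro h
  have h1 : g • pt 1 = pt 1 := by rw [h, one_smul]
  rw [g, el_smul_pt ok_P] at h1
  revert h1
  decide +kernel

/-- four fixed points -/
def S : Finset GolayPt := {pt 0, pt 9, pt 13, pt 15}

theorem card_S : S.card = 4 := by decide +kernel

theorem pt_ne : pt 0 ≠ pt 9 := by decide +kernel

theorem smul_S : (g : Equiv.Perm GolayPt) • S = S := by
  have h : ∀ p ∈ S, (g : Equiv.Perm GolayPt) • p = p := by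
    intro p hp
    simp only [S, Finset.mem_insert, Finset.mem_singleton] at hp
    rcases hp with rfl | rfl | rfl | rfl <;> exact g_fix (by simp)
  ext p
  rw [Finset.mem_smul_finset]
  constructor
  · rintro ⟨q, hq, rfl⟩
    rwa [h q hq]
  · intro hp
    exact ⟨p, hp, h p hp⟩

theorem smul_pair : (g : Equiv.Perm GolayPt) • ({pt 0, pt 9} : Finset GolayPt) = {pt 0, pt 9} := by
  have h : ∀ p ∈ ({pt 0, pt 9} : Finset GolayPt), (g : Equiv.Perm GolayPt) • p = p := by
    intro p hp
    simp only [Finset.mem_insert, Finset.mem_singleton] at hp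
    rcases hp with rfl | rfl <;> exact g_fix (by simp)
  ext p
  rw [Finset.mem_smul_finset]
  constructor
  · rintro ⟨q, hq, rfl⟩
    rwa [h q hq]
  · intro hp
    exact ⟨p, hp, h p hp⟩

end M24Three

open M24Three Cfsg.Agent.J4Type Cfsg.Agent.KFacts.J4

theorem ex2_j4 {K : Type*} [Group K] (h : Cfsg.Spor.IsoJ4 K) : Ex2 K := by
  obtain ⟨_, _, ⟨F⟩⟩ := Base.exists_full h
  let C := F.C
  have key : ∀ T : Finset GolayPt, Even T.card → (g : Equiv.Perm GolayPt) • T = T →
      C.ε T * C.φ g = C.φ g * C.ε T := by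
    intro T hT hg
    have h1 := C.π_smul ⟨C.φ g, C.φ_mem g⟩ T hT
    rw [C.π_φ, hg] at h1
    have h2 : C.φ g * C.ε T * (C.φ g)⁻¹ = C.ε T := h1
    calc C.ε T * C.φ g = (C.φ g * C.ε T * (C.φ g)⁻¹) * C.φ g := by rw [h2]
      _ = C.φ g * C.ε T := by group
  have hφ : orderOf (C.φ g) = 3 := by
    apply orderOf_eq_prime
    · rw [pow_succ, pow_two, ← map_mul, ← map_mul, g_cube, map_one]
    · intro h1
      have h2 := C.π_φ g
      have h3 : (⟨C.φ g, C.φ_mem g⟩ : normalizer (C.E hex0 : Set K)) = 1 := Subtype.ext h1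
      rw [h3, map_one] at h2
      exact g_ne h2.symm
  have hS : Even S.card := by rw [card_S]; decide
  have hP : Even ({Cfsg.Agent.SporadicA.GolayBase.pt 0,
      Cfsg.Agent.SporadicA.GolayBase.pt 9} : Finset GolayPt).card := DFour.even_two pt_ne
  have hx : C.ε S * C.ε S = 1 := (C.E_elem hex0 HexMax.hex0_isHex).1 _ (C.ε_mem _ hS)
  have hy := DFour.sq_duad C.toFrame pt_ne
  have hSz : IsConj C.z (C.ε S) := DuadCent.isConj_four C.toFrame card_S
  refine Ex2.of_inv (l := 3) (x := C.ε S) (y := C.ε {Cfsg.Agent.SporadicA.GolayBase.pt 0,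
      Cfsg.Agent.SporadicA.GolayBase.pt 9}) hx (DFour.ne_one_four C.toFrame card_S) hy ?_
      Nat.prime_three (by norm_num) ?_
      (dvd_card_centralizer (key _ hS smul_S) (by rw [hφ]))
      (dvd_card_centralizer (key _ hP smul_pair) (by rw [hφ]))
  · intro h1
    have h2 : IsCode _ := (C.ε_ker _ hP).1 h1
    have h3 := Cfsg.Agent.SporadicA.GolayBase.card_of_mem_supports h2
    rw [Finset.card_pair pt_ne] at h3
    omega
  · intro hc
    exact C.duad_not_conj _ _ pt_ne (hSz.trans hc)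

end Cfsg.Agent.H701
end

-- part: H701/SporM22
section
set_option autoImplicit false

/-!
The Mathieu group `M₂₂`: elements of orders 7 and 11.
-/

namespace Cfsg.Agent.H701

open Subgroup Cfsg.Agent.H565.Fix Cfsg.Agent.H701.Golay

/-- commuting elements of `M₂₂` of prime orders -/
theorem m22_comm {x s : Cfsg.Spor.M22} (hc : (s : Cfsg.Spor.M22) * x = x * s) {p : ℕ} (hp : p.Prime)
    (hx : orderOf x = p) :
    (Fx (s : Equiv.Perm GolayPt)).card ≡ (Fx (s : Equiv.Perm GolayPt) ∩ Fx (x : Equiv.Perm GolayPt)).card [MOD p] ∧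
      2 ≤ (Fx (s : Equiv.Perm GolayPt) ∩ Fx (x : Equiv.Perm GolayPt)).card := by
  constructor
  · refine card_mod_comm hp ?_ (congrArg Subtype.val hc).symm
    rw [← hx, ← orderOf_coe, pow_orderOf_eq_one]
  · have h1 : ({none, some 0} : Finset GolayPt) ⊆
        Fx (s : Equiv.Perm GolayPt) ∩ Fx (x : Equiv.Perm GolayPt) := by
      intro q hq
      rw [Finset.mem_insert, Finset.mem_singleton] at hq
      rw [Finset.mem_inter, mem_Fx, mem_Fx]
      rcases hq with rfl | rfl
      · exact ⟨s.2.1.2, x.2.1.2⟩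
      · exact ⟨s.2.2, x.2.2⟩
    have h2 := Finset.card_le_card h1
    rwa [Finset.card_pair (by simp)] at h2

theorem ex2_m22 {K : Type*} [Group K] [Finite K] (h : Cfsg.Spor.IsoM22 K) : Ex2 K := by
  have hcard : Nat.card K = 443520 := Cfsg.Agent.NotCT.Orders.m22 h
  obtain ⟨e⟩ := h
  have hcard' : Nat.card Cfsg.Spor.M22 = 443520 := by
    rw [← hcard]; exact (Nat.card_congr e.toEquiv).symm
  have hex : ∀ {x : Cfsg.Spor.M22} {r k : ℕ}, r.Prime →
      Nat.card (centralizer ({x} : Set Cfsg.Spor.M22)) = k → r ∣ k →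
      ∃ s : Cfsg.Spor.M22, s * x = x * s ∧ orderOf s = r := by
    intro x r k hr hk hrk
    have : Fact (Nat.Prime r) := ⟨hr⟩
    obtain ⟨s, hs⟩ := exists_prime_orderOf_dvd_card' (G := centralizer ({x} : Set Cfsg.Spor.M22)) r
      (by rw [hk]; exact hrk)
    exact ⟨s, mem_centralizer_singleton_iff.1 s.2, by rw [orderOf_coe, hs]⟩
  have hord : ∀ {x : Cfsg.Spor.M22} {r : ℕ}, orderOf x = r →
      orderOf (x : Equiv.Perm GolayPt) = r := by
    intro x r hx
    rw [orderOf_coe, hx]
  have h11 : Pair Cfsg.Spor.M22 11 := by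
    refine pair_of_sylow (m := 40320) (by norm_num) (by rw [hcard']) (by norm_num) ?_
    intro x hx c hc h1 h2
    have h3 : c ∣ 4032 := by
      rw [show (40320 : ℕ) = 4032 * (11 - 1) from rfl] at h1
      exact Nat.dvd_of_mul_dvd_mul_right (by norm_num) h1
    have h4 : Even c := by
      by_contra hodd
      have hcop : c.Coprime (2 ^ 6) :=
        Nat.Coprime.pow_right _ (Nat.coprime_two_right.2 (Nat.not_even_iff_odd.1 hodd))
      rw [show (4032 : ℕ) = 2 ^ 6 * 63 from rfl] at h3
      have h6 : c ∈ Nat.divisors 63 := Nat.mem_divisors.2 ⟨hcop.dvd_of_dvd_mul_left h3, by norm_num⟩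
      have h7 : ∀ c ∈ Nat.divisors 63, ¬ (40320 % 11 = c * (11 - 1) % 11) := by
        decide +kernel
      exact h7 c h6 h2
    obtain ⟨s, hs, hs2⟩ := hex Nat.prime_two hc (h4.two_dvd.mul_left _)
    have h8 := card_Fx_two s.2.1.1 (hord hs2) (p := none) s.2.1.2
    have h9 := card_Fx_eleven x.2.1.1 (hord hx)
    obtain ⟨h5, h6⟩ := m22_comm hs (by norm_num) hx
    have h7 := Finset.card_le_card (Finset.inter_subset_right
      (s₁ := Fx (s : Equiv.Perm GolayPt)) (s₂ := Fx (x : Equiv.Perm GolayPt)))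
    unfold Nat.ModEq at h5
    omega
  have h7 : Pair Cfsg.Spor.M22 7 := by
    refine pair_of_sylow (m := 63360) (by norm_num) (by rw [hcard']) (by norm_num) ?_
    intro x hx c hc h1 h2
    have h3 : c ∣ 10560 := by
      rw [show (63360 : ℕ) = 10560 * (7 - 1) from rfl] at h1
      exact Nat.dvd_of_mul_dvd_mul_right (by norm_num) h1
    have hx3 := card_Fx_seven x.2.1.1 (hord hx)
    by_cases h4 : Even c
    · obtain ⟨s, hs, hs2⟩ := hex Nat.prime_two hc (h4.two_dvd.mul_left _)
      have h8 := card_Fx_two s.2.1.1 (hord hs2) (p := none) s.2.1.2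
      obtain ⟨h5, h6⟩ := m22_comm hs (by norm_num) hx
      have h7 := Finset.card_le_card (Finset.inter_subset_right
        (s₁ := Fx (s : Equiv.Perm GolayPt)) (s₂ := Fx (x : Equiv.Perm GolayPt)))
      unfold Nat.ModEq at h5
      omega
    · have hcop : c.Coprime (2 ^ 6) :=
        Nat.Coprime.pow_right _ (Nat.coprime_two_right.2 (Nat.not_even_iff_odd.1 h4))
      rw [show (10560 : ℕ) = 2 ^ 6 * 165 from rfl] at h3
      have h6 : c ∈ Nat.divisors 165 := Nat.mem_divisors.2 ⟨hcop.dvd_of_dvd_mul_left h3, by norm_num⟩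
      have h7 : ∀ c ∈ Nat.divisors 165, 63360 % 7 = c * (7 - 1) % 7 → 11 ∣ c := by
        decide +kernel
      obtain ⟨s, hs, hs2⟩ := hex (by norm_num) hc ((h7 c h6 h2).mul_left _)
      have h8 := card_Fx_eleven s.2.1.1 (hord hs2)
      obtain ⟨h5, h6⟩ := m22_comm hs.symm (by norm_num) hs2
      have h7 := Finset.card_le_card (Finset.inter_subset_right
        (s₁ := Fx (x : Equiv.Perm GolayPt)) (s₂ := Fx (s : Equiv.Perm GolayPt)))
      unfold Nat.ModEq at h5
      omega
  exact Ex2.congr e.symm (Ex2.of_pairs h7 h11 (by norm_num))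

end Cfsg.Agent.H701
end

-- part: H701/SporM23
section
set_option autoImplicit false

/-!
The Mathieu group `M₂₃`: elements of orders 11 and 23.
-/

namespace Cfsg.Agent.H701

open Subgroup Cfsg.Agent.H565.Fix Cfsg.Agent.H701.Golay

/-- commuting elements of `M₂₃` of prime orders -/
theorem m23_comm {x s : Cfsg.Spor.M23} (hc : (s : Cfsg.Spor.M23) * x = x * s) {p : ℕ} (hp : p.Prime)
    (hx : orderOf x = p) :
    (Fx (s : Equiv.Perm GolayPt)).card ≡ (Fx (s : Equiv.Perm GolayPt) ∩ Fx (x : Equiv.Perm GolayPt)).card [MOD p] ∧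
      1 ≤ (Fx (s : Equiv.Perm GolayPt) ∩ Fx (x : Equiv.Perm GolayPt)).card := by
  constructor
  · refine card_mod_comm hp ?_ (congrArg Subtype.val hc).symm
    rw [← hx, ← orderOf_coe, pow_orderOf_eq_one]
  · apply Finset.card_pos.2
    refine ⟨none, ?_⟩
    rw [Finset.mem_inter, mem_Fx, mem_Fx]
    exact ⟨s.2.2, x.2.2⟩

theorem ex2_m23 {K : Type*} [Group K] [Finite K] (h : Cfsg.Spor.IsoM23 K) : Ex2 K := by
  have hcard : Nat.card K = 10200960 := Cfsg.Agent.NotCT.Orders.m23 h
  obtain ⟨e⟩ := h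
  have hcard' : Nat.card Cfsg.Spor.M23 = 10200960 := by
    rw [← hcard]; exact (Nat.card_congr e.toEquiv).symm
  have hex : ∀ {x : Cfsg.Spor.M23} {r k : ℕ}, r.Prime →
      Nat.card (centralizer ({x} : Set Cfsg.Spor.M23)) = k → r ∣ k →
      ∃ s : Cfsg.Spor.M23, s * x = x * s ∧ orderOf s = r := by
    intro x r k hr hk hrk
    have : Fact (Nat.Prime r) := ⟨hr⟩
    obtain ⟨s, hs⟩ := exists_prime_orderOf_dvd_card' (G := centralizer ({x} : Set Cfsg.Spor.M23)) r
      (by rw [hk]; exact hrk)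
    exact ⟨s, mem_centralizer_singleton_iff.1 s.2, by rw [orderOf_coe, hs]⟩
  have hord : ∀ {x : Cfsg.Spor.M23} {r : ℕ}, orderOf x = r →
      orderOf (x : Equiv.Perm GolayPt) = r := by
    intro x r hx
    rw [orderOf_coe, hx]
  have h11 : Pair Cfsg.Spor.M23 11 := by
    refine pair_of_sylow (m := 927360) (by norm_num) (by rw [hcard']) (by norm_num) ?_
    intro x hx c hc h1 h2
    have h3 : c ∣ 92736 := by
      rw [show (927360 : ℕ) = 92736 * (11 - 1) from rfl] at h1
      exact Nat.dvd_of_mul_dvd_mul_right (by norm_num) h1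
    have h4 : Even c := by
      by_contra hodd
      have hcop : c.Coprime (2 ^ 6) :=
        Nat.Coprime.pow_right _ (Nat.coprime_two_right.2 (Nat.not_even_iff_odd.1 hodd))
      rw [show (92736 : ℕ) = 2 ^ 6 * 1449 from rfl] at h3
      have h6 : c ∈ Nat.divisors 1449 := Nat.mem_divisors.2 ⟨hcop.dvd_of_dvd_mul_left h3, by norm_num⟩
      have h7 : ∀ c ∈ Nat.divisors 1449, ¬ (927360 % 11 = c * (11 - 1) % 11) := by
        decide +kernel
      exact h7 c h6 h2
    obtain ⟨s, hs, hs2⟩ := hex Nat.prime_two hc (h4.two_dvd.mul_left _)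
    have h8 := card_Fx_two s.2.1 (hord hs2) (p := none) s.2.2
    have h9 := card_Fx_eleven x.2.1 (hord hx)
    obtain ⟨h5, h6⟩ := m23_comm hs (by norm_num) hx
    have h7 := Finset.card_le_card (Finset.inter_subset_right
      (s₁ := Fx (s : Equiv.Perm GolayPt)) (s₂ := Fx (x : Equiv.Perm GolayPt)))
    unfold Nat.ModEq at h5
    omega
  have h23 : Pair Cfsg.Spor.M23 23 := by
    refine pair_of_sylow (m := 443520) (by norm_num) (by rw [hcard']) (by norm_num) ?_
    intro x hx c hc h1 h2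
    have h3 : c ∣ 20160 := by
      rw [show (443520 : ℕ) = 20160 * (23 - 1) from rfl] at h1
      exact Nat.dvd_of_mul_dvd_mul_right (by norm_num) h1
    have hx3 := card_Fx_23 x.2.1 (hord hx)
    have hc1 : c ≠ 1 := by
      rintro rfl
      norm_num at h2
    have hr := Nat.minFac_prime hc1
    have hrc := Nat.minFac_dvd c
    set r := c.minFac with hrdef
    obtain ⟨s, hs, hs2⟩ := hex hr hc (hrc.mul_left _)
    have h20 : r ∣ 20160 := hrc.trans h3
    have hfix := fix_le s.2.1 s.2.2 hr (hord hs2) (h20.trans (by norm_num))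
    have hr4 : r = 2 ∨ r = 3 ∨ r = 5 ∨ r = 7 := by
      rw [show (20160 : ℕ) = 2 ^ 6 * (3 ^ 2 * (5 * 7)) from rfl] at h20
      rcases (Nat.Prime.dvd_mul hr).1 h20 with h | h
      · exact Or.inl ((Nat.prime_dvd_prime_iff_eq hr Nat.prime_two).1 (hr.dvd_of_dvd_pow h))
      rcases (Nat.Prime.dvd_mul hr).1 h with h | h
      · exact Or.inr (Or.inl ((Nat.prime_dvd_prime_iff_eq hr Nat.prime_three).1
          (hr.dvd_of_dvd_pow h)))
      rcases (Nat.Prime.dvd_mul hr).1 h with h | h
      · exact Or.inr (Or.inr (Or.inl ((Nat.prime_dvd_prime_iff_eq hr Nat.prime_five).1 h)))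
      · exact Or.inr (Or.inr (Or.inr ((Nat.prime_dvd_prime_iff_eq hr (by norm_num)).1 h)))
    have h3' : 3 ≤ (Fx (s : Equiv.Perm GolayPt)).card := by
      refine le_trans ?_ hfix
      rcases hr4 with h | h | h | h <;> rw [h] <;> decide
    obtain ⟨h5, h6⟩ := m23_comm hs (by norm_num) hx
    have h7 := Finset.card_le_card (Finset.inter_subset_right
      (s₁ := Fx (s : Equiv.Perm GolayPt)) (s₂ := Fx (x : Equiv.Perm GolayPt)))
    have h24 : (Fx (s : Equiv.Perm GolayPt)).card ≤ 24 := Finset.card_le_univ _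
    have h24' : (Fx (s : Equiv.Perm GolayPt)).card = 24 := by
      unfold Nat.ModEq at h5
      (clear * - hx3 h3' h5 h6 h7 h24; omega)
    have h1' := eq_one_of_card_Fx h24'
    have h2' := hord hs2
    rw [h1', orderOf_one] at h2'
    exact hr.one_lt.ne h2'
  exact Ex2.congr e.symm (Ex2.of_pairs h11 h23 (by norm_num))

end Cfsg.Agent.H701
end

private theorem dce_3f3f262f5464 : _root_.True := by
  try have : _root_.True := by simp only [_root_.Cfsg.Agent.KFacts.TwF4.chO.eq_1]
  try have : _root_.True := by simp only [_root_.Cfsg.Agent.LieClassical.OmegaCenter.eichler.congr_simp]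
  try have : _root_.True := by simp only [_root_.Cfsg.Agent.H701.tv.congr_simp]
  try have : _root_.True := by simp only [_root_.Cfsg.Agent.KFacts.TwF4.Inst.re.congr_simp]
  try have : _root_.True := by simp only [_root_.Cfsg.Agent.H701.Orth.ei.congr_simp]
  try have : _root_.True := by simp only [_root_.Cfsg.Agent.H701.M24Three.g.eq_1]
  try have : _root_.True := by simp only [_root_.Cfsg.Agent.H701.M24Three.S.eq_1]
  exact _root_.True.intro
end

-- part: H701/SporB_mg
section
set_option linter.all false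
open scoped Cfsg.Agent.FastGrp

-- part: H701/SporB
section
set_option autoImplicit false

/-!
The Baby Monster: two classes of involutions.
-/

namespace Cfsg.Agent.H701

open Subgroup Cfsg.Agent.BabyM Cfsg.Agent.BabyM.Model Cfsg.Agent.BabyU Cfsg.Agent.BabyU.ClosModel

theorem ex2_b {K : Type*} [Group K] [Finite K] (h : Cfsg.Spor.IsoB K) : Ex2 K := by
  obtain ⟨e⟩ := h
  let e' := e.trans Cfsg.Agent.BM.KHAll.iso
  have hfin : Finite Inst.M.G := Finite.of_equiv K e'.toEquiv
  have I := F8Inner.inner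
  have hz : 3 ∣ Nat.card (centralizer ({zz Instance.all} : Set Inst.M.G)) := by
    have h1 : Inst.M.C.subgroupOf Inst.M.G ≤ centralizer ({zz Instance.all} : Set Inst.M.G) := by
      intro g hg
      rw [mem_centralizer_singleton_iff]
      exact Subtype.ext (Instance.all.grp.z_comm g hg)
    have h2 := card_dvd_of_le h1
    rw [Nat.card_congr (Subgroup.subgroupOfEquivOfLe (Instance.all.C_le_G)).toEquiv,
      Instance.all.grp.card_C] at h2
    exact (by norm_num : 3 ∣ 2 ^ 23 * 42305421312000).trans h2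
  have ht : 3 ∣ Nat.card (centralizer ({tt Instance.all} : Set Inst.M.G)) := by
    have h1 : Nat.card (centralizer ({tt Instance.all} : Set Inst.M.G)) = 306129918735099415756800 :=
      Instance.all.card_cent (TransFields.bTrans Instance.all)
    rw [h1]
    norm_num
  refine Ex2.congr e'.symm (Ex2.of_inv (l := 3) (x := tt Instance.all) (y := zz Instance.all)
    I.t_sq I.t_ne I.z_sq I.z_ne Nat.prime_three (by norm_num) ?_ ht hz)
  intro hc
  obtain ⟨g, hg⟩ := isConj_iff.1 hc
  exact I.z_notin ⟨g, mem_top g, hg⟩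

end Cfsg.Agent.H701
end

-- part: H701/SporFi22
section
set_option autoImplicit false

/-!
The Fischer group `Fi22`: a transposition and a product of two commuting transpositions.
-/

namespace Cfsg.Agent.H701

open Subgroup Cfsg Cfsg.Spor

theorem card_PSU_four {F : Type} [Field F] [Fintype F] (hF : Fintype.card F = 4) :
    Nat.card (PSU 4 F 2) = 25920 := by
  have h := Cfsg.Agent.S0280.result (F := F) (q := 2) (by rw [hF]; norm_num) 4 (by norm_num)
  have e : (∏ i ∈ Finset.range 4, (if Even i then 2 ^ (i + 1) + 1 else 2 ^ (i + 1) - 1)) =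
      3 * 3 * 9 * 15 := by
    decide
  have e2 : Nat.gcd 4 (2 + 1) = 1 := by norm_num
  rw [e, e2] at h
  norm_num at h
  omega

theorem ex2_fi22 {K : Type*} [Group K] [Finite K] (h : Cfsg.Spor.IsoFi22 K) : Ex2 K := by
  obtain ⟨e⟩ := h
  have : Finite Cfsg.Spor.Fi22 := Finite.of_equiv K e.toEquiv
  obtain ⟨d, d', R, F⟩ := Cfsg.Agent.KFacts.FiTT.has_of_iso (K := Spor.Fi22) ⟨MulEquiv.refl _⟩
  have h1 := Cfsg.Agent.CTwoTab.Fi22.card_cent F
  refine Ex2.congr e.symm (Ex2.of_inv (l := 3) (x := d) (y := d * d') F.dd F.d_ne ?_ ?_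
    Nat.prime_three (by norm_num) ?_ ?_ ?_)
  · calc d * d' * (d * d') = d' * d * (d * d') := by rw [← F.comm]
      _ = d' * (d * d) * d' := by group
      _ = 1 := by rw [F.dd, mul_one, F.dd']
  · intro hdd
    exact F.ne (by rw [← mul_one d, ← F.dd', ← mul_assoc, hdd, one_mul])
  · intro hc
    have h2 := card_centralizer_eq_of_isConj hc
    rw [h1] at h2
    have h3 := card_mul_index (centralizer ({d * d'} : Set Spor.Fi22))
    rw [← h2, F.card] at h3
    have h4 := F.odd
    have h5 : (centralizer ({d * d'} : Set Spor.Fi22)).index = 3510 := by omega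
    rw [h5] at h4
    revert h4
    decide
  · rw [h1]; norm_num
  · obtain ⟨F', _, _, hF', f, hf, -⟩ := F.quoR
    have h2 : Nat.card (PSU 4 F' 2) ∣ Nat.card (centralizer ({d, d'} : Set Spor.Fi22)) :=
      Subgroup.card_dvd_of_surjective f hf
    have h3 : Nat.card (centralizer ({d, d'} : Set Spor.Fi22)) ∣
        Nat.card (centralizer ({d * d'} : Set Spor.Fi22)) := by
      apply card_dvd_of_le
      intro x hx
      obtain ⟨h4, h5⟩ := Cfsg.Agent.CTwoTab.Fi22.mem_pair.1 hx
      exact mem_centralizer_singleton_iff.2 (Cfsg.Agent.CTwoTab.Fi22.comm_mul h4 h5)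
    rw [card_PSU_four hF'] at h2
    exact ((by norm_num : 3 ∣ 25920).trans h2).trans h3

end Cfsg.Agent.H701
end

-- part: H701/SporFi23
section
set_option autoImplicit false

/-!
The Fischer group `Fi23`: a transposition and a product of two commuting transpositions.
-/

namespace Cfsg.Agent.H701

open Subgroup
open Cfsg.Agent.Fischer.Fi23Nets
open Cfsg.Agent.Fischer.Fi23Z Cfsg.Agent.Fischer.Fi23Hom Cfsg.Agent.Fischer.Fi23Rel
open Cfsg.Agent.Fischer Cfsg.Agent.Fischer.Fi23Class Cfsg.Agent.Fischer.Fi23Simple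
open Cfsg.Agent.KFacts.FiTTh.Cent
open Cfsg.Spor Cfsg.Spor.Fi23
open Cfsg.Agent.CTwoTab.Fi23

theorem ex2_fi23 {K : Type*} [Group K] [Finite K] (h : Cfsg.Spor.IsoFi23 K) : Ex2 K := by
  obtain ⟨e⟩ := h
  have : Finite Cfsg.Spor.Fi23 := Finite.of_equiv K e.toEquiv
  obtain ⟨π, hπ, -⟩ := exists_pi2
  have h1 : Nat.card U ∣ Nat.card ↥(centralizer Ds2) := Subgroup.card_dvd_of_surjective π hπ
  rw [card_U] at h1
  have h3 : 3 ∣ Nat.card ↥(centralizer Ds2) := (by norm_num : 3 ∣ 9196830720).trans h1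
  have hz : Nat.card ↥(centralizer Ds2) ∣ Nat.card ↥(centralizer ({z0} : Set Fi23)) :=
    card_dvd_of_le fun x hx => mem_centralizer_singleton_iff.2 (mem_cent2.1 hx).1
  have hw : Nat.card ↥(centralizer Ds2) ∣ Nat.card ↥(centralizer ({z0 * gen .a} : Set Fi23)) := by
    refine card_dvd_of_le fun x hx => mem_centralizer_singleton_iff.2 ?_
    obtain ⟨h4, h5⟩ := mem_cent2.1 hx
    rw [← mul_assoc, h4, mul_assoc, h5, mul_assoc]
  have hzz : (z0 : Fi23) * z0 = 1 := Cfsg.Agent.KFacts.FiTTh.Cent.zz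
  refine Ex2.congr e.symm (Ex2.of_inv (l := 3) (x := z0) (y := z0 * gen .a) hzz z0_one ?_ ?_
    Nat.prime_three (by norm_num) not_conj2 (h3.trans hz) (h3.trans hw))
  · calc (z0 : Fi23) * gen .a * (z0 * gen .a) = (z0 * gen .a) * (gen .a * z0) := by rw [comm_za]
      _ = z0 * (gen .a * gen .a) * z0 := by group
      _ = 1 := by rw [aa, mul_one, hzz]
  · intro h4
    have h5 := c2
    have h6 : centralizer ({z0 * gen .a} : Set Fi23) = ⊤ := by
      rw [h4, eq_top_iff]
      intro x _
      rw [mem_centralizer_singleton_iff, mul_one, one_mul]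
    apply h5
    rw [h6, card_top]
    exact thirteen.trans (card_subgroup_dvd_card _)

end Cfsg.Agent.H701
end

-- part: H701/SporHe
section
set_option autoImplicit false

/-!
The Held group: two classes of involutions.
-/

namespace Cfsg.Agent.H701

open Subgroup Cfsg Cfsg.Spor Cfsg.Spor.He
open Cfsg.Agent.SporadicRecognition.HeldModel
open Cfsg.Agent.KFacts.He.Lv Cfsg.Agent.KFacts.He.TwoACent Cfsg.Agent.KFacts.He.TwoAPlane

theorem ex2_he {K : Type*} [Group K] [Finite K] (h : Cfsg.Spor.IsoHe K) : Ex2 K := by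
  obtain ⟨e⟩ := h
  have : Finite Cfsg.Spor.He := Finite.of_equiv K e.toEquiv
  have h1 : Nat.card (centralizer ({Cfsg.Agent.KFacts.He.Bound.z} : Set Cfsg.Spor.He)) = 21504 :=
    Cfsg.Agent.KFacts.He.Classes.card_centralizer
  have h2 : Nat.card ↥L ∣ Nat.card (centralizer ({gn .a} : Set Cfsg.Spor.He)) :=
    card_dvd_of_le Cfsg.Agent.CTwoTab.He.L_le_cent
  rw [Cfsg.Agent.CTwoTab.He.card_L] at h2
  obtain ⟨g, hg⟩ := Cfsg.Agent.KFacts.He.Classes.z_d
  have hd : (PresentedGroup.of Gen.d : Cfsg.Spor.He) * PresentedGroup.of Gen.d = 1 :=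
    gn_mul_self .d
  have h3 : Cfsg.Agent.KFacts.He.Bound.z * Cfsg.Agent.KFacts.He.Bound.z = 1 := by
    rw [← hg] at hd
    have h4 : g * (Cfsg.Agent.KFacts.He.Bound.z * Cfsg.Agent.KFacts.He.Bound.z) * g⁻¹ = 1 := by
      rw [← hd]; group
    exact conj_eq_one_iff.1 h4
  refine Ex2.congr e.symm (Ex2.of_inv (l := 3) (x := Cfsg.Agent.KFacts.He.Bound.z) (y := gn .a) h3
    Cfsg.Agent.KFacts.He.Hyp.z_ne_one (gn_mul_self .a) a_ne_one Nat.prime_three
    (by norm_num) ?_ ?_ ?_)
  · intro hc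
    rw [← card_centralizer_eq_of_isConj hc, h1] at h2
    revert h2
    norm_num
  · rw [h1]; norm_num
  · exact (by norm_num : 3 ∣ 4 * 20160).trans h2

end Cfsg.Agent.H701
end

-- part: H701/SporJ3
section
set_option autoImplicit false

/-!
The third Janko group: elements of order ten, from the centralizer `2^{1+4}.A₅`, and of order 19.
-/

namespace Cfsg.Agent.H701

open Subgroup

theorem ex2_j3 {K : Type*} [Group K] [Finite K] (h : Cfsg.Spor.IsoJ3 K) : Ex2 K := by
  have hcard : Nat.card K = 50232960 := Cfsg.Agent.NotCT.Orders.j3 h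
  obtain ⟨F, _, _, ω, hF, hω, ⟨e⟩⟩ := h
  have : Finite (Cfsg.Spor.J3 F ω) := Finite.of_equiv K e.toEquiv
  have hcard' : Nat.card (Cfsg.Spor.J3 F ω) = 50232960 := by
    rw [← hcard]; exact (Nat.card_congr e.toEquiv).symm
  obtain ⟨hone, t, ht, Q, hQ, -, hQ32, -, -, ⟨f⟩⟩ := Cfsg.Agent.S2135.result hF ω hω
  have hk : ∀ x ∈ (QuotientGroup.mk' Q).ker, x ^ 32 = 1 := by
    intro x hx
    rw [QuotientGroup.ker_mk'] at hx
    have := pow_card_eq_one' (x := (⟨x, hx⟩ : Q))
    rw [hQ32] at this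
    exact congrArg Subtype.val this
  have hC : Nat.card (centralizer ({t} : Set (Cfsg.Spor.J3 F ω))) = 1920 := by
    have h1 := card_eq_card_quotient_mul_card_subgroup Q
    have h2 := card_alt (k := 5) (by norm_num)
    rw [show (5 : ℕ).factorial = 120 from rfl] at h2
    rw [h1, Nat.card_congr f.toEquiv, hQ32,
      show Nat.card (alternatingGroup (Fin 5)) = 60 by omega]
  have h5 : Pair (centralizer ({t} : Set (Cfsg.Spor.J3 F ω))) 5 :=
    Pair.lift (QuotientGroup.mk' Q) (QuotientGroup.mk'_surjective _) (k := 32) hk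
      (by norm_num) (Pair.congr f.symm pair_alt_five)
  have h19 : Pair (Cfsg.Spor.J3 F ω) 19 := by
    refine pair_of_sylow (m := 2643840) (by norm_num) (by rw [hcard']) (by norm_num) ?_
    intro x hx c hc h1 h2
    have h3 : c ∣ 146880 := by
      rw [show (2643840 : ℕ) = 146880 * (19 - 1) from rfl] at h1
      exact Nat.dvd_of_mul_dvd_mul_right (by norm_num) h1
    have h4 : Even c := by
      by_contra hodd
      have hcop : c.Coprime (2 ^ 6) :=
        Nat.Coprime.pow_right _ (Nat.coprime_two_right.2 (Nat.not_even_iff_odd.1 hodd))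
      rw [show (146880 : ℕ) = 2 ^ 6 * 2295 from rfl] at h3
      have h6 : c ∈ Nat.divisors 2295 := Nat.mem_divisors.2 ⟨hcop.dvd_of_dvd_mul_left h3, by norm_num⟩
      have h7 : ∀ c ∈ Nat.divisors 2295, ¬ (2643840 % 19 = c * (19 - 1) % 19) := by
        (rewrite [Cfsg.Agent.Lib.DivFast.divisors_eq]; decide +kernel)
      exact h7 c h6 h2
    obtain ⟨s, hs⟩ : ∃ s : centralizer ({x} : Set (Cfsg.Spor.J3 F ω)), orderOf s = 2 := by
      have : Fact (Nat.Prime 2) := ⟨Nat.prime_two⟩
      exact exists_prime_orderOf_dvd_card' 2 (by rw [hc]; exact h4.two_dvd.mul_left _)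
    have hs' : orderOf (s : Cfsg.Spor.J3 F ω) = 2 := by rw [orderOf_coe, hs]
    have h5 := dvd_card_centralizer (y := (s : Cfsg.Spor.J3 F ω)) (z := x) (l := 19)
      (mem_centralizer_singleton_iff.1 s.2) (by rw [hx])
    rw [← card_centralizer_eq_of_isConj (hone t s ht hs'), hC] at h5
    revert h5
    norm_num
  exact Ex2.congr e.symm (Ex2.of_pairs (Pair.of_centralizer ht (by norm_num) h5) h19 (by norm_num))

end Cfsg.Agent.H701
end

-- part: H701/SporM
section
set_option autoImplicit false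

/-!
The Monster: two classes of involutions.
-/

namespace Cfsg.Agent.H701

open Subgroup Cfsg.Agent.MonsterX Cfsg.Agent.MonsterX.Model Cfsg.Agent.MonsterX.MainPack
open Cfsg.Agent.MonsterX.MainSimple Cfsg.Agent.MonsterX.MainBasic

theorem ex2_m {K : Type*} [Group K] [Finite K] (h : Cfsg.Spor.IsoM K) : Ex2 K := by
  obtain ⟨e⟩ := h
  obtain ⟨e'⟩ := Cfsg.Agent.MonsterP.Equiv.equiv
  have A := Cfsg.Agent.MonsterN.LitFin.all
  have hfin : Finite InstData.M.G := G_finite A.hO
  have h1 : Nat.card (centralizer ({zG A.hG} : Set InstData.M.G)) = 2 ^ 25 * 4157776806543360000 := by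
    rw [← card_C A.hG]
    refine Nat.card_congr (Equiv.ofBijective
      (fun x => (⟨(x : InstData.M.G), (mem_cent_iff A.hG A.hR A.hL A.hO A.hT _).1 x.2⟩ :
        InstData.M.C)) ⟨?_, ?_⟩)
    · intro a b hab
      apply Subtype.ext
      apply Subtype.ext
      exact congrArg (fun y : InstData.M.C => y.1) hab
    · intro c
      exact ⟨⟨⟨c, C_le c.2⟩, (mem_cent_iff A.hG A.hR A.hL A.hO A.hT _).2 c.2⟩, rfl⟩
  have h2 := card_cent_t A.hG A.hR A.hL A.hO A.hT
  have ht2 : orderOf (tG A.hG A.hR) = 2 := by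
    apply orderOf_eq_prime
    · rw [pow_two]
      exact Subtype.ext A.hR.t₀_sq
    · intro h
      rw [h] at h2
      have h3 : centralizer ({1} : Set InstData.M.G) = ⊤ := by
        rw [eq_top_iff]
        intro g _
        rw [mem_centralizer_singleton_iff, mul_one, one_mul]
      have h4 : Nat.card (centralizer ({zG A.hG} : Set InstData.M.G)) ∣
          Nat.card (centralizer ({1} : Set InstData.M.G)) := by
        rw [h3]
        exact card_dvd_of_le le_top
      rw [h1, h2] at h4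
      revert h4
      norm_num
  refine Ex2.congr (e.trans e').symm (Ex2.of_cards (x := zG A.hG) (y := tG A.hG A.hR) (n := 2)
    (l := 3) (orderOf_z A.hG) ht2 Nat.prime_three (by norm_num) h1 h2 (by norm_num)
    (by norm_num) (by norm_num))

end Cfsg.Agent.H701
end

-- part: H701/SporM11
section
set_option autoImplicit false

/-!
The Mathieu group `M₁₁`: elements of orders 8 and 11.
-/

namespace Cfsg.Agent.H701

open Subgroup

/-- an element of order eight -/
def glEight : GL (Fin 2) (ZMod 3) :=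
  ⟨!![0, 1; 1, 1], !![2, 1; 1, 0], by decide, by decide⟩

theorem orderOf_glEight : orderOf glEight = 8 := by
  refine orderOf_eq_prime_pow (p := 2) (n := 2) ?_ ?_
  · intro h
    have := congrArg Units.val h
    revert this
    decide
  · apply Units.ext
    decide

theorem ex2_m11 {K : Type*} [Group K] [Finite K] (h : Cfsg.Spor.IsoM11 K) : Ex2 K := by
  have hM := Cfsg.Agent.Cit.Eleven.isM11 h
  have := hM.1
  have : Fact (Nat.Prime 2) := ⟨Nat.prime_two⟩
  have : Fact (Nat.Prime 11) := ⟨by norm_num⟩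
  obtain ⟨u, hu⟩ := exists_prime_orderOf_dvd_card' (G := K) 2 (by rw [hM.2]; norm_num)
  obtain ⟨v, hv⟩ := exists_prime_orderOf_dvd_card' (G := K) 11 (by rw [hM.2]; norm_num)
  obtain ⟨f⟩ := Cfsg.Agent.SylowLFive.MElevenFacts.cent_equiv hM hu
  have h8 : orderOf ((f.symm glEight : centralizer ({u} : Set K)) : K) = 8 := by
    rw [orderOf_coe, MulEquiv.orderOf_eq, orderOf_glEight]
  exact Ex2.of_pairs
    (pair_of_not_dvd h8 (by rw [hM.2]; decide))
    (pair_of_inv hv (Cfsg.Agent.SporadicA.M11Sylow.not_isConj_inv hM hv)) (by norm_num)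

end Cfsg.Agent.H701
end

-- part: H701/SporRu
section
set_option autoImplicit false

/-!
The Rudvalis group: two classes of involutions.
-/

namespace Cfsg.Agent.H701

open Subgroup Cfsg

theorem ex2_ru {K : Type*} [Group K] [Finite K] (h : Cfsg.Spor.IsoRu K) : Ex2 K := by
  obtain ⟨C, -, -⟩ := Cfsg.Agent.CTwoTab.Ru.exists_core_sz h
  have h1 := Cfsg.Agent.Ru127.Sg.card_cent C
  obtain ⟨a, ha⟩ : ∃ a : ZMod 2 × ZMod 2, a ≠ 0 := exists_ne 0
  have h2 := Cfsg.Agent.Ru127.CardD.card_cent_v (C := C) ha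
  rw [top_inf_eq] at h2
  have hz1 : C.z 1 ≠ 1 := fun h => one_ne_zero (C.z_eq_one h)
  have hv1 : C.v a ≠ 1 := by
    intro h
    rw [h] at h2
    have h3 : centralizer ({(1 : K)} : Set K) = ⊤ := by
      rw [eq_top_iff]
      intro x _
      rw [mem_centralizer_singleton_iff, mul_one, one_mul]
    rw [h3, card_top] at h2
    have h4 := card_subgroup_dvd_card (centralizer ({C.z 1} : Set K))
    rw [h1, h2] at h4
    revert h4
    norm_num
  refine Ex2.of_cards (n := 2) (l := 5) (orderOf_eq_prime (by rw [pow_two, C.z_sq]) hz1)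
    (orderOf_eq_prime (by rw [pow_two, C.v_sq]) hv1) (by norm_num) (by norm_num) h1 h2
    (by norm_num) (by norm_num) (by norm_num)

end Cfsg.Agent.H701
end
end

-- part: H701/Known
section
set_option linter.all false
open scoped Cfsg.Agent.FastGrp

-- part: H701/SporA
section
set_option autoImplicit false

/-!
Janko's first group.
-/

namespace Cfsg.Agent.H701

/-- `J₁`, from its order alone -/
theorem ex2_j1 {K : Type*} [Group K] [Finite K] (h : Nat.card K = 175560) : Ex2 K := by
  refine Ex2.of_triple (triple_of_sylow (p := 19) (m := 9240) (by norm_num) (by rw [h])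
    (by norm_num) ?_ ?_)
  · rintro x - c - h -
    have h1 : 18 ∣ 9240 := (Dvd.intro_left c rfl).trans h
    revert h1
    decide
  · rintro x - c - h -
    have h1 : 9 ∣ 9240 := (Dvd.intro_left c rfl).trans h
    revert h1
    decide

end Cfsg.Agent.H701
end

-- part: H701/SporHN
section
set_option autoImplicit false

/-!
The Harada-Norton group: two classes of involutions.
-/

namespace Cfsg.Agent.H701

open Cfsg.Agent.KFacts.HN

theorem ex2_hn {K : Type*} [Group K] [Finite K] (h : Cfsg.Spor.IsoHN K) : Ex2 K := by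
  obtain ⟨e⟩ := h
  have : Finite Cfsg.Spor.HN := Finite.of_equiv K e.toEquiv
  refine Ex2.congr e.symm (Ex2.of_cards (x := Cfsg.Agent.HN.NormalH.ψ Cfsg.Agent.HN.H0Basic.τ)
    (n := 2) (l := 3)
    Cfsg.Agent.HN.TwoClasses.orderOf_ψτ
    (orderOf_eq_prime (by rw [pow_two, Cfsg.Agent.HN.XWords.W0_sq]) PCard.W0_ne_one) Nat.prime_three
    (by norm_num) Classes.card_centralizer_τ PCard.card_centralizer (by norm_num)
    (by norm_num) (by norm_num))

end Cfsg.Agent.H701
end

-- part: H701/SporHS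
section
set_option autoImplicit false

/-!
The Higman-Sims group: two classes of involutions.
-/

namespace Cfsg.Agent.H701

open Subgroup Cfsg Cfsg.Agent.KFacts.HS

theorem ex2_hs {K : Type*} [Group K] [Finite K] (h : Cfsg.Spor.IsoHS K) : Ex2 K := by
  obtain ⟨D⟩ := exists_mod h
  have h1 : Nat.card D.B6 ∣ Nat.card (centralizer ({D.s0} : Set K)) :=
    card_dvd_of_le fun x hx => mem_centralizer_singleton_iff.2 (D.s0_comm hx)
  rw [D.card_B6] at h1
  have h2 := D.card_cent_s0
  have h3 := D.card_centralizer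
  refine Ex2.of_inv (l := 3) (x := D.z) (y := D.s0) D.zz D.z1 D.s0_sq D.s0_ne Nat.prime_three
    (by norm_num) ?_ (by rw [h3]; norm_num) ((by norm_num : 3 ∣ 360).trans h1)
  intro hc
  have h4 := card_centralizer_eq_of_isConj hc
  omega

end Cfsg.Agent.H701
end

-- part: H701/SporJ2
section
set_option autoImplicit false

/-!
Janko's second group: two classes of involutions.
-/

namespace Cfsg.Agent.H701

open Subgroup Cfsg Cfsg.Agent.J2Type.Base Cfsg.Agent.OddHalf.D4.Spor Cfsg.Agent.OddHalf.D4.Spor.JTwo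

theorem ex2_j2 {K : Type*} [Group K] [Finite K] (h : Cfsg.Spor.IsoJ2 K) : Ex2 K := by
  obtain ⟨t, u, Q, v, ρ, D⟩ := Cfsg.Agent.KFacts.J2.Facts.exists_dat_of h
  obtain ⟨f, U, V, H0, F⟩ := Cfsg.Agent.J2Type.CentU.main D.F
  obtain ⟨e⟩ := equiv_H0 D F
  have h1 : Nat.card ↥H0 ∣ Nat.card (centralizer ({u} : Set K)) := card_dvd_of_le F.str.le
  have h2 : 3 ∣ Nat.card ↥H0 := by
    rw [Nat.card_congr e.toEquiv, nat_card_alternatingGroup, Nat.card_eq_fintype_card,
      Fintype.card_fin]
    decide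
  refine Ex2.of_prime (l := 3) Nat.prime_three (D.F.hz.trans D.F.hu.symm) ?_
    (by rw [D.F.cardC]; norm_num) (h2.trans h1) D.F.nconj
  rw [D.F.hz]
  norm_num

end Cfsg.Agent.H701
end

-- part: H701/SporLy
section
set_option autoImplicit false

/-!
The Lyons group: three classes of elements of order six, from the centralizer `2.A₁₁`.
-/

namespace Cfsg.Agent.H701

open Subgroup

theorem ex2_ly {K : Type*} [Group K] [Finite K] (h : Cfsg.Spor.IsoLy K) : Ex2 K := by
  obtain ⟨e⟩ := h
  have : Finite Cfsg.Spor.Ly := Finite.of_equiv K e.toEquiv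
  obtain ⟨-, h2, ⟨f⟩, -⟩ := Cfsg.Agent.R10.Close.cover_τ
  have h3 : Triple (centralizer ({Cfsg.Agent.R10.Close.τ} : Set Cfsg.Spor.Ly)) 3 := by
    refine Triple.lift (QuotientGroup.mk' (center _)) (QuotientGroup.mk'_surjective _) (k := 2) ?_
      (by norm_num) (Triple.congr f.symm (triple_alt (by norm_num)))
    intro x hx
    rw [QuotientGroup.ker_mk'] at hx
    have := pow_card_eq_one' (x := (⟨x, hx⟩ : center _))
    rw [h2] at this
    exact congrArg Subtype.val this
  exact Ex2.congr e.symm (Ex2.of_triple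
    (Triple.of_centralizer Cfsg.Agent.R10.Close.order_τ (by norm_num) h3))

end Cfsg.Agent.H701
end

-- part: H701/SporM12
section
set_option autoImplicit false

/-!
The Mathieu group `M₁₂`: two classes of involutions.
-/

namespace Cfsg.Agent.H701

open Cfsg.Agent.CoThreeStd

theorem ex2_m12 {K : Type*} [Group K] [Finite K] (h : Cfsg.Spor.IsoM12 K) : Ex2 K := by
  obtain ⟨e⟩ := h
  have : Finite Cfsg.Spor.M12 := Finite.of_equiv K e.toEquiv
  have hA := AutInv.isA_y
  have hB := AutInv.isB_pr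
  exact Ex2.congr e.symm (Ex2.of_cards (n := 2) (l := 3)
    (orderOf_eq_prime (by rw [pow_two, hA.1]) hA.2.1)
    (orderOf_eq_prime (by rw [pow_two, hB.1]) hB.2.1) Nat.prime_three
    (by norm_num) hA.2.2 hB.2.2 (by norm_num) (by norm_num) (by norm_num))

end Cfsg.Agent.H701
end

-- part: H701/SporM24
section
set_option autoImplicit false

/-!
The Mathieu group `M₂₄`: two classes of involutions.
-/

namespace Cfsg.Agent.H701

open Cfsg.Agent.KFacts.M24Two

theorem ex2_m24 {K : Type*} [Group K] [Finite K] (h : Cfsg.Spor.IsoM24 K) : Ex2 K := by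
  obtain ⟨e⟩ := h
  have : Finite Cfsg.M24 := Finite.of_equiv K e.toEquiv
  refine Ex2.congr e.symm (Ex2.of_cards (x := Count.z) (y := Count.w) (n := 2) (l := 3)
    (orderOf_eq_prime (by rw [pow_two, Count.zz]) Count.z_ne_one)
    (orderOf_eq_prime (by rw [pow_two, Count.ww]) Count.w_ne_one) Nat.prime_three
    (by norm_num) Orders.card_centralizer_z Orders.card_centralizer_w (by norm_num)
    (by norm_num) (by norm_num))

end Cfsg.Agent.H701
end

-- part: H701/SporMcL
section
set_option autoImplicit false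

/-!
The McLaughlin group: elements of orders six and fourteen, from the centralizer `2.A₈`.
-/

namespace Cfsg.Agent.H701

open Subgroup

theorem ex2_mcl {K : Type*} [Group K] [Finite K] (h : Cfsg.Spor.IsoMcL K) : Ex2 K := by
  obtain ⟨e⟩ := h
  have : Finite Cfsg.Spor.McL := Finite.of_equiv K e.toEquiv
  obtain ⟨-, t, ht, h2, ⟨f⟩, -⟩ := Cfsg.Agent.S2132.result
  have hk : ∀ x ∈ (QuotientGroup.mk' (center (centralizer ({t} : Set Cfsg.Spor.McL)))).ker,
      x ^ 2 = 1 := by
    intro x hx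
    rw [QuotientGroup.ker_mk'] at hx
    have := pow_card_eq_one' (x := (⟨x, hx⟩ : center _))
    rw [h2] at this
    exact congrArg Subtype.val this
  have h3 : Pair (centralizer ({t} : Set Cfsg.Spor.McL)) 3 :=
    Pair.lift (QuotientGroup.mk' (center _)) (QuotientGroup.mk'_surjective _) (k := 2) hk
      (by norm_num) (Pair.congr f.symm (pair_alt_three (by norm_num)))
  have h7 : Pair (centralizer ({t} : Set Cfsg.Spor.McL)) 7 :=
    Pair.lift (QuotientGroup.mk' (center _)) (QuotientGroup.mk'_surjective _) (k := 2) hk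
      (by norm_num) (Pair.congr f.symm pair_alt_seven)
  exact Ex2.congr e.symm (Ex2.of_pairs (Pair.of_centralizer ht (by norm_num) h3)
    (Pair.of_centralizer ht (by norm_num) h7) (by norm_num))

end Cfsg.Agent.H701
end

-- part: H701/SporSuz
section
set_option autoImplicit false

/-!
The Suzuki sporadic group: two classes of involutions.
-/

namespace Cfsg.Agent.H701

open Subgroup Cfsg Cfsg.Spor
open Cfsg.Agent.SporadicRecognition.SuzOrder Cfsg.Agent.SuzThree.Basic Cfsg.Agent.SuzThree.CentA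
  Cfsg.Agent.KFacts.SuzLFour Cfsg.Agent.KFacts.SuzTwoB

theorem ex2_suz {K : Type*} [Group K] [Finite K] (h : Cfsg.Spor.IsoSuz K) : Ex2 K := by
  obtain ⟨e⟩ := h
  have : Finite Cfsg.Spor.Suz := Finite.of_equiv K e.toEquiv
  have h1 : Nat.card (centralizer ({z0} : Set Cfsg.Spor.Suz)) = 3317760 :=
    Cfsg.Agent.KFacts.SuzCent.card_C1
  have h2 : Nat.card (centralizer ({e0} : Set Cfsg.Spor.Suz)) = 161280 :=
    Cfsg.Agent.KFacts.SuzTwoB.card_CE
  refine Ex2.congr e.symm (Ex2.of_cards (n := 2) (l := 3) 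
    (orderOf_eq_prime (by rw [pow_two]; exact Cfsg.Agent.KFacts.SuzLarge.large.z_sq)
      Cfsg.Agent.KFacts.SuzLarge.large.z_ne)
    (orderOf_eq_prime (by rw [pow_two, e0_sq]) e0_ne) Nat.prime_three (by norm_num) h1 h2
    (by norm_num) (by norm_num) (by norm_num))

end Cfsg.Agent.H701
end

-- part: H701/SporTh
section
set_option autoImplicit false

/-!
The Thompson group: three classes of elements of order six, from the centralizer `2^{1+8}.A₉`.
-/

namespace Cfsg.Agent.H701

open Subgroup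

theorem ex2_th {K : Type*} [Group K] [Finite K] (h : Cfsg.Spor.IsoTh K) : Ex2 K := by
  obtain ⟨e⟩ := h
  have : Finite Cfsg.Spor.Th := Finite.of_equiv K e.toEquiv
  obtain ⟨z, hz, Q, hQ, hc, -, ⟨f⟩⟩ := Cfsg.Agent.Th.Main475.main
  have h3 : Triple (centralizer ({z} : Set Cfsg.Spor.Th)) 3 := by
    refine Triple.lift (QuotientGroup.mk' Q) (QuotientGroup.mk'_surjective _) (k := 2 ^ 9) ?_
      (by norm_num) (Triple.congr f.symm (triple_alt (by norm_num)))
    intro x hx
    rw [QuotientGroup.ker_mk'] at hx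
    have := pow_card_eq_one' (x := (⟨x, hx⟩ : Q))
    rw [hc] at this
    exact congrArg Subtype.val this
  exact Ex2.congr e.symm (Ex2.of_triple (Triple.of_centralizer hz (by norm_num) h3))

end Cfsg.Agent.H701
end

-- part: H701/Known
section
set_option autoImplicit false

/-!
Every known simple group other than the groups of prime order, `A₅` and `PSL₂(7)` satisfies `Ex2`.
-/

namespace Cfsg.Agent.H701

open Cfsg

theorem ex2_of_isSporadic {G : Type*} [Group G] [Finite G] (h : IsSporadicGroup G) : Ex2 G := by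
  rcases h with h | h | h | h | h | h | h | h | h | h | h | h | h | h | h | h | h | h | h | h | h |
    h | h | h | h | h
  · exact ex2_m11 h
  · exact ex2_m12 h
  · exact ex2_m22 h
  · exact ex2_m23 h
  · exact ex2_m24 h
  · exact ex2_j1 (NotCT.Orders.j1 h)
  · exact ex2_j2 h
  · exact ex2_j3 h
  · exact ex2_j4 h
  · exact ex2_co1 h
  · exact ex2_co2 h
  · exact ex2_co3 h
  · exact ex2_mcl h
  · exact ex2_hs h
  · exact ex2_suz h
  · exact ex2_he h
  · exact ex2_ru h
  · exact ex2_on h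
  · exact ex2_ly h
  · exact ex2_fi22 h
  · exact ex2_fi23 h
  · exact ex2_fi24 h
  · exact ex2_hn h
  · exact ex2_th h
  · exact ex2_b h
  · exact ex2_m h

theorem ex2_of_isExceptional {G : Type*} [Group G] (h : IsExceptionalLieType G) : Ex2 G := by
  rcases h with h | h | h | h | h | h | h | h | h | h | h
  · obtain ⟨F, _, _, -, ⟨e⟩⟩ := h
    exact Ex2.congr e.symm Chev.ex2_G2
  · obtain ⟨F, _, _, ⟨e⟩⟩ := h
    exact Ex2.congr e.symm Chev.ex2_F4
  · obtain ⟨F, _, _, ⟨e⟩⟩ := h
    exact Ex2.congr e.symm Chev.ex2_E6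
  · obtain ⟨F, _, _, ⟨e⟩⟩ := h
    exact Ex2.congr e.symm Chev.ex2_E7
  · obtain ⟨F, _, _, ⟨e⟩⟩ := h
    exact Ex2.congr e.symm Chev.ex2_E8
  · obtain ⟨F, _, _, q, hq, hK, ⟨e⟩⟩ := h
    exact Ex2.congr e.symm (Chev.ex2_twistedE6 hq hK)
  · obtain ⟨F, _, _, q, hq, hK, ⟨e⟩⟩ := h
    exact Ex2.congr e.symm (Chev.ex2_twistedD4 hq hK)
  · exact ex2_of_isoSuzuki h
  · exact ex2_of_isoRee h
  · obtain ⟨F, _, _, m, hm, hK, ⟨e⟩⟩ := h
    exact Ex2.congr e.symm (Chev.ex2_twistedF4 hm hK)
  · exact ex2_of_isoTits h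

theorem card_ne_six {F : Type*} [Field F] [Fintype F] : Fintype.card F ≠ 6 := by
  intro h
  obtain ⟨p, hp⟩ := CharP.exists F
  obtain ⟨n, hp', hn⟩ := FiniteField.card F p
  rw [h] at hn
  have h2 : 2 ∣ p ^ (n : ℕ) := by rw [← hn]; norm_num
  have h3 : 3 ∣ p ^ (n : ℕ) := by rw [← hn]; norm_num
  have e2 := (Nat.prime_dvd_prime_iff_eq Nat.prime_two hp').1 (Nat.prime_two.dvd_of_dvd_pow h2)
  have e3 := (Nat.prime_dvd_prime_iff_eq Nat.prime_three hp').1
    (Nat.prime_three.dvd_of_dvd_pow h3)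
  omega

theorem ex2_or {G : Type*} [Group G] [Finite G] [IsSimpleGroup G] (hG : ¬ IsMulCommutative G)
    (h : IsKnownSimple' G) : Ex2 G ∨ Nonempty (G ≃* alternatingGroup (Fin 5)) ∨
      Nonempty (G ≃* Matrix.ProjectiveSpecialLinearGroup (Fin 2) (ZMod 7)) := by
  have h168 : Nat.card G = 168 → Nonempty (G ≃* Matrix.ProjectiveSpecialLinearGroup (Fin 2) (ZMod 7)) := by
    intro h
    have : Fact (Nat.Prime 7) := ⟨by norm_num⟩
    exact S0495.result h (F := ZMod 7) (ZMod.card 7)
  rcases h with h | h | h | h | h | h | h | h | h | h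
  · exfalso
    apply hG
    have h1 : Fact (Nat.card G).Prime := ⟨h⟩
    have h2 : IsCyclic G := isCyclic_of_prime_card (p := Nat.card G) rfl
    exact IsCyclic.isMulCommutative
  · obtain ⟨n, hn, ⟨e⟩⟩ := h
    rcases Nat.lt_or_ge n 6 with h6 | h6
    · have : n = 5 := by omega
      subst this
      exact Or.inr (Or.inl ⟨e⟩)
    · exact Or.inl (Ex2.congr e.symm (ex2_alt h6))
  · obtain ⟨F, _, _, n, hn, hq, ⟨e⟩⟩ := h
    by_cases hn2 : n = 2
    · subst hn2
      rcases Nat.lt_or_ge (Fintype.card F) 8 with h8 | h8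
      · have h4 := hq rfl
        have h6 := card_ne_six (F := F)
        have hc : Fintype.card F = 4 ∨ Fintype.card F = 5 ∨ Fintype.card F = 7 := by omega
        rcases hc with hc | hc | hc
        · obtain ⟨f⟩ := S0252.result hc
          exact Or.inr (Or.inl ⟨e.trans f⟩)
        · obtain ⟨f⟩ := S0253.result hc
          exact Or.inr (Or.inl ⟨e.trans f⟩)
        · refine Or.inr (Or.inr (h168 ?_))
          rw [Nat.card_congr e.toEquiv]
          exact SmallSimple.PSLFacts.card_psl_two_seven hc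
      · exact Or.inl (Ex2.congr e.symm (ex2_of_isPSL hn (fun _ => h8) (by omega)))
    · by_cases hn3 : n = 3 ∧ Fintype.card F = 2
      · obtain ⟨rfl, hc⟩ := hn3
        have : Fact (Nat.Prime 7) := ⟨by norm_num⟩
        obtain ⟨f⟩ := S0255.result (F := ZMod 7) (K := F) (ZMod.card 7) hc
        exact Or.inr (Or.inr ⟨e.trans f.symm⟩)
      · refine Or.inl (Ex2.congr e.symm (ex2_of_isPSL hn (fun h => absurd h hn2) ?_))
        intro h3
        have h2 : Fintype.card F ≠ 2 := fun h => hn3 ⟨h3, h⟩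
        have h1 : 1 < Fintype.card F := Fintype.one_lt_card
        omega
  · exact Or.inl (ex2_of_isPSp h)
  · exact Or.inl (Su.ex2_of_isPSU h)
  · exact Or.inl (Orth.ex2_of_odd h)
  · exact Or.inl (Orth.ex2_of_plus h)
  · exact Or.inl (Orth.ex2_of_minus h)
  · exact Or.inl (ex2_of_isExceptional h)
  · exact Or.inl (ex2_of_isSporadic h)

end Cfsg.Agent.H701
end
end
end
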